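import Cfsg.Agent.Lib.BG14.PDataBasic
import Cfsg.Agent.S1425

/-!
Fixed points of `K` and their conjugates.
-/

set_option autoImplicit false
set_option linter.style.haveILetI false
set_option linter.unusedSectionVars false

namespace CfsgLib.BG14

open Subgroup CfsgLib.PLocal CfsgLib.OddLocal CfsgLib.BG

universe u
variable {G : Type u} [Group G] [Finite G]

variable (hG : Cfsg.IsMinSimpleOddOrder G)
include hG

variable {M K U E : Subgroup G}

/-- `K` has one subgroup of each prime order. -/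
theorem PData.line_unique (d : PData M K U E) {g h : G} (hg : g ∈ K) (hh : h ∈ K)
    (hgp : (orderOf g).Prime) (ho : orderOf h = orderOf g) : zpowers g = zpowers h := by
  haveI := Fact.mk hgp
  have hA : zpowers h ≤ normalizer (zpowers g : Set G) := (zpowers_le.mpr hh).trans (d.line g hg hgp)
  have hp : IsPGroup (orderOf g) ↥(zpowers g ⊔ zpowers h) :=
    (pgroup_zpowers g).to_sup_of_normal_left' (isPGroup_of_card_prime (by rw [Nat.card_zpowers, ho])) hA
  haveI := isCyclic_of_prankLE_one hG hp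
    ((sup_le (zpowers_le.mpr hg) (zpowers_le.mpr hh)).trans (d.K_le_M hG))
    (tau13_prankLE hG d.hM (d.tau g hg hgp))
  exact eq_of_card_eq_of_cyclic (C := zpowers g ⊔ zpowers h) inferInstance le_sup_left le_sup_right
    (by rw [Nat.card_zpowers, Nat.card_zpowers, ho])

/-- A conjugate of `M` through a nontrivial point of `C_{M_σ}(K)` is `M`. -/
theorem PData.eq_of_mem_conj (d : PData M K U E) {y g : G} (hy : y ∈ starOf M K) (hy1 : y ≠ 1)
    (hg : y ∈ conjMap g M) : g ∈ M := by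
  obtain ⟨p, i, hp, -, hi⟩ := exists_prime_pow hy1
  have hz : y ^ i ∈ starOf M K := pow_mem hy i
  obtain ⟨hC, -⟩ := d.point hG hz (hi.symm ▸ hp)
  obtain ⟨c, hc, hcM⟩ := exists_centralizer_conj_of_mem hG d.hM hy.1 hy1 hg
  rw [← conjMap_max_eq_iff hG d.hM, ← hcM]
  exact conjMap_eq_self_iff.mpr (le_normalizer (hC (centralizer_singleton_le_pow y i hc)))

theorem PData.inf_conj (d : PData M K U E) {g : G} (hg : g ∉ M) :
    starOf M K ⊓ conjMap g M = ⊥ := by
  rw [Subgroup.eq_bot_iff_forall]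
  intro y hy
  by_contra hy1
  exact hg (d.eq_of_mem_conj hG hy.1 hy1 hy.2)

/-- A `σ(M)`-group meeting `C_{M_σ}(K)` lies in `M_σ`. -/
theorem PData.le_core_of_meets (d : PData M K U E) {Y : Subgroup G}
    (hY : ∀ p : ℕ, p.Prime → p ∣ Nat.card Y → p ∈ Cfsg.sigma M) (hm : Y ⊓ starOf M K ≠ ⊥) :
    Y ≤ Cfsg.sigmaCore M := by
  have hY1 : Y ≠ ⊥ := fun e => hm (by rw [e, bot_inf_eq])
  obtain ⟨g, hg⟩ := i1425 hG M d.hM Y hY1 hY
  obtain ⟨y, hy, hyp⟩ := exists_prime_element hm
  have hy1 := ne_one_of_prime hyp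
  have hgy : y ∈ conjMap g⁻¹ M := by
    rw [mem_conjMap, inv_inv]
    exact sigmaCore_le M (hg ⟨y, hy.1, rfl⟩)
  have hgM : g ∈ M := inv_mem_iff.mp (d.eq_of_mem_conj hG hy.2 hy1 hgy)
  intro w hw
  exact (mem_normalizer_iff.mp (le_normalizer_sigmaCore M hgM) w).mpr (hg ⟨w, hw, rfl⟩)

end CfsgLib.BG14
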