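import Cfsg.Agent.Lib.BG14.SupportSigma
import Cfsg.Agent.Lib.Solvable.HallHigman

/-!
A maximal subgroup supported by one of type P.
-/

set_option autoImplicit false
set_option linter.style.haveILetI false
set_option linter.unusedSectionVars false

namespace CfsgLib.BG14

open Subgroup CfsgLib.PLocal CfsgLib.OddLocal CfsgLib.BG
open scoped commutatorElement

universe u
variable {G : Type u} [Group G] [Finite G]

/-- A coprime automorphism of prime order fixing only central points forces nilpotency. -/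
theorem isNilpotent_of_fixed_central {C Z : Subgroup G} {z : G} (hzp : (orderOf z).Prime)
    (hn : z ∈ normalizer (C : Set G)) (hZC : Z ≤ C) (hcen : C ≤ centralizer (Z : Set G))
    (hzZ : z ∈ centralizer (Z : Set G)) (hcop : (orderOf z).Coprime (Nat.card Z))
    (hfix : C ⊓ centralizer ({z} : Set G) ≤ Z) : Group.IsNilpotent C := by
  let Z' : Subgroup C := Z.subgroupOf C
  have hZ' : Z' ≤ center C := fun w hw => by
    rw [mem_center_iff]
    intro a
    exact Subtype.ext (mem_centralizer_iff.mp (hcen a.2) (w : G) (mem_subgroupOf.mp hw)).symm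
  haveI : Z'.Normal := ⟨fun w hw a => by rw [mem_center_iff.mp (hZ' hw) a, mul_inv_cancel_right]; exact hw⟩
  let φ : MulAut C := Subgroup.normalizerMonoidHom C ⟨z, hn⟩
  have hφ : ∀ y : C, ((φ y : C) : G) = z * y * z⁻¹ := fun _ => rfl
  have hmap : Z'.map (φ : C →* C) = Z' := by
    have key : ∀ w ∈ Z', φ w = w := fun w hw => Subtype.ext (by
      rw [hφ, mul_inv_eq_iff_eq_mul]
      exact (mem_centralizer_iff.mp hzZ (w : G) (mem_subgroupOf.mp hw)).symm)
    ext w
    constructor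
    · rintro ⟨v, hv, rfl⟩
      exact (key v hv).symm ▸ hv
    · exact fun hw => ⟨w, hw, key w hw⟩
  let ψ : MulAut (C ⧸ Z') := QuotientGroup.congr Z' Z' φ hmap
  have hψ : ∀ y : C, ψ (QuotientGroup.mk y) = QuotientGroup.mk (φ y) := fun _ => rfl
  have hpow : ∀ (n : ℕ) (y : C), (ψ ^ n) (QuotientGroup.mk y) = QuotientGroup.mk ((φ ^ n) y) := by
    intro n
    induction n with
    | zero => intro y; rfl
    | succ n ih => intro y; rw [pow_succ', MulAut.mul_apply, ih, hψ, pow_succ', MulAut.mul_apply]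
  have hφn : φ ^ orderOf z = 1 := by
    have hz : (⟨z, hn⟩ : normalizer (C : Set G)) ^ orderOf z = 1 := Subtype.ext (pow_orderOf_eq_one z)
    show Subgroup.normalizerMonoidHom C ⟨z, hn⟩ ^ orderOf z = 1
    rw [← map_pow, hz, map_one]
  have hn' : Group.IsNilpotent (C ⧸ Z') := by
    refine CfsgLib.Complement.isNilpotent_of_fpf (C ⧸ Z') ψ (orderOf z) hzp ?_ fun q hq => ?_
    · refine MulEquiv.ext fun q => ?_
      obtain ⟨y, rfl⟩ := QuotientGroup.mk_surjective q
      rw [hpow, hφn]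
      rfl
    obtain ⟨y, rfl⟩ := QuotientGroup.mk_surjective q
    rw [hψ, QuotientGroup.eq] at hq
    rw [QuotientGroup.eq_one_iff]
    set w : C := y⁻¹ * φ y with hw
    have hw' : w ∈ Z' := by
      rw [show w = ((φ y)⁻¹ * y)⁻¹ by rw [hw, mul_inv_rev, inv_inv]]
      exact inv_mem hq
    have hyw : φ y = y * w := by rw [hw, mul_inv_cancel_left]
    have hwφ : φ w = w := Subtype.ext (by
      rw [hφ, mul_inv_eq_iff_eq_mul]
      exact (mem_centralizer_iff.mp hzZ (w : G) (mem_subgroupOf.mp hw')).symm)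
    have hiter : ∀ n : ℕ, (φ ^ n) y = y * w ^ n := by
      intro n
      induction n with
      | zero => simp
      | succ n ih => rw [pow_succ', MulAut.mul_apply, ih, map_mul, map_pow, hwφ, hyw, mul_assoc,
          ← pow_succ']
    have h1 := hiter (orderOf z)
    rw [hφn, MulAut.one_apply, left_eq_mul] at h1
    have hw1 : w = 1 := by
      have h2 : orderOf (w : G) ∣ orderOf z := orderOf_dvd_of_pow_eq_one (by
        simpa using congrArg Subtype.val h1)
      exact Subtype.ext (orderOf_eq_one_iff.mp (Nat.eq_one_of_dvd_coprimes hcop h2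
        (Z.orderOf_dvd_natCard (mem_subgroupOf.mp hw'))))
    rw [hw1, mul_one] at hyw
    refine mem_subgroupOf.mpr (hfix ⟨y.2, mem_centralizer_singleton_iff.mpr ?_⟩)
    exact (mul_inv_eq_iff_eq_mul.mp (congrArg Subtype.val hyw)).symm
  refine Subgroup.isNilpotent_of_ker_le_center (QuotientGroup.mk' Z') ?_
  rw [QuotientGroup.ker_mk']
  exact hZ'

/-- A Z-group whose derived lines are central is commutative. -/
theorem commute_of_central_lines {X : Type u} [Group X] [Finite X]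
    (hcyc : ∀ (p : ℕ), p.Prime → ∀ P : Subgroup X, IsPGroup p P → IsCyclic P)
    (hc : ∀ x ∈ commutator X, (orderOf x).Prime → ∀ a : X, Commute a x) (a b : X) : Commute a b := by
  by_contra hab
  have hne : commutator X ≠ ⊥ := fun h => hab (commutatorElement_eq_one_iff_commute.mp (by
    rw [← mem_bot, ← h]
    exact commutator_mem_commutator (mem_top a) (mem_top b)))
  obtain ⟨x, hx, hxp⟩ := exists_prime_element hne
  haveI := Fact.mk hxp
  set t := orderOf x
  obtain ⟨P, hxP⟩ := (isPGroup_of_card_prime (card_zpowers_eq (x := x) rfl)).exists_le_sylow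
  haveI := hcyc t hxp P P.2
  have hcomm : IsMulCommutative (P : Subgroup X) := IsCyclic.isMulCommutative
  have hP : normalizer ((P : Subgroup X) : Set X) ≤ centralizer ((P : Subgroup X) : Set X) := by
    refine le_of_sylows fun s hs _ => ?_
    haveI := Fact.mk hs
    obtain ⟨S, hS, -⟩ := exists_sylowIn_le (IsPGroup.of_bot (p := s) (G := X))
      (bot_le (a := normalizer ((P : Subgroup X) : Set X)))
    refine ⟨S, hS, ?_⟩
    by_cases hst : s = t
    · subst hst
      have hSP : S ⊔ (P : Subgroup X) = P :=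
        P.3 (hS.2.1.to_sup_of_normal_right' P.2 hS.1) le_sup_right
      exact (le_sup_left.trans hSP.le).trans (le_centralizer_of_isMulCommutative hcomm)
    have hcop : (Nat.card S).Coprime (Nat.card (P : Subgroup X)) := coprime_pgroup hS.2.1 P.2 hst
    have hb := CfsgLib.Coprime.commutator_inf_centralizer_eq_bot hcomm hS.1 hcop
    have hle : ⁅(P : Subgroup X), S⁆ ≤ P := CfsgLib.Comp.commutator_le_of_le_normalizer hS.1
    have h0 : ⁅(P : Subgroup X), S⁆ = ⊥ := by
      by_contra hne'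
      obtain ⟨w, hw, hwo⟩ := exists_order_p (P.2.to_le hle) hne'
      have hxw : x ∈ zpowers w := by
        rw [eq_of_card_eq_of_cyclic (C := (P : Subgroup X)) inferInstance
          (zpowers_le.mpr (hle hw)) hxP (by rw [Nat.card_zpowers, Nat.card_zpowers, hwo])]
        exact mem_zpowers x
      have hx1 : x ∈ ⁅(P : Subgroup X), S⁆ ⊓ centralizer (S : Set X) :=
        ⟨zpowers_le.mpr hw hxw, mem_centralizer_iff.mpr fun e _ => (hc x hx hxp e).eq⟩
      rw [hb, mem_bot] at hx1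
      exact ne_one_of_prime hxp hx1
    exact le_centralizer_iff.mp (commutator_eq_bot_iff_le_centralizer.mp h0)
  have hker := MonoidHom.not_dvd_card_ker_transferSylow P hP
  refine hker (Dvd.dvd.trans ?_ (card_dvd_of_le (H := zpowers x) ?_))
  · exact (card_zpowers_eq (x := x) rfl).symm.dvd
  · refine zpowers_le.mpr ?_
    haveI := hcomm
    open scoped IsMulCommutative in exact Abelianization.commutator_subset_ker _ hx

variable (hG : Cfsg.IsMinSimpleOddOrder G)
include hG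

variable {M K U E L U₁ E₁ H : Subgroup G} {k : G}

/-- The normal complement `U M_σ` of `K`. -/
theorem PData.normal_part (d : PData M K U E) :
    M ≤ normalizer ((U ⊔ Cfsg.sigmaCore M : Subgroup G) : Set G) ∧
      (Nat.card K).Coprime (Nat.card ↥(U ⊔ Cfsg.sigmaCore M)) ∧
      ∀ a ∈ M, (orderOf a).Coprime (Nat.card K) → a ∈ U ⊔ Cfsg.sigmaCore M := by
  set V := U ⊔ Cfsg.sigmaCore M with hV
  have hσn : M ≤ normalizer (Cfsg.sigmaCore M : Set G) := le_normalizer_sigmaCore M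
  have hVM : V ≤ M := sup_le (d.U_le_M hG) (sigmaCore_le M)
  have hMV : M ≤ normalizer (V : Set G) := by
    intro x hx
    obtain ⟨e, he, n, hn, rfl⟩ := d.compl.2.2.2 x hx
    refine mul_mem ?_ (le_normalizer (mem_sup_right hn))
    rw [← conjMap_eq_self_iff]
    show Subgroup.map _ _ = _
    rw [Subgroup.map_sup]
    exact congrArg₂ _ (conjMap_eq_self_iff.mpr (d.normal he))
      (conjMap_eq_self_iff.mpr (hσn (d.compl.1 he)))
  have hcard : Nat.card V = Nat.card (Cfsg.sigmaCore M) * Nat.card U := by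
    rw [hV, sup_comm, CfsgLib.Coprime.card_sup_of_inf_eq_bot ((d.U_le_M hG).trans hσn)
      (le_bot_iff.mp ((inf_le_inf_right _ d.U_le).trans d.compl.2.2.1.le))]
  refine ⟨hMV, ?_, fun a ha hco => ?_⟩
  · rw [hcard]
    exact Nat.Coprime.mul_right (coprime_sigmaCore hG d.hM fun t ht hd =>
      not_sigma_of_dvd_compl hG d.hM d.compl ht (hd.trans (card_dvd_of_le d.K_le))) d.coprime.symm
  refine CfsgLib.Solvable.mem_of_coprime_relIndex
    (CfsgLib.Coprime.normal_subgroupOf_of_le_normalizer hMV) ha ?_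
  have hidx : V.relIndex M = Nat.card K := by
    refine Nat.eq_of_mul_eq_mul_left (Nat.card_pos (α := V)) ?_
    rw [CfsgLib.Coprime.card_mul_relIndex hVM, hcard, mul_assoc, ← d.card_E hG,
      card_compl hG d.hM d.compl, CfsgLib.Coprime.card_mul_relIndex (sigmaCore_le M)]
  rwa [hidx]

/-- `N_{M*}(K) = C_{M*}(K)`. -/
theorem PData.partner_normalizer_le (d : PData M K U E) (d₁ : PData L (starOf M K) U₁ E₁)
    (h2 : starOf L (starOf M K) = K) :
    L ⊓ normalizer (K : Set G) ≤ centralizer (K : Set G) := by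
  intro g hg
  set S := starOf M K
  set C := L ⊓ centralizer (K : Set G) with hC
  have hKC : K ≤ centralizer (K : Set G) := fun a ha =>
    mem_centralizer_iff.mpr fun b hb => (d.commute_K hG hb ha).eq
  have hSC : S ≤ C := le_inf (d₁.K_le_M hG) inf_le_right
  have hall : Cfsg.IsPiHallOf (Cfsg.kappa L) S C := by
    refine ⟨hSC, (d₁.hall hG).2.1, fun p hp hκ hd => (d₁.hall hG).2.2 p hp hκ ?_⟩
    rw [← relIndex_mul_relIndex S C L hSC inf_le_left]
    exact dvd_mul_of_dvd_left hd _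
  have hgC : conjMap g C = C := by
    rw [hC, conjMap_inf, conjMap_centralizer, conjMap_eq_self_iff.mpr (le_normalizer hg.1),
      conjMap_eq_self_iff.mpr hg.2]
  have hall' : Cfsg.IsPiHallOf (Cfsg.kappa L) (conjMap g S) C := by
    refine ⟨hgC ▸ conjMap_mono hSC, fun p hp hd => hall.2.1 p hp (by rwa [card_conjMap] at hd), ?_⟩
    have hrel : (conjMap g S).relIndex C = S.relIndex C := by
      conv_lhs => rw [← hgC]
      exact relIndex_map_map_of_injective _ _ (MulAut.conj g).injective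
    rw [hrel]
    exact hall.2.2
  obtain ⟨c, hc, he⟩ := CfsgLib.Coprime.exists_conj_of_isPiHallOf
    (isSolvable_of_le_max hG d₁.hM inf_le_left) hall hall'
  have hcg : c⁻¹ * g ∈ L ⊓ normalizer (S : Set G) := by
    refine ⟨Subgroup.mul_mem _ (Subgroup.inv_mem _ hc.1) hg.1, conjMap_eq_self_iff.mp ?_⟩
    rw [← conjMap_conjMap, ← show conjMap c S = conjMap g S from he, conjMap_inv_conjMap]
  rw [d₁.normalizer_K hG, h2] at hcg
  have h := mul_mem hc.2 (sup_le (inf_le_right : S ≤ centralizer (K : Set G)) hKC hcg)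
  rwa [mul_inv_cancel_left] at h

namespace Outside

variable (o : Outside M K U E L U₁ E₁ H k)
include o

/-- `τ₂(H) = ∅` when `M` supports `H`. -/
theorem tau2_empty (hE : H ⊓ M = E) {q : ℕ} [Fact q.Prime] {A : Subgroup G} (hA : IsSq q A)
    (hAU : A ≤ U) (hAσ : A ≤ Cfsg.sigmaCore H) (hCA : centralizer (A : Set G) ≤ M) :
    Cfsg.tau2 H = ∅ := by
  obtain ⟨hF, hfit⟩ := o.inter_compl hG
  haveI := o.fact
  have hzK := o.zpowers_eq hG
  have hkF : k ∈ H ⊓ L := ⟨o.hkH, o.centralizer_le hG (mem_centralizer_singleton_iff.mpr rfl)⟩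
  have hkσ : k ∈ Cfsg.sigmaCore L := (o.k_star hG).1
  obtain ⟨z, hz, hzp⟩ := o.d.exists_fixed hG
  haveI := Fact.mk hzp
  have hzk : z ∈ centralizer ({k} : Set G) := centralizer_le_of_mem o.hk hz.2
  have hzL : z ∈ L := o.centralizer_le hG hzk
  have hzσ : orderOf z ∉ Cfsg.sigma L := o.d₁.not_sigma hG (o.d₁.K_le hz) hzp dvd_rfl
  have hzτ : orderOf z ∈ Cfsg.tau1 L := o.d₁.tau1_all hG hz hzp
  have hCz : Cfsg.sigmaCore L ⊓ centralizer ({z} : Set G) = zpowers k := by
    rw [o.d₁.fix_eq hG hz (ne_one_of_prime hzp), o.star, hzK]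
  -- the primes of `τ₂(H)`
  have key : ∀ r : ℕ, r ∈ Cfsg.tau2 H → r ∈ Cfsg.sigma L ∧ r ∉ Cfsg.beta L ∧
      (∀ Q : Subgroup G, IsPGroup r Q → IsMulCommutative Q) ∧
      ∃ (B : Subgroup G) (T : Sylow r G), B ≤ T ∧ (T : Subgroup G) ≤ H ⊓ L ∧
        centralizer (B : Set G) ≤ H ⊓ L := by
    intro r hτ
    haveI := Fact.mk hτ.1
    obtain ⟨B, B₀, hBF, hB⟩ := tau2_square hG o.hH hF hτ
    obtain ⟨-, ⟨hCB, hNB, -⟩, -⟩ := i1418 hG H o.hH _ hF r hτ B ⟨hBF, hB.sq.1, hB.sq.2⟩
    have hBk := o.no_square hG hF hkF hτ hB.sq hBF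
    have hrL : r ∈ Cfsg.sigma L := by
      by_contra hrL
      have hBL : B ≤ L := hBF.trans inf_le_right
      obtain ⟨-, -, -, hC, -⟩ := i1417 hG L o.d₁.hM r ⟨hτ.1, hrL,
        prankLE_two_of_not_sigma hG o.d₁.hM hrL, hB.sq.not_prankLE_one hBL⟩ B ⟨hBL, hB.sq.1, hB.sq.2⟩
      have h : k ∈ Cfsg.sigmaCore L ⊓ centralizer (B : Set G) := ⟨hkσ, mem_centralizer_iff.mpr
        fun b hb => mem_centralizer_singleton_iff.mp (hBk hb)⟩
      rw [hC, mem_bot] at h
      exact ne_one_of_prime o.hkp h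
    have hβ : r ∉ Cfsg.beta L := fun h => (i1408 hG H o.hH r hτ.2.1 hτ.2.2.1 hτ.2.2.2).1 h.2
    have hBA : B ⊓ centralizer (A : Set G) = ⊥ := by
      refine eq_bot_iff.mpr fun b hb => ?_
      have hbE : b ∈ E := hE ▸ ⟨(hBF hb.1).1, hCA hb.2⟩
      obtain ⟨u, hu, c, hc, rfl⟩ := o.d.mem_mul b hbE
      have hcL : c ∈ L := sigmaCore_le L (o.star.ge hc).1
      have hu1 : u ∈ U ⊓ L := ⟨hu, (Subgroup.mul_mem_cancel_right L hcL).mp (hBF hb.1).2⟩
      rw [o.d.U_inf_partner hG o.d₁ o.star, mem_bot] at hu1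
      subst hu1
      rw [one_mul] at hb ⊢
      by_contra hne
      rw [mem_bot] at hne
      refine hA.ne_bot (le_bot_iff.mp ((o.d.fpf c hc hne) ▸ le_inf hAU fun a ha => ?_))
      exact mem_centralizer_singleton_iff.mpr (mem_centralizer_iff.mp hb.2 a ha)
    obtain ⟨S₀, hS₀⟩ : ∃ S : Sylow r G, IsMulCommutative (S : Subgroup G) := by
      by_contra hno
      push Not at hno
      obtain ⟨-, ⟨hcard, -⟩, -⟩ := i1419 hG H o.hH _ hF r hτ hno B ⟨hBF, hB.sq.1, hB.sq.2⟩
      have h : B ⊓ centralizer (Cfsg.sigmaCore H : Set G) = ⊥ :=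
        le_bot_iff.mp (hBA ▸ inf_le_inf_left _ (Subgroup.centralizer_le hAσ))
      rw [h, Subgroup.card_bot] at hcard
      exact hτ.1.ne_one hcard.symm
    have hab : ∀ Q : Subgroup G, IsPGroup r Q → IsMulCommutative Q := by
      intro Q hQ
      obtain ⟨T, hT⟩ := hQ.exists_le_sylow
      obtain ⟨g, hg⟩ := MulAction.exists_smul_eq G S₀ T
      refine isMulCommutative_of_le hT ?_
      rw [← hg, Sylow.coe_subgroup_smul]
      haveI := hS₀
      exact Subgroup.map_isMulCommutative _ _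
    obtain ⟨T, hBT⟩ := hB.sq.isPGroup.exists_le_sylow
    refine ⟨hrL, hβ, hab, B, T, hBT, ?_, hNB ▸ hCB⟩
    exact ((le_centralizer_of_isMulCommutative (hab T T.2)).trans
      (Subgroup.centralizer_le hBT)).trans (hNB ▸ hCB)
  -- an invariant Sylow subgroup through `k`
  obtain ⟨P, hP, hzP, hkP⟩ := CfsgLib.Coprime.exists_invariant_hall_ge (A := zpowers z)
    (G := Cfsg.sigmaCore L) (U := zpowers k) (π := ({orderOf k} : Set ℕ))
    ((zpowers_le.mpr hzL).trans (le_normalizer_sigmaCore L))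
    ((coprime_sigmaCore hG o.d₁.hM (primes_zpowers hzp (π := {s | s ∉ Cfsg.sigma L}) hzσ)))
    (isSolvable_of_le_max hG o.d₁.hM (sigmaCore_le L)) (zpowers_le.mpr hkσ)
    (zpowers_le.mpr (mem_centralizer_iff.mpr (fun x hx => by
      obtain ⟨i, rfl⟩ := hx
      exact (Commute.zpow_left (mem_centralizer_singleton_iff.mp hzk).symm i).eq)
      |> centralizer_le_normalizer _))
    (primes_zpowers o.hkp (π := ({orderOf k} : Set ℕ)) rfl)
  have hPσ : SylowIn (orderOf k) P (Cfsg.sigmaCore L) := ⟨hP.1,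
    isPGroup_of_prime_dvd fun s hs hd => hP.2.1 s hs hd, hP.2.2 _ o.hkp rfl⟩
  have hnoab : IsMulCommutative P → orderOf k ∈ Cfsg.beta L := by
    intro hPab
    by_contra hβ
    have hb := fixed_eq_bot_of_abelian hG o.d₁.hM hzτ (o.sigma_L hG) hβ (zpowers_le.mpr hzL)
      (card_zpowers_eq rfl) hPσ hPab
    rw [centralizer_zpowers_eq] at hb
    exact ne_one_of_prime o.hkp (mem_bot.mp (hb ▸ (⟨hkP (mem_zpowers k), mem_centralizer_singleton_iff.mpr
      (mem_centralizer_singleton_iff.mp hzk).symm⟩ : k ∈ P ⊓ centralizer ({z} : Set G))))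
  have hrk : Cfsg.PRankLE (orderOf k) 1 H := by
    by_contra h
    have hσ := o.not_sigma hG
    obtain ⟨-, hβ, hab, -⟩ := key _ ⟨o.hkp, hσ, prankLE_two_of_not_sigma hG o.hH hσ, h⟩
    exact hβ (hnoab (hab P hPσ.2.1))
  -- `k` is central in the complement
  have hkn : H ⊓ L ≤ normalizer (zpowers k : Set G) := by
    have hn : H ⊓ L ≤ normalizer (Cfsg.fittingOf (H ⊓ L) : Set G) := by
      have h := le_normalizer_map (H := Cfsg.fittingSubgroup ↥(H ⊓ L)) (H ⊓ L).subtype
      haveI := CfsgLib.Solvable.fittingSubgroup_normal ↥(H ⊓ L)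
      rwa [normalizer_eq_top, ← MonoidHom.range_eq_map, range_subtype] at h
    have hnil : Group.IsNilpotent (Cfsg.fittingOf (H ⊓ L)) :=
      CfsgLib.OddLocal.fittingOf_isNilpotent _
    obtain ⟨S, hS, hkS⟩ := exists_sylowIn_le (pgroup_zpowers k) hfit
    exact (hn.trans (normalizer_le_normalizer_sylow hG hnil hS)).trans (normalizer_le_of_cyclic
      (isCyclic_of_prankLE_one hG hS.2.1
        ((hS.1.trans (map_subtype_le _)).trans inf_le_left) hrk) hkS)
  have hkc : H ⊓ L ≤ centralizer ({k} : Set G) := fun g hg => by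
    rw [← centralizer_zpowers_eq, hzK]
    exact o.d.partner_normalizer_le hG o.d₁ o.star ⟨hg.2, hzK ▸ hkn hg⟩
  rw [Set.eq_empty_iff_forall_notMem]
  intro r hτ
  haveI := Fact.mk hτ.1
  obtain ⟨hrL, hrβ, hab, B, T, hBT, hTF, hCB⟩ := key r hτ
  have hrp : r ≠ orderOf k := fun e => hτ.2.2.2 (e ▸ hrk)
  have hTσ : (T : Subgroup G) ≤ Cfsg.sigmaCore L := le_sigmaCore_of_pi hG o.d₁.hM
    (hTF.trans inf_le_right) fun t ht hd => (prime_dvd_pgroup_card T.2 ht hd) ▸ hrL
  set C := Cfsg.sigmaCore L ⊓ centralizer ({k} : Set G) with hC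
  have hTC : (T : Subgroup G) ≤ C := le_inf hTσ (hTF.trans hkc)
  have hTin : ∀ {Y : Subgroup G}, (T : Subgroup G) ≤ Y → SylowIn r (T : Subgroup G) Y := fun {Y} hY =>
    ⟨hY, T.2, fun hd => T.not_dvd_index (hd.trans (relIndex_dvd_index_of_le hY))⟩
  have hzC : zpowers z ≤ normalizer (C : Set G) := zpowers_le.mpr (conjMap_eq_self_iff.mp (by
    rw [hC, conjMap_inf, conjMap_eq_self_iff.mpr (le_normalizer_sigmaCore L hzL),
      ← centralizer_zpowers_eq, conjMap_centralizer, ← zpowers_conj_eq,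
      show z * k * z⁻¹ = k by rw [mem_centralizer_singleton_iff.mp hzk, mul_inv_cancel_right]]))
  obtain ⟨T₁, hT₁, hzT₁⟩ := exists_invariant_sylowIn hzC
    ((coprime_sigmaCore hG o.d₁.hM (primes_zpowers hzp (π := {s | s ∉ Cfsg.sigma L}) hzσ)).coprime_dvd_right
      (card_dvd_of_le inf_le_left))
    (Or.inr (isSolvable_of_le_max hG o.d₁.hM (inf_le_left.trans (sigmaCore_le L)))) r
  obtain ⟨c, hc, hcT⟩ := hT₁.exists_conj_eq (hTin hTC)
  have hT₁1 : T₁ ≠ ⊥ := fun e => by
    have hB1 : B ≠ ⊥ := by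
      intro hb
      rw [hb] at hCB
      exact o.hH.1 (top_le_iff.mp (((le_centralizer_iff.mp bot_le).trans hCB).trans inf_le_left))
    exact conjMap_ne_bot (g := c) (fun h => hB1 (le_bot_iff.mp (hBT.trans h.le))) (hcT.trans e)
  have hT₁z : ∀ e ∈ zpowers z, e ≠ 1 → T₁ ⊓ centralizer ({e} : Set G) = ⊥ := by
    intro e he he1
    rw [← centralizer_zpowers_eq, zpowers_eq_of_card_prime (p := orderOf z) (card_zpowers_eq rfl) he he1,
      centralizer_zpowers_eq, ← le_bot_iff,
      ← CfsgLib.Coprime.inf_eq_bot_of_coprime (coprime_pgroup hT₁.2.1 (pgroup_zpowers k) hrp)]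
    exact le_inf inf_le_left ((inf_le_inf_right _ (hT₁.1.trans inf_le_left)).trans hCz.le)
  set O := Cfsg.piCoreOf {s | s ≠ r} L ⊓ Cfsg.sigmaCore L with hO
  have hLO : L ≤ normalizer (O : Set G) := CfsgLib.Comp.le_normalizer_inf
    (le_normalizer.trans (le_normalizer_piCoreOf _ L)) (le_normalizer_sigmaCore L)
  have hT₁L : T₁ ≤ L := hT₁.1.trans (inf_le_left.trans (sigmaCore_le L))
  have hO1 : O ≤ centralizer (T₁ : Set G) := by
    refine frobenius_fixed hT₁1 (zpowers_ne_bot.mpr (ne_one_of_prime hzp)) hzT₁ hT₁z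
      ((sup_le hT₁L (zpowers_le.mpr hzL)).trans hLO)
      (isSolvable_of_le_max hG o.d₁.hM (inf_le_right.trans (sigmaCore_le L)))
      (coprime_of_forall fun t ht h1 h2 => ?_) ?_
    · rcases ht.dvd_mul.mp (h2.trans (CfsgLib.BG.card_sup_dvd hzT₁)) with h | h
      · exact piCoreOf_spec {s | s ≠ r} L t ht (h1.trans (card_dvd_of_le inf_le_left))
          (prime_dvd_pgroup_card hT₁.2.1 ht h)
      · exact primes_zpowers hzp (π := {s | s ∉ Cfsg.sigma L}) hzσ t ht h
          (mem_sigma_of_dvd_sigmaCore ht (h1.trans (card_dvd_of_le inf_le_right)))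
    · rw [centralizer_zpowers_eq]
      refine ((inf_le_inf_right _ inf_le_right).trans hCz.le).trans ?_
      exact zpowers_le.mpr (mem_centralizer_iff.mpr fun a ha =>
        mem_centralizer_singleton_iff.mp (hT₁.1 ha).2)
  have hOF : O ≤ H ⊓ L := by
    refine le_trans ?_ hCB
    refine le_trans ?_ (Subgroup.centralizer_le hBT)
    have h := conjMap_mono (g := c⁻¹) hO1
    rw [← hcT, ← conjMap_centralizer, conjMap_inv_conjMap,
      conjMap_eq_self_iff.mpr (hLO (inv_mem (sigmaCore_le L hc.1)))] at h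
    exact h
  have hPO : P ≤ O := le_inf (le_piCoreOf_of_derived hG o.d₁.hM
    (fun s hs (e : s = r) => hrβ (e ▸ hs)) (q := orderOf k) (Ne.symm hrp) hPσ.2.1
    (hPσ.1.trans (sigmaCore_le_derived hG o.d₁.hM))) hPσ.1
  have hPH : P ≤ H := (hPO.trans hOF).trans inf_le_left
  haveI := isCyclic_of_prankLE_one hG hPσ.2.1 hPH hrk
  have hβ := hnoab IsCyclic.isMulCommutative
  obtain ⟨B₃, hB₃L, hB₃, hlt⟩ := not_prankLE_iff.mp hβ.1.2
  obtain ⟨g, -, hg⟩ := (sylowIn_of_sigmaCore hG o.d₁.hM hPσ (o.sigma_L hG)).exists_conj_le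
    (elemAb_isPGroup hB₃) hB₃L
  refine not_prankLE_iff.mpr ⟨conjMap g B₃, hg.trans hPH,
    elemAb_map (MulAut.conj g).toMonoidHom hB₃, ?_⟩ hrk
  rw [card_conjMap]
  exact lt_of_le_of_lt (Nat.pow_le_pow_right o.hkp.pos one_le_two) hlt

/-- In the situation of `tau2_empty` the complement of `H_σ` is cyclic and fixed-point-free. -/
theorem cyclic_compl (hτ2 : Cfsg.tau2 H = ∅) :
    IsCyclic ↥(H ⊓ L) ∧
      ∀ e ∈ H ⊓ L, e ≠ 1 → Cfsg.sigmaCore H ⊓ centralizer ({e} : Set G) = ⊥ := by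
  obtain ⟨hF, hfit⟩ := o.inter_compl hG
  haveI := o.fact
  set F := H ⊓ L with hFdef
  have hzK := o.zpowers_eq hG
  have hrank : ∀ p : ℕ, p.Prime → p ∉ Cfsg.sigma H → Cfsg.PRankLE p 1 H := fun p hp hσ => by
    by_contra h
    have h' : p ∈ Cfsg.tau2 H := by
      haveI := Fact.mk hp
      exact ⟨hp, hσ, prankLE_two_of_not_sigma hG o.hH hσ, h⟩
    rw [hτ2] at h'
    exact h'
  have hσF : ∀ {X : Subgroup G}, X ≤ F → ∀ p : ℕ, p.Prime → p ∣ Nat.card X → p ∉ Cfsg.sigma H :=
    fun hX p hp hd => not_sigma_of_dvd_compl hG o.hH hF hp (hd.trans (card_dvd_of_le hX))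
  have hpfpf : ∀ e ∈ F, (orderOf e).Prime →
      Cfsg.sigmaCore H ⊓ centralizer ({e} : Set G) = ⊥ := fun e he hp =>
    o.no_fixer hG he.1 hp (not_sigma_of_mem_compl hG o.hH hF he hp dvd_rfl)
      (hrank _ hp (not_sigma_of_mem_compl hG o.hH hF he hp dvd_rfl))
  have hfpf : ∀ e ∈ F, e ≠ 1 → Cfsg.sigmaCore H ⊓ centralizer ({e} : Set G) = ⊥ := fun e he he1 => by
    obtain ⟨p, i, hp, -, hi⟩ := exists_prime_pow he1
    exact le_bot_iff.mp ((inf_le_inf_left _ (centralizer_singleton_le_pow e i)).trans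
      (hpfpf _ (pow_mem he i) (hi.symm ▸ hp)).le)
  refine ⟨?_, hfpf⟩
  have hcyc : ∀ {X : Subgroup G}, X ≤ F → ∀ p : ℕ, p.Prime → IsPGroup p X → IsCyclic X := by
    intro X hX p hp hXp
    haveI := Fact.mk hp
    by_cases hX1 : X = ⊥
    · subst hX1; infer_instance
    exact isCyclic_of_prankLE_one hG hXp (hX.trans inf_le_left)
      (hrank p hp (hσF hX p hp (dvd_card_of_pgroup_ne_bot hXp hX1)))
  have hZ : ∀ {X : Subgroup G}, X ≤ F → IsZGroup X := fun {X} hX => isZGroup_of_prankLE_one hG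
    fun p hp hd => prankLE_mono (hX.trans inf_le_left) (hrank p hp (hσF hX p hp hd))
  -- `k` is central
  have hkc : F ≤ centralizer ({k} : Set G) := by
    have hn : F ≤ normalizer (Cfsg.fittingOf F : Set G) := by
      have h := le_normalizer_map (H := Cfsg.fittingSubgroup ↥F) F.subtype
      haveI := CfsgLib.Solvable.fittingSubgroup_normal ↥F
      rwa [normalizer_eq_top, ← MonoidHom.range_eq_map, range_subtype] at h
    obtain ⟨S, hS, hkS⟩ := exists_sylowIn_le (pgroup_zpowers k) hfit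
    have hkn := (hn.trans (normalizer_le_normalizer_sylow hG
      (CfsgLib.OddLocal.fittingOf_isNilpotent _) hS)).trans
      (normalizer_le_of_cyclic (hcyc (hS.1.trans (map_subtype_le _)) _ o.hkp hS.2.1) hkS)
    intro g hg
    rw [← centralizer_zpowers_eq, hzK]
    exact o.d.partner_normalizer_le hG o.d₁ o.star ⟨hg.2, hzK ▸ hkn hg⟩
  -- the derived subgroup is cyclic
  have hD : ⁅F, F⁆ ≤ F := derived_le_compl hG o.hH
  haveI := hZ hD
  haveI := derived_compl_nilpotent hG o.hH hF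
  haveI : IsCyclic ↥⁅F, F⁆ := inferInstance
  have hFD : F ≤ normalizer ((⁅F, F⁆ : Subgroup G) : Set G) :=
    CfsgLib.Comp.FF.le_normalizer_commutator le_normalizer le_normalizer
  -- prime elements normalizing a derived line centralize it
  have hcomm1 : ∀ e ∈ F, (orderOf e).Prime → ∀ x ∈ ⁅F, F⁆, (orderOf x).Prime → Commute x e := by
    intro e he hep x hx hxp
    haveI := Fact.mk hep
    haveI := Fact.mk hxp
    have hn : zpowers e ≤ normalizer (zpowers x : Set G) :=
      (zpowers_le.mpr he).trans (hFD.trans (normalizer_le_of_cyclic inferInstance (zpowers_le.mpr hx)))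
    by_contra hne
    have hf : zpowers x ⊓ centralizer ({e} : Set G) = ⊥ := by
      refine eq_bot_iff.mpr fun w hw => mem_bot.mpr (by_contra fun hw1 => hne ?_)
      have hxw : zpowers w = zpowers x :=
        zpowers_eq_of_card_prime (p := orderOf x) (card_zpowers_eq rfl) hw.1 hw1
      have hx' : x ∈ zpowers w := hxw ▸ mem_zpowers x
      exact mem_centralizer_singleton_iff.mp (zpowers_le.mpr hw.2 hx')
    have hsup : zpowers x ⊔ zpowers e ≤ F := sup_le (zpowers_le.mpr (hD hx)) (zpowers_le.mpr he)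
    have h := frobenius_fixed (zpowers_ne_bot.mpr (ne_one_of_prime hxp))
      (zpowers_ne_bot.mpr (ne_one_of_prime hep)) hn (fun w hw hw1 => by
        rw [← centralizer_zpowers_eq, zpowers_eq_of_card_prime (p := orderOf e) (card_zpowers_eq rfl) hw hw1,
          centralizer_zpowers_eq]
        exact hf)
      (hsup.trans (hF.1.trans (le_normalizer_sigmaCore H)))
      (isSolvable_of_le_max hG o.hH (sigmaCore_le H))
      (coprime_sigmaCore hG o.hH (hσF hsup)).symm
      (by rw [centralizer_zpowers_eq, hpfpf e he hep]; exact bot_le)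
    rw [centralizer_zpowers_eq] at h
    exact sigmaCore_ne_bot hG o.hH (le_bot_iff.mp ((le_inf le_rfl h).trans (hpfpf x (hD hx) hxp).le))
  -- the nilpotent part of `C_{M*}(k)`
  obtain ⟨hVn, hVc, hVmem⟩ := o.d₁.normal_part hG
  set C₀ := (U₁ ⊔ Cfsg.sigmaCore L) ⊓ centralizer ({k} : Set G) with hC₀
  have hnil : Group.IsNilpotent C₀ := by
    obtain ⟨z, hz, hzp⟩ := o.d.exists_fixed hG
    have hzk : z ∈ centralizer ({k} : Set G) := centralizer_le_of_mem o.hk hz.2
    have hzL : z ∈ L := o.centralizer_le hG hzk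
    refine isNilpotent_of_fixed_central hzp (Z := zpowers k) ?_
      (zpowers_le.mpr ⟨mem_sup_right (o.k_star hG).1, mem_centralizer_singleton_iff.mpr rfl⟩)
      (by rw [centralizer_zpowers_eq]; exact inf_le_right)
      (by rw [centralizer_zpowers_eq]; exact hzk) ?_ ?_
    · refine CfsgLib.Comp.le_normalizer_inf (M := zpowers z) (zpowers_le.mpr (hVn hzL))
        ((zpowers_le.mpr hzk).trans le_normalizer) (mem_zpowers z)
    · refine Nat.Coprime.coprime_dvd_left ((starOf M K).orderOf_dvd_natCard hz) ?_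
      rw [hzK]
      exact (o.d.coprime_star hG).symm
    · intro w hw
      have hwL : w ∈ L ⊓ centralizer ({z} : Set G) := ⟨o.centralizer_le hG hw.1.2, hw.2⟩
      rw [o.d₁.centralizer_K_el hG hz (ne_one_of_prime hzp)] at hwL
      obtain ⟨a, ha, b, hb, rfl⟩ := (o.d₁.mem_Z_iff hG).mp hwL
      rw [o.star] at hb
      have hbV : b ∈ U₁ ⊔ Cfsg.sigmaCore L := mem_sup_right (o.star.ge hb).1
      have haV : a ∈ U₁ ⊔ Cfsg.sigmaCore L := (Subgroup.mul_mem_cancel_right _ hbV).mp hw.1.1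
      have ha1 : a = 1 := orderOf_eq_one_iff.mp (Nat.eq_one_of_dvd_coprimes hVc
        ((starOf M K).orderOf_dvd_natCard ha) (Subgroup.orderOf_dvd_natCard _ haV))
      rw [ha1, one_mul, hzK]
      exact hb
  -- derived lines are central
  have hcentral : ∀ x ∈ ⁅F, F⁆, (orderOf x).Prime → F ≤ centralizer ({x} : Set G) := by
    intro x hx hxp
    haveI := Fact.mk hxp
    refine le_of_sylows fun s hs _ => ?_
    haveI := Fact.mk hs
    obtain ⟨S, hS, -⟩ := exists_sylowIn_le (IsPGroup.of_bot (p := s) (G := G)) (bot_le (a := F))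
    refine ⟨S, hS, fun e he => mem_centralizer_singleton_iff.mpr ?_⟩
    have heF : e ∈ F := hS.1 he
    by_cases hst : s = orderOf x
    · have hn : S ≤ normalizer (zpowers x : Set G) :=
        hS.1.trans (hFD.trans (normalizer_le_of_cyclic inferInstance (zpowers_le.mpr hx)))
      have hp : IsPGroup s ↥(zpowers x ⊔ S) := (isPGroup_of_card_prime
        (card_zpowers_eq hst.symm)).to_sup_of_normal_left' hS.2.1 hn
      haveI := hcyc (sup_le (zpowers_le.mpr (hD hx)) hS.1) s hs hp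
      exact (commute_of_isMulCommutative (IsCyclic.isMulCommutative (α := ↥(zpowers x ⊔ S)))
        (mem_sup_right he) (mem_sup_left (mem_zpowers x))).eq
    obtain ⟨j, hj⟩ := IsPGroup.iff_orderOf.mp hS.2.1 ⟨e, he⟩
    rw [Subgroup.orderOf_mk] at hj
    by_cases he1 : e = 1
    · rw [he1, one_mul, mul_one]
    by_cases hsK : s ∣ Nat.card (starOf M K)
    · -- `e` lies in a conjugate of `K*`
      have hκ : s ∈ Cfsg.kappa L := (o.d₁.mem_kappa_iff hG).mpr ⟨hs, hsK⟩
      obtain ⟨K', hK', -, heK⟩ := CfsgLib.Coprime.exists_invariant_hall_ge (A := (⊥ : Subgroup G))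
        (U := zpowers e) (G := L) (π := Cfsg.kappa L) bot_le
        (by rw [Subgroup.card_bot]; exact Nat.coprime_one_left _)
        (isSolvable_of_le_max hG o.d₁.hM le_rfl) (zpowers_le.mpr heF.2) bot_le
        (fun t ht hd => by
          rw [Nat.card_zpowers, hj] at hd
          exact (Nat.prime_dvd_prime_iff_eq ht hs).mp (ht.dvd_of_dvd_pow hd) ▸ hκ)
      have he' : e ∈ K' := heK (mem_zpowers e)
      obtain ⟨U', E', d'⟩ := exists_pdata_of_hall hG o.d₁.hM hK' fun h => he1 (mem_bot.mp (h ▸ he'))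
      obtain ⟨p, i, hp, -, hi⟩ := exists_prime_pow he1
      have hc := hcomm1 _ (pow_mem heF i) (hi.symm ▸ hp) x hx hxp
      have hx' : x ∈ L ⊓ centralizer ({e ^ i} : Set G) :=
        ⟨(hD hx).2, mem_centralizer_singleton_iff.mpr hc.eq⟩
      rw [d'.centralizer_K_el hG (pow_mem he' i) (ne_one_of_prime (hi.symm ▸ hp)),
        ← d'.centralizer_K_el hG he' he1] at hx'
      exact (mem_centralizer_singleton_iff.mp hx'.2).symm
    · have hxK : ¬ orderOf x ∣ Nat.card (starOf M K) := fun h => by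
        have hκ := (o.d₁.mem_kappa_iff hG).mpr ⟨hxp, h⟩
        rw [o.d₁.kappa_eq hG] at hκ
        exact hκ.2.2.2.1 (Subgroup.orderOf_dvd_natCard _ (commutator_mono inf_le_right inf_le_right hx))
      have heC : e ∈ C₀ := ⟨hVmem e heF.2 (hj ▸ ((hs.coprime_iff_not_dvd.mpr hsK).pow_left j)),
        hkc heF⟩
      have hxC : x ∈ C₀ := ⟨hVmem x (hD hx).2 (hxp.coprime_iff_not_dvd.mpr hxK), hkc (hD hx)⟩
      exact congrArg Subtype.val (CfsgLib.OddLocal.commute_of_coprime_of_isNilpotent hnil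
        (x := (⟨e, heC⟩ : C₀)) (y := ⟨x, hxC⟩) (by
          rw [Subgroup.orderOf_mk, Subgroup.orderOf_mk, hj]
          exact ((Nat.coprime_primes hs hxp).mpr hst).pow_left j)).eq
  have hab : ∀ a b : ↥F, Commute a b := commute_of_central_lines
    (fun p hp P hP => by
      have h := hcyc (map_subtype_le P) p hp (hP.map F.subtype)
      exact (P.equivMapOfInjective _ F.subtype_injective).isCyclic.mpr h)
    fun x hx hxp a => by
      refine Subtype.ext (mem_centralizer_singleton_iff.mp (hcentral (x : G) ?_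
        (by rwa [Subgroup.orderOf_coe]) a.2))
      rw [← Subgroup.map_subtype_commutator]
      exact ⟨x, hx, rfl⟩
  haveI : IsMulCommutative ↥F := ⟨⟨fun a b => (hab a b).eq⟩⟩
  haveI : Group.IsNilpotent ↥F := by open scoped IsMulCommutative in exact inferInstance
  haveI : IsZGroup ↥F := hZ le_rfl
  infer_instance

end Outside

/-- A maximal subgroup supported by one of type P is a Frobenius group with cyclic complement. -/
theorem IsSupport.kappa_support {M N : Subgroup G} {x : G} (s : IsSupport M N x) (hM : IsCoatom M)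
    (hx : x ∈ Cfsg.sigmaCore M) (hx1 : x ≠ 1) (hkN : (Cfsg.kappa N).Nonempty) :
    Cfsg.kappa M = ∅ ∧ Cfsg.tau2 M = ∅ ∧ Group.IsNilpotent (Cfsg.sigmaCore M) ∧
      ∃ F, Cfsg.IsComplIn F (Cfsg.sigmaCore M) M ∧ F ≠ ⊥ ∧ IsCyclic F ∧
        ∀ e ∈ F, e ≠ 1 → Cfsg.sigmaCore M ⊓ centralizer ({e} : Set G) = ⊥ := by
  have hκM : Cfsg.kappa M = ∅ := by
    rw [Set.eq_empty_iff_forall_notMem]
    intro p hp
    obtain ⟨K, U, E, d⟩ := exists_of_mem_kappa hG hM hp
    exact hkN.ne_empty (d.support_kappa hG hx hx1 s).1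
  obtain ⟨p₀, hp₀⟩ := hkN
  obtain ⟨K', U', E', d'⟩ := exists_of_mem_kappa hG s.hL hp₀
  obtain ⟨K, U, d⟩ := exists_pdata_compl hG d' s.compl
  obtain ⟨q, A, hqF, hτ, hqσ, hA, hAF, hAσ, hCA⟩ := s.exists_square hG hM hx hx1
  have hAU : A ≤ U := fun a ha => d.mem_U_of hG (hAF ha) fun t ht htd htK => by
    obtain rfl := prime_dvd_pgroup_card hA.isPGroup ht (htd.trans (A.orderOf_dvd_natCard ha))
    have hκ := (d.mem_kappa_iff hG).mpr ⟨ht, htK⟩
    rw [d.kappa_eq hG] at hκ
    exact hτ.2.2.2 hκ.2.2.2.2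
  have hU : U ≠ ⊥ := fun e => hA.ne_bot (le_bot_iff.mp (e ▸ hAU))
  obtain ⟨L, U₁, E₁, d₁, h2, -, -⟩ := d.exists_dual hG
  obtain ⟨k, hk, hkp⟩ := d.exists_prime hG
  have hkM : k ∈ M := (d.K_le hk).1
  have nM : ∀ c : G, M ≠ conjMap c N := fun c hc =>
    s.nonconj c⁻¹ (by rw [hc, conjMap_inv_conjMap])
  have nL : ∀ c : G, M ≠ conjMap c L := by
    intro c hc
    obtain ⟨z, hz, hzp⟩ := d.exists_fixed hG
    obtain ⟨y, hy, hyp⟩ := d₁.exists_fixed hG
    have hσ : orderOf z ∉ Cfsg.sigma L := d₁.not_sigma hG (d₁.K_le hz) hzp dvd_rfl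
    have hzo := orderOf_conj' c z
    have h := mem_kappa_of_fix hG hM (k := c * z * c⁻¹) (hc ▸ conj_mem_conjMap (d₁.K_le_M hG hz))
      (hzo.symm ▸ hzp) (by rw [hzo, hc, sigma_conjMap]; exact hσ)
      (by rw [hzo, hc]; exact prankLE_conjMap c (tau13_prankLE hG d₁.hM (d₁.tau z hz hzp))) (by
        intro hb
        refine d₁.fix_ne ?_
        rw [hc, sigmaCore_conjMap (M := L) c, centralizer_conj, ← conjMap_inf,
          d₁.fix_eq hG hz (ne_one_of_prime hzp)] at hb
        by_contra hne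
        exact conjMap_ne_bot hne hb)
    rw [hκM] at h
    exact h
  have o : Outside N K U (M ⊓ N) L U₁ E₁ M k := ⟨d, d₁, h2, hU, hM, hk, hkp, hkM, nM, nL⟩
  obtain ⟨hF, -⟩ := o.inter_compl hG
  have h2' := o.tau2_empty hG rfl hA hAU hAσ hCA
  obtain ⟨hcyc, hfpf⟩ := o.cyclic_compl hG h2'
  refine ⟨hκM, h2', o.nilpotent hG, _, hF, fun e => ne_one_of_prime hkp ?_, hcyc, hfpf⟩
  have hkL : k ∈ M ⊓ L := ⟨hkM, sigmaCore_le L (h2.ge hk).1⟩
  rwa [e, mem_bot] at hkL

/-- A fixed-point-free complement is a Frobenius complement. -/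
theorem isFrobeniusComplement_of_fpf {M F : Subgroup G} (hM : IsCoatom M)
    (hF : Cfsg.IsComplIn F (Cfsg.sigmaCore M) M) (hF1 : F ≠ ⊥)
    (hfpf : ∀ e ∈ F, e ≠ 1 → Cfsg.sigmaCore M ⊓ centralizer ({e} : Set G) = ⊥) :
    Cfsg.IsFrobeniusComplement (F.subgroupOf M) := by
  refine ⟨fun h => hF1 ?_, fun h => sigmaCore_ne_bot hG hM ?_, fun g hg => ?_⟩
  · rw [← map_subgroupOf_eq_of_le hF.1, h, Subgroup.map_bot]
  · have hMF : M ≤ F := Subgroup.subgroupOf_eq_top.mp h
    rw [← le_bot_iff, ← hF.2.2.1]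
    exact le_inf ((sigmaCore_le M).trans hMF) le_rfl
  refine eq_bot_iff.mpr fun w hw => mem_bot.mpr (by_contra fun hw1 => hg ?_)
  obtain ⟨hwF, hwg⟩ := mem_inf.mp hw
  rw [Subgroup.mem_pointwise_smul_iff_inv_smul_mem, ← map_inv, MulAut.smul_def, MulAut.conj_apply,
    inv_inv, mem_subgroupOf] at hwg
  rw [mem_subgroupOf] at hwF ⊢
  simp only [Subgroup.coe_mul, Subgroup.coe_inv] at hwg
  obtain ⟨f, hf, n, hn, he⟩ := hF.2.2.2 g g.2
  set v := f⁻¹ * (w : G) * f with hv
  have hvF : v ∈ F := mul_mem (mul_mem (inv_mem hf) hwF) hf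
  have hvn : n⁻¹ * v * n ∈ F := by
    convert hwg using 1
    rw [he, hv]
    group
  have h1 : n⁻¹ * v * n * v⁻¹ ∈ F ⊓ Cfsg.sigmaCore M := by
    refine ⟨Subgroup.mul_mem _ hvn (Subgroup.inv_mem _ hvF), ?_⟩
    rw [show n⁻¹ * v * n * v⁻¹ = n⁻¹ * (v * n * v⁻¹) by group]
    exact Subgroup.mul_mem _ (Subgroup.inv_mem _ hn)
      ((mem_normalizer_iff.mp (le_normalizer_sigmaCore M (hF.1 hvF)) n).mp hn)
  rw [hF.2.2.1, mem_bot, mul_inv_eq_one] at h1
  have hv1 : v ≠ 1 := fun e => hw1 (Subtype.ext (by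
    show (w : G) = 1
    calc (w : G) = f * v * f⁻¹ := by rw [hv]; group
      _ = 1 := by rw [e, mul_one, mul_inv_cancel]))
  have hnv : n ∈ Cfsg.sigmaCore M ⊓ centralizer ({v} : Set G) := ⟨hn, mem_centralizer_singleton_iff.mpr (by
    calc n * v = n * (n⁻¹ * v * n) := by rw [h1]
      _ = v * n := by group)⟩
  rw [hfpf v hvF hv1, mem_bot] at hnv
  rw [he, hnv, mul_one]
  exact hf

end CfsgLib.BG14
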