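import Cfsg.Agent.Lib.BG14.SupportR

/-!
The sets `M̃`: transversal property of `R(x)`, cardinality, disjointness.
-/

set_option autoImplicit false
set_option linter.style.haveILetI false
set_option linter.unusedSectionVars false

namespace CfsgLib.BG14

open Subgroup CfsgLib.PLocal CfsgLib.OddLocal CfsgLib.BG
open scoped commutatorElement

universe u
variable {G : Type u} [Group G] [Finite G]
variable (hG : Cfsg.IsMinSimpleOddOrder G)
include hG

theorem mem_sigmaCore_conjMap {M : Subgroup G} {g x : G} :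
    x ∈ Cfsg.sigmaCore (conjMap g M) ↔ g⁻¹ * x * g ∈ Cfsg.sigmaCore M := by
  rw [sigmaCore_conjMap (M := M) g, mem_conjMap]

theorem conjMap_left_inj {M : Subgroup G} (hM : IsCoatom M) {a b : G} :
    conjMap a M = conjMap b M ↔ a⁻¹ * b ∈ M := by
  rw [← conjMap_max_eq_iff hG hM, ← conjMap_conjMap]
  refine ⟨fun h => by rw [← h, conjMap_inv_conjMap], fun h => ?_⟩
  conv_lhs => rw [← h]
  rw [conjMap_conjMap_inv]

/-- `R(x)` acts regularly on the conjugates of `M` through `x`. -/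
theorem existsUnique_supportR {M : Subgroup G} (hM : IsCoatom M) {x : G} (hx : x ∈ Cfsg.sigmaCore M)
    (hx1 : x ≠ 1) {g : G} (hg : x ∈ conjMap g M) :
    ∃! r : G, r ∈ Cfsg.supportR M x ∧ conjMap r M = conjMap g M := by
  obtain ⟨c, hc, hcM⟩ := exists_centralizer_conj_of_mem hG hM hx hx1 hg
  rcases supportR_cases hG hM hx hx1 with ⟨hle, h⟩ | ⟨L, hL, h⟩
  · rw [← hcM, h]
    refine ⟨1, ⟨one_mem _, ?_⟩, fun r hr => mem_bot.mp hr.1⟩
    rw [conjMap_eq_self_iff.mpr (one_mem _), conjMap_eq_self_iff.mpr (le_normalizer (hle hc))]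
  · rw [← hcM, h]
    obtain ⟨m, hm, r, hr, hmr⟩ := hL.split c⁻¹ (inv_mem hc)
    refine ⟨r⁻¹, ⟨inv_mem hr, ?_⟩, fun r' hr' => ?_⟩
    · rw [conjMap_left_inj hG hM, inv_inv, show c = r⁻¹ * m⁻¹ by rw [← mul_inv_rev, ← hmr, inv_inv],
        mul_inv_cancel_left]
      exact inv_mem hm.1
    · have h1 : c = r⁻¹ * m⁻¹ := by rw [← mul_inv_rev, ← hmr, inv_inv]
      have h2 := (conjMap_left_inj hG hM).mp hr'.2
      rw [h1, ← mul_assoc] at h2
      have h3 : r'⁻¹ * r⁻¹ ∈ Cfsg.sigmaCore L ⊓ M :=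
        ⟨mul_mem (s := Cfsg.sigmaCore L) (inv_mem hr'.1.1) (inv_mem hr.1),
          (mul_mem_cancel_right (M.inv_mem hm.1)).mp h2⟩
      rw [hL.disj, mem_bot, inv_mul_eq_one] at h3
      exact h3

/-- `M̃ ∩ Ñ = ∅` for non-conjugate `M`, `N`. -/
theorem tildeOf_disjoint {M N : Subgroup G} (hM : IsCoatom M) (hN : IsCoatom N)
    (hne : ∀ g : G, N ≠ conjMap g M) :
    Cfsg.tildeOf M ((Cfsg.sigmaCore M : Set G) \ {1}) ∩
      Cfsg.tildeOf N ((Cfsg.sigmaCore N : Set G) \ {1}) = ∅ := by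
  rw [Set.eq_empty_iff_forall_notMem]
  rintro _ ⟨⟨a, ⟨ha, ha1⟩, r, hr, y, rfl⟩, b, ⟨hb, hb1⟩, s, hs, z, h⟩
  have hy : y * a * y⁻¹ ∈ Cfsg.sigmaCore (conjMap y M) := by
    rw [sigmaCore_conjMap (M := M) y]; exact conj_mem_conjMap ha
  have hz : z * b * z⁻¹ ∈ Cfsg.sigmaCore (conjMap z N) := by
    rw [sigmaCore_conjMap (M := N) z]; exact conj_mem_conjMap hb
  have hy1 : y * a * y⁻¹ ≠ 1 := fun e => ha1 (conj_eq_one_iff.mp e)
  have hz1 : z * b * z⁻¹ ≠ 1 := fun e => hb1 (conj_eq_one_iff.mp e)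
  have hyM := isCoatom_conjMap' hG hM y
  have hzN := isCoatom_conjMap' hG hN z
  refine coset_separation hG hyM hzN hy hz hy1 hz1 (fun e => ?_)
    (r := y * r * y⁻¹) (s := z * s * z⁻¹) (by rw [supportR_conjMap hG hM ha ha1]; exact conj_mem_conjMap hr)
    (by rw [supportR_conjMap hG hN hb hb1]; exact conj_mem_conjMap hs) ?_
  · obtain ⟨p, hp, hd⟩ := Nat.exists_prime_and_dvd (fun e' => hy1 (orderOf_eq_one_iff.mp e'))
    have h1 : p ∈ Cfsg.sigma M := by
      rw [← sigma_conjMap y]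
      exact mem_sigma_of_dvd_sigmaCore hp (hd.trans ((Cfsg.sigmaCore _).orderOf_dvd_natCard hy))
    have h2 : p ∈ Cfsg.sigma N := by
      rw [← sigma_conjMap z]
      exact mem_sigma_of_dvd_sigmaCore hp (hd.trans ((Cfsg.sigmaCore _).orderOf_dvd_natCard (e ▸ hz)))
    exact (exists_conj_of_sigma_inter hG hM hN h1 h2).elim fun g hg => hne g hg
  · calc y * a * y⁻¹ * (y * r * y⁻¹) = y * (a * r) * y⁻¹ := by group
      _ = z * (b * s) * z⁻¹ := h
      _ = _ := by group

/-- The number of elements of `M̃`. -/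
theorem ncard_tildeOf {M : Subgroup G} (hM : IsCoatom M) :
    Set.ncard (Cfsg.tildeOf M ((Cfsg.sigmaCore M : Set G) \ {1})) =
      (Nat.card (Cfsg.sigmaCore M) - 1) * M.index := by
  classical
  let O := {N : Subgroup G // ∃ g : G, N = conjMap g M}
  let C := {x : G // x ≠ 1 ∧ ∃ N : O, x ∈ Cfsg.sigmaCore N.1}
  have hmk : ∀ x : C, ∃ g : G, (x : G) ∈ Cfsg.sigmaCore (conjMap g M) := fun x => by
    obtain ⟨⟨N, g, rfl⟩, h⟩ := x.2.2
    exact ⟨g, h⟩
  choose base hbase using hmk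
  let R : C → Subgroup G := fun x => Cfsg.supportR (conjMap (base x) M) x
  have hR : ∀ (x : C) (g : G), (x : G) ∈ Cfsg.sigmaCore (conjMap g M) →
      Cfsg.supportR (conjMap g M) x = R x := by
    intro x g hg
    have h := supportR_eq_of_conj hG (isCoatom_conjMap' hG hM (base x)) (hbase x) x.2.1
      (g := g * (base x)⁻¹) (by
        rw [conjMap_conjMap, inv_mul_cancel_right]
        exact sigmaCore_le _ hg)
    rwa [conjMap_conjMap, inv_mul_cancel_right] at h
  have hset : Cfsg.tildeOf M ((Cfsg.sigmaCore M : Set G) \ {1}) =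
      Set.range fun z : Σ x : C, R x => (z.1 : G) * z.2 := by
    ext w
    constructor
    · rintro ⟨a, ⟨ha, ha1⟩, r, hr, y, rfl⟩
      have hc : y * a * y⁻¹ ∈ Cfsg.sigmaCore (conjMap y M) := by
        rw [sigmaCore_conjMap (M := M) y]; exact conj_mem_conjMap ha
      let x : C := ⟨y * a * y⁻¹, fun e => ha1 (conj_eq_one_iff.mp e), ⟨_, y, rfl⟩, hc⟩
      refine ⟨⟨x, y * r * y⁻¹, ?_⟩, ?_⟩
      · rw [← hR x y hc, show ((x : G)) = y * a * y⁻¹ from rfl, supportR_conjMap hG hM ha ha1]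
        exact conj_mem_conjMap hr
      · show y * a * y⁻¹ * (y * r * y⁻¹) = y * (a * r) * y⁻¹
        group
    · rintro ⟨⟨x, r, hr⟩, rfl⟩
      set y := base x
      have ha : y⁻¹ * x * y ∈ Cfsg.sigmaCore M := (mem_sigmaCore_conjMap hG).mp (hbase x)
      have ha1 : y⁻¹ * (x : G) * y ≠ 1 := fun e => x.2.1 (by
        have h : (x : G) = y * (y⁻¹ * x * y) * y⁻¹ := by group
        rw [h, e]; group)
      refine ⟨_, ⟨ha, ha1⟩, y⁻¹ * r * y, ?_, y, ?_⟩
      · have h := supportR_conjMap hG hM ha ha1 y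
        rw [show y * (y⁻¹ * (x : G) * y) * y⁻¹ = (x : G) by group] at h
        have hr' : r ∈ conjMap y (Cfsg.supportR M (y⁻¹ * (x : G) * y)) := h ▸ hr
        exact mem_conjMap.mp hr'
      · show (x : G) * r = y * (y⁻¹ * x * y * (y⁻¹ * r * y)) * y⁻¹
        group
  have hinj : Function.Injective fun z : Σ x : C, R x => (z.1 : G) * z.2 := by
    rintro ⟨x, r⟩ ⟨y, s⟩ h
    have hxy : x = y := by
      by_contra hne
      exact coset_separation hG (isCoatom_conjMap' hG hM _) (isCoatom_conjMap' hG hM _) (hbase x) (hbase y)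
        x.2.1 y.2.1 (fun e => hne (Subtype.ext e)) r.2 s.2 h
    subst hxy
    obtain rfl : r = s := Subtype.ext (mul_left_cancel h)
    rfl
  -- counting pairs
  have hfib : ∀ x : C, Nat.card (R x) = Nat.card {N : O // (x : G) ∈ Cfsg.sigmaCore N.1} := by
    intro x
    have hM1 := isCoatom_conjMap' hG hM (base x)
    have hcore : ∀ r ∈ R x, (x : G) ∈ Cfsg.sigmaCore (conjMap (r * base x) M) := by
      intro r hr
      rw [← conjMap_conjMap, mem_sigmaCore_conjMap hG]
      have hrC : r ∈ centralizer ({(x : G)} : Set G) := by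
        rcases mem_supportR hG hM1 (hbase x) x.2.1 hr with rfl | ⟨L, -, -, h⟩
        · exact one_mem _
        · exact h
      rw [mul_assoc, ← mem_centralizer_singleton_iff.mp hrC, ← mul_assoc, inv_mul_cancel, one_mul]
      exact hbase x
    refine Nat.card_eq_of_bijective (fun r => ⟨⟨conjMap ((r : G) * base x) M, _, rfl⟩, hcore r r.2⟩) ⟨?_, ?_⟩
    · intro r s h
      have h' : conjMap ((r : G) * base x) M = conjMap ((s : G) * base x) M :=
        congrArg (fun z : {N : O // (x : G) ∈ Cfsg.sigmaCore N.1} => z.1.1) h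
      rw [← conjMap_conjMap, ← conjMap_conjMap] at h'
      refine Subtype.ext ((existsUnique_supportR hG hM1 (hbase x) x.2.1 (g := (s : G)) ?_).unique
        ⟨r.2, h'⟩ ⟨s.2, rfl⟩)
      rw [conjMap_conjMap]
      exact sigmaCore_le _ (hcore s s.2)
    · rintro ⟨⟨N, g, rfl⟩, hN⟩
      obtain ⟨r, ⟨hr, hrg⟩, -⟩ := existsUnique_supportR hG hM1 (hbase x) x.2.1 (g := g * (base x)⁻¹)
        (by rw [conjMap_conjMap, inv_mul_cancel_right]; exact sigmaCore_le _ hN)
      rw [conjMap_conjMap, conjMap_conjMap, inv_mul_cancel_right] at hrg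
      exact ⟨⟨r, hr⟩, Subtype.ext (Subtype.ext hrg)⟩
  haveI : Finite O := Finite.of_injective (fun N => (N.1 : Set G))
    (fun a b h => Subtype.ext (SetLike.coe_injective h))
  letI := Fintype.ofFinite O
  letI := Fintype.ofFinite C
  have hO : Nat.card O = M.index := by
    rw [Subgroup.index_eq_card]
    refine (Nat.card_eq_of_bijective (fun q : G ⧸ M => Quotient.liftOn' q
      (fun g => (⟨conjMap g M, g, rfl⟩ : O)) fun a b h => Subtype.ext ((conjMap_left_inj hG hM).mpr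
        (QuotientGroup.leftRel_apply.mp h))) ⟨?_, ?_⟩).symm
    · intro a b
      refine Quotient.inductionOn₂' a b fun a b h => ?_
      exact QuotientGroup.eq.mpr ((conjMap_left_inj hG hM).mp (congrArg Subtype.val h))
    · rintro ⟨N, g, rfl⟩
      exact ⟨QuotientGroup.mk g, rfl⟩
  rw [hset, Set.ncard_range_of_injective hinj, Nat.card_sigma]
  simp only [hfib]
  rw [← Nat.card_sigma]
  let e : (Σ x : C, {N : O // (x : G) ∈ Cfsg.sigmaCore N.1}) ≃
      Σ N : O, {a : G // a ∈ Cfsg.sigmaCore N.1 ∧ a ≠ 1} :=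
    { toFun := fun z => ⟨z.2.1, z.1.1, z.2.2, z.1.2.1⟩
      invFun := fun z => ⟨⟨z.2.1, z.2.2.2, z.1, z.2.2.1⟩, z.1, z.2.2.1⟩
      left_inv := fun _ => rfl
      right_inv := fun _ => rfl }
  rw [Nat.card_congr e, Nat.card_sigma]
  have hcnt : ∀ N : O, Nat.card {a : G // a ∈ Cfsg.sigmaCore N.1 ∧ a ≠ 1} =
      Nat.card (Cfsg.sigmaCore M) - 1 := by
    rintro ⟨N, g, rfl⟩
    have h1 : Nat.card {a : G // a ∈ Cfsg.sigmaCore (conjMap g M) ∧ a ≠ 1} =
        ((Cfsg.sigmaCore (conjMap g M) : Set G) \ {1}).ncard := by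
      rw [← Nat.card_coe_set_eq]
      exact Nat.card_congr (Equiv.subtypeEquivRight fun a => Iff.rfl)
    rw [h1, Set.ncard_diff_singleton_of_mem (one_mem _), ← Nat.card_coe_set_eq]
    show Nat.card ↥(Cfsg.sigmaCore (conjMap g M)) - 1 = _
    rw [sigmaCore_conjMap (M := M) g, card_conjMap]
  simp only [hcnt, Finset.sum_const, Finset.card_univ, smul_eq_mul]
  rw [← Nat.card_eq_fintype_card, hO, mul_comm]

/-- Elements of order prime to `κ(N)` lie in `U N_σ`. -/
theorem mem_sup_of_not_kappa {N K U : Subgroup G} (h : Cfsg.IsSigmaDecomposition N K U) {x : G}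
    (hx : x ∈ N) (hκ : ∀ p : ℕ, p.Prime → p ∣ orderOf x → p ∉ Cfsg.kappa N) :
    x ∈ U ⊔ Cfsg.sigmaCore N := by
  set V := U ⊔ Cfsg.sigmaCore N
  have hVN : V ≤ N := sup_le h.compl.1 (sigmaCore_le N)
  have hKn : K ≤ normalizer (V : Set G) := fun k hk => by
    rw [mem_normalizer_iff_map_conj_eq, Subgroup.map_sup,
      mem_normalizer_iff_map_conj_eq.mp (h.normal hk),
      mem_normalizer_iff_map_conj_eq.mp (le_normalizer_sigmaCore N (h.hall.1 hk))]
  obtain ⟨u, hu, b, hb, rfl⟩ := h.compl.2.2.2 x hx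
  obtain ⟨m, hm, k, hk, rfl⟩ :=
    (CfsgLib.Coprime.mem_sup_of_le_normalizer (h.hall.1.trans (le_normalizer_sigmaCore N))).mp
      (by rwa [sup_comm] at hb)
  have hv : u * m ∈ V := mul_mem (mem_sup_left hu) (mem_sup_right hm)
  have hpow : ∀ n : ℕ, (u * (m * k)) ^ n * (k ^ n)⁻¹ ∈ V := by
    intro n
    induction n with
    | zero => simp
    | succ n ih =>
      rw [pow_succ', pow_succ', show u * (m * k) * (u * (m * k)) ^ n * (k * k ^ n)⁻¹ =
        (u * m) * (k * ((u * (m * k)) ^ n * (k ^ n)⁻¹) * k⁻¹) by group]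
      exact mul_mem hv ((mem_normalizer_iff.mp (hKn hk) _).mp ih)
  have hkn : k ^ orderOf (u * (m * k)) ∈ V := by
    have := hpow (orderOf (u * (m * k)))
    rwa [pow_orderOf_eq_one, one_mul, inv_mem_iff] at this
  have hcop : (orderOf (u * (m * k))).Coprime (orderOf k) := coprime_of_forall fun p hp h1 h2 =>
    hκ p hp h1 (h.hall.2.1 p hp (h2.trans (K.orderOf_dvd_natCard hk)))
  obtain ⟨j, hj⟩ := exists_pow_eq_self_of_coprime hcop
  have hkV : k ∈ V := hj ▸ pow_mem hkn j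
  rw [show u * (m * k) = u * m * k by group]
  exact mul_mem hv hkV

end CfsgLib.BG14
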