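import Cfsg.Agent.Lib.BG14.NonTI

/-!
The nonabelian cases for a Fitting subgroup which is not TI, and the resulting structure theorem.
-/

set_option autoImplicit false
set_option linter.style.haveILetI false
set_option linter.unusedSectionVars false

namespace CfsgLib.BG14

open Subgroup CfsgLib.PLocal CfsgLib.OddLocal CfsgLib.BG
open scoped commutatorElement

universe u
variable {G : Type u} [Group G] [Finite G]

theorem exponent_quotient_fittingHall {M E : Subgroup G} (hsup : Cfsg.fittingHallOf M ⊔ E = M)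
    (hEn : E ≤ normalizer (Cfsg.fittingHallOf M : Set G)) :
    Monoid.exponent (M ⧸ Cfsg.fittingHall M) ∣ Monoid.exponent E := by
  refine Monoid.exponent_dvd_of_forall_pow_eq_one fun q => ?_
  obtain ⟨m, rfl⟩ := QuotientGroup.mk'_surjective (Cfsg.fittingHall M) q
  have hm : (m : G) ∈ Cfsg.fittingHallOf M ⊔ E := hsup.ge m.2
  obtain ⟨h, hh, e, he, hhe⟩ := (CfsgLib.Coprime.mem_sup_of_le_normalizer hEn).mp hm
  obtain ⟨h', hh', rfl⟩ := hh
  have heM : e ∈ M := hsup.le (mem_sup_right he)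
  have hme : m = h' * ⟨e, heM⟩ := Subtype.ext hhe.symm
  have hpow : (⟨e, heM⟩ : M) ^ Monoid.exponent E = 1 := by
    have h1 := congrArg Subtype.val (Monoid.pow_exponent_eq_one (⟨e, he⟩ : E))
    exact Subtype.ext h1
  rw [hme, map_mul, show QuotientGroup.mk' (Cfsg.fittingHall M) h' = 1 from
    (QuotientGroup.eq_one_iff _).mpr hh', one_mul, ← map_pow, hpow, map_one]

theorem pow_eq_one_of_line {L H : Subgroup G} {q : ℕ} [Fact q.Prime] (hL : Nat.card L = q)
    (hLH : L ≤ H) {e : G} (he : e ∈ normalizer (L : Set G))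
    (hfix : e ^ (q - 1) ≠ 1 → H ⊓ centralizer ({e ^ (q - 1)} : Set G) = ⊥) : e ^ (q - 1) = 1 := by
  by_contra h
  refine ne_bot_of_card_prime hL (le_bot_iff.mp ((hfix h).le.trans' fun x hx => ?_))
  exact ⟨hLH hx, mem_centralizer_singleton_iff.mpr (commute_pow_pred hL he hx).eq.symm⟩

variable (hG : Cfsg.IsMinSimpleOddOrder G)

section Nonab

variable {M N : Subgroup G} {z : G} {p : ℕ} [hp : Fact p.Prime]

/-- A point whose Sylow subgroup is nonabelian, with its exceptional square. -/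
structure NonabPoint (p : ℕ) (M N : Subgroup G) (z : G) (P A A₀ : Subgroup G) : Prop where
  o : Point p M N z
  sylσ : SylowIn p P (Cfsg.sigmaCore M)
  normal : M ≤ normalizer (P : Set G)
  sylM : SylowIn p P M
  sylG : SylowIn p P ⊤
  maxp : ∀ E : Subgroup G, IsPGroup p E → E ≤ M → E ≤ P
  nonab : ¬ IsMulCommutative P
  exc : IsExc p N A A₀
  A_le : A ≤ M ⊓ N

theorem Point.exists_nonabPoint (o : Point p M N z) (hG : Cfsg.IsMinSimpleOddOrder G)
    (hna : ¬ ∀ T : Subgroup G, SylowIn p T M → IsMulCommutative T) :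
    ∃ P A A₀, NonabPoint p M N z P A A₀ := by
  push Not at hna
  obtain ⟨T, hT, hTna⟩ := hna
  obtain ⟨P, hP, hn, hPM, hPG, hle⟩ := o.exists_sylow hG (o.sigma hG)
  obtain ⟨A, A₀, hAF, hA⟩ := o.exists_exc hG
  have hTP : T = P := hT.eq_of_le hPM.2.1 hPM.1 (hle T hT.2.1 hT.1)
  exact ⟨P, A, A₀, o, hP, hn, hPM, hPG, hle, hTP ▸ hTna, hA, hAF⟩

namespace NonabPoint

variable {P A A₀ : Subgroup G} (n : NonabPoint p M N z P A A₀)
include n hG

theorem hN : IsCoatom N := n.o.supp.hL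

theorem A_le_P : A ≤ P := n.maxp A n.exc.sq.isPGroup (n.A_le.trans inf_le_left)

theorem z_mem_P : z ∈ P :=
  n.maxp _ (isPGroup_of_card_prime (card_zpowers_eq n.o.order)) (zpowers_le.mpr n.o.z_inter.1)
    (mem_zpowers z)

theorem not_le_N : ¬ P ≤ N := fun h => n.nonab ((i1420 hG N n.o.supp.hL (M ⊓ N) n.o.supp.compl).1 P h
  n.sylσ.2.1.isNilpotent fun r hr hd =>
    n.o.not_sigma hG ((prime_dvd_pgroup_card n.sylσ.2.1 hr hd).symm ▸ n.o.sigma hG))

theorem sylow_inter : SylowIn p (P ⊓ N) (M ⊓ N) := by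
  obtain ⟨T, hT, hle⟩ := exists_sylowIn_le (n.sylσ.2.1.to_le (inf_le_left (b := N)))
    (inf_le_inf_right N (n.sylM.1) : P ⊓ N ≤ M ⊓ N)
  rwa [le_antisymm (le_inf (n.maxp T hT.2.1 (hT.1.trans inf_le_left)) (hT.1.trans inf_le_right)) hle]
    at hT

theorem tau2_eq : Cfsg.tau2 N = {p} := by
  refine (i1419 hG N n.o.supp.hL (M ⊓ N) n.o.supp.compl p (n.o.supp.tau2 p hp.out n.o.order.symm.dvd)
    (fun S hS => n.nonab ?_) A ⟨n.A_le, n.exc.sq.1, n.exc.sq.2⟩).1
  obtain ⟨k, -, hk⟩ := n.sylG.exists_conj_eq (CfsgLib.PLocal.sylowIn_top S)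
  rw [← hk]
  exact ⟨⟨fun a b => Subtype.ext (by
    obtain ⟨a', ha', ea⟩ := a.2
    obtain ⟨b', hb', eb⟩ := b.2
    show (a : G) * b = b * a
    rw [← ea, ← eb, ← map_mul, ← map_mul, (commute_of_isMulCommutative hS ha' hb').eq])⟩⟩

theorem not_central : ¬ P ≤ centralizer ({z} : Set G) := fun h => n.not_le_N hG (h.trans n.o.supp.le)

theorem omega : ∀ x ∈ P, Commute x z → x ^ p = 1 → x ∈ A := by
  intro x hx hxz hxp
  have hxN : x ∈ N := n.o.supp.le (mem_centralizer_singleton_iff.mpr hxz.eq)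
  obtain ⟨T, hT, hle⟩ := exists_sylowIn_le (n.sylσ.2.1.to_le (inf_le_left (b := N)))
    (inf_le_right : P ⊓ N ≤ N)
  obtain ⟨-, hΩ, -⟩ := n.exc.sylow_abelian hG n.o.supp.hL hT
    ((le_inf (n.A_le_P hG) (n.A_le.trans inf_le_right)).trans hle)
  exact (hΩ x (hle ⟨hx, hxN⟩)).mp hxp

theorem mem_A₀ {x y : G} (hx : x ∈ P) (hxN : x ∈ N) (hy : y ∈ Cfsg.sigmaCore N) (hy1 : y ≠ 1)
    (hxy : Commute x y) : x ∈ A₀ :=
  n.exc.mem_line_of_fixed hG n.o.supp.hL n.o.supp.compl n.A_le (n.sylow_inter hG)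
    (le_inf (n.A_le_P hG) (n.A_le.trans inf_le_right)) n.sylG inf_le_left
    (fun h => n.not_le_N hG (inf_eq_left.mp h)) ⟨n.sylM.1 hx, hxN⟩
    (n.sylσ.2.1.to_le (zpowers_le.mpr hx)) hy hy1 hxy

theorem exists_center_line : ∃ Z, IsLine p A Z ∧ P ≤ centralizer (Z : Set G) ∧
    M ≤ normalizer (Z : Set G) := by
  have hP1 : P ≠ ⊥ := fun e => n.exc.sq.ne_bot (le_bot_iff.mp (e ▸ n.A_le_P hG))
  haveI : Nontrivial P := (nontrivial_iff_ne_bot P).mpr hP1
  haveI := n.sylσ.2.1.center_nontrivial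
  obtain ⟨w, ⟨⟨y, hyc, rfl⟩, hwo⟩⟩ := exists_order_p (P := (center P).map P.subtype)
    ((n.sylσ.2.1.to_subgroup _).map P.subtype) (by
      rw [Ne, map_eq_bot_iff_of_injective _ P.subtype_injective]
      exact (nontrivial_iff_ne_bot _).mp inferInstance)
  have hc : ∀ a ∈ P, Commute a (P.subtype y) := fun a ha =>
    congrArg Subtype.val (mem_center_iff.mp hyc ⟨a, ha⟩)
  set w := P.subtype y with hw
  have hwA : w ∈ A := (n.exc.isMaxSq hG n.o.supp.hL).mem_of_pow_eq_one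
    (mem_centralizer_iff.mpr fun a ha => (hc a (n.A_le_P hG ha)).eq) (hwo ▸ pow_orderOf_eq_one w)
  have hw1 : w ≠ 1 := fun e => hp.out.ne_one (by rw [← hwo, e, orderOf_one])
  have hl := n.exc.sq.card_zpowers hwA hw1
  have hPc : P ≤ centralizer (zpowers w : Set G) := by
    rw [centralizer_zpowers_eq]
    exact fun a ha => mem_centralizer_singleton_iff.mpr (hc a ha).eq
  -- uniqueness
  have huniq : ∀ v ∈ P, (∀ a ∈ P, Commute a v) → v ^ p = 1 → v ∈ zpowers w := by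
    intro v hv hvc hvp
    by_contra hvw
    have hvA := (n.exc.isMaxSq hG n.o.supp.hL).mem_of_pow_eq_one
      (mem_centralizer_iff.mpr fun a ha => (hvc a (n.A_le_P hG ha)).eq) hvp
    obtain ⟨a, ha, b, hb, hab⟩ := n.exc.sq.exists_decomp hl
      (n.exc.sq.card_zpowers hvA fun e => hvw (e ▸ one_mem _))
      (fun e => hvw (e.ge (mem_zpowers v)))
      (n.omega hG z (n.z_mem_P hG) (Commute.refl z) (n.o.order ▸ pow_orderOf_eq_one z))
    obtain ⟨i, rfl⟩ := mem_zpowers_iff.mp ha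
    obtain ⟨j, rfl⟩ := mem_zpowers_iff.mp hb
    refine n.not_central hG fun c hcP => mem_centralizer_singleton_iff.mpr ?_
    rw [← hab]
    exact (((hc c hcP).zpow_right i).mul_right ((hvc c hcP).zpow_right j)).eq
  refine ⟨_, hl, hPc, fun m hm => conjMap_eq_self_iff.mp (eq_of_le_of_card_ge ?_ (card_conjMap m _).ge)⟩
  rw [← zpowers_conj_eq, zpowers_le]
  have hmP := mem_normalizer_iff.mp (n.normal hm)
  refine huniq _ ((hmP w).mp (n.A_le_P hG hwA)) (fun a ha => ?_) ?_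
  · have ha' : m⁻¹ * a * m ∈ P := (hmP _).mpr (by simpa [mul_assoc] using ha)
    have h2 := (hc _ ha').map (MulAut.conj m).toMonoidHom
    simpa [mul_assoc] using h2
  · rw [conj_pow, ← hwo, pow_orderOf_eq_one, mul_one, mul_inv_cancel]

theorem isCyclic_coprime_part {V : Subgroup G} (hV : V ≤ Cfsg.sigmaCore M) (hVp : ¬ p ∣ Nat.card V) :
    IsCyclic V := by
  haveI := isNilpotent_of_le n.o.nil hV
  haveI : IsZGroup V := isZGroup_of_prankLE_one hG fun q hq hd => by
    haveI := Fact.mk hq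
    have hne : q ≠ p := fun e => hVp (e ▸ hd)
    have hσ := mem_sigma_of_dvd_sigmaCore hq (hd.trans (card_dvd_of_le hV))
    by_contra hk
    obtain ⟨B, hBV, hB⟩ := exists_sq_le_of_not_prankLE le_rfl hk
    have hBN : B ≤ N := (n.o.le_centralizer hG hσ hB.isPGroup (hBV.trans (hV.trans (sigmaCore_le M)))
      fun e => absurd e hne).trans n.o.supp.le
    have hσN := n.o.not_sigma hG hσ
    have hτ : q ∈ Cfsg.tau2 N := ⟨hq, hσN, prankLE_two_of_not_sigma hG n.o.supp.hL hσN,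
      hB.not_prankLE_one hBN⟩
    rw [n.tau2_eq hG] at hτ
    exact hne hτ
  infer_instance

theorem exists_line {q : ℕ} [Fact q.Prime] (hd : q ∣ Nat.card (Cfsg.sigmaCore M)) :
    ∃ L : Subgroup G, Nat.card L = q ∧ L ≤ Cfsg.sigmaCore M ∧ M ≤ normalizer (L : Set G) := by
  rcases eq_or_ne q p with rfl | hne
  · obtain ⟨Z, hZ, -, hn⟩ := n.exists_center_line hG
    exact ⟨Z, hZ.2, (hZ.1.trans (n.A_le_P hG)).trans n.sylσ.1, hn⟩
  obtain ⟨T, hT, hn, -, -, -⟩ := n.o.exists_sylow hG (mem_sigma_of_dvd_sigmaCore Fact.out hd)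
  have hTc := n.isCyclic_coprime_part hG hT.1 fun h =>
    hne (prime_dvd_pgroup_card hT.2.1 hp.out h).symm
  obtain ⟨x, hx, hxo⟩ := exists_order_p hT.2.1 fun e => hT.2.2 (by
    rw [e, relIndex_bot_left]; exact hd)
  exact ⟨zpowers x, card_zpowers_eq hxo, (zpowers_le.mpr hx).trans hT.1,
    hn.trans (normalizer_le_of_cyclic hTc (zpowers_le.mpr hx))⟩

theorem mem_fitting_point {x : G} (hx : x ∈ Cfsg.sigmaCore M) (hxp : IsPGroup p (zpowers x))
    (hz : z ∈ zpowers x) (hxM : ¬ centralizer ({x} : Set G) ≤ M) : x ∈ A₀ := by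
  have hx1 : x ≠ 1 := fun e => n.o.z_ne (mem_bot.mp (zpowers_eq_bot.mpr e ▸ hz))
  have hCx : centralizer ({x} : Set G) ≤ N := by
    refine le_trans ?_ n.o.supp.le
    rw [← centralizer_zpowers_eq]
    exact centralizer_le_of_mem hz
  have s := exists_support_eq hG n.o.hM hx hx1 hxM n.o.supp.hL hCx
  obtain ⟨y, hy, hy1⟩ := (Cfsg.sigmaCore N ⊓ centralizer ({x} : Set G)).bot_or_exists_ne_one.resolve_left
    s.ne_bot
  exact n.mem_A₀ hG (n.maxp _ hxp (zpowers_le.mpr (sigmaCore_le M hx)) (mem_zpowers x))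
    (hCx (mem_centralizer_singleton_iff.mpr rfl)) hy.1 hy1 (mem_centralizer_singleton_iff.mp hy.2).symm

theorem eq_prime_of_commute {w : G} (hw : w ∈ Cfsg.sigmaCore M) (hwp : (orderOf w).Prime)
    (hzw : Commute z w) (hzwM : ¬ centralizer ({z * w} : Set G) ≤ M) : orderOf w = p := by
  by_contra hne
  have hcop : (orderOf z).Coprime (orderOf w) := by
    rw [n.o.order]; exact (Nat.coprime_primes hp.out hwp).mpr (Ne.symm hne)
  have ho : orderOf (z * w) = p * orderOf w := by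
    rw [hzw.orderOf_mul_eq_mul_orderOf_of_coprime hcop, n.o.order]
  have hmem : z ∈ zpowers (z * w) := by
    obtain ⟨k, hk⟩ := _root_.exists_pow_eq_self_of_coprime (G := G) (x := z) (n := orderOf w) hcop.symm
    have h1 : (z * w) ^ orderOf w = z ^ orderOf w := by rw [hzw.mul_pow, pow_orderOf_eq_one, mul_one]
    have h2 : ((z * w) ^ orderOf w) ^ k ∈ zpowers (z * w) :=
      Subgroup.pow_mem _ (Subgroup.pow_mem _ (mem_zpowers _) _) _
    rwa [h1, hk] at h2
  have hCN : centralizer ({z * w} : Set G) ≤ N := by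
    refine le_trans ?_ n.o.supp.le
    rw [← centralizer_zpowers_eq]
    exact centralizer_le_of_mem hmem
  have s := exists_support_eq hG n.o.hM (Subgroup.mul_mem _ n.o.mem hw) (fun e => hp.out.ne_one (by
    have h2 : p ∣ orderOf (z * w) := ho ▸ dvd_mul_right _ _
    rw [e, orderOf_one] at h2
    exact Nat.eq_one_of_dvd_one h2)) hzwM n.o.supp.hL hCN
  have hτ := s.tau2 (orderOf w) hwp (ho ▸ dvd_mul_left _ _)
  rw [n.tau2_eq hG] at hτ
  exact hne hτ

theorem star_le_derived {K U E : Subgroup G} (d : PData M K U E) :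
    starOf M K ≤ ⁅P, P⁆ := by
  obtain ⟨k, hk, hkp⟩ := d.exists_prime hG
  haveI := Fact.mk hkp
  obtain ⟨-, hpg⟩ := n.o.star_pgroup hG d
  have h1 : starOf M K ≤ ⁅Cfsg.sigmaCore M, Cfsg.sigmaCore M⁆ :=
    fixed_le_derived hG n.o.hM (d.tau1_all hG hk hkp) (n.o.sigma hG) (n.o.not_beta hG (n.o.sigma hG))
      (zpowers_le.mpr (d.K_le_M hG hk)) (card_zpowers_eq rfl) hpg inf_le_left
      (inf_le_right.trans (Subgroup.centralizer_le (zpowers_le.mpr hk)))
  refine h1.trans ?_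
  set S := Cfsg.sigmaCore M with hS
  set W := Cfsg.piCoreOf {q | q.Prime ∧ q ≠ p} S with hW
  have hWp : ¬ p ∣ Nat.card W := fun h => (piCoreOf_spec _ _ p hp.out h).2 rfl
  have hWc := n.isCyclic_coprime_part hG (piCoreOf_le _ _) hWp
  have hPW : P ≤ centralizer (W : Set G) := le_centralizer_of_nilpotent (G := G) n.o.nil n.sylσ.1
    (piCoreOf_le _ _) (coprime_pgroup_of_not_dvd n.sylσ.2.1 hWp)
  have hsup : S ≤ P ⊔ W := CfsgLib.BG14.le_of_sylows fun q hq hd => by
    haveI := Fact.mk hq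
    obtain ⟨T, hT, hn, -, -, -⟩ := n.o.exists_sylow hG (mem_sigma_of_dvd_sigmaCore hq hd)
    rcases eq_or_ne q p with rfl | hne
    · exact ⟨P, n.sylσ, le_sup_left⟩
    · exact ⟨T, hT, le_sup_of_le_right (le_piCoreOf hT.1 ((sigmaCore_le M).trans hn) fun t ht htd =>
        ⟨ht, (prime_dvd_pgroup_card hT.2.1 ht htd).trans_ne hne⟩)⟩
  have hWP : W ≤ normalizer (P : Set G) := ((piCoreOf_le _ _).trans (sigmaCore_le M)).trans n.normal
  rw [commutator_le]
  intro a ha b hb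
  obtain ⟨u, hu, v, hv, rfl⟩ := (CfsgLib.Coprime.mem_sup_of_le_normalizer hWP).mp (hsup ha)
  obtain ⟨u', hu', v', hv', rfl⟩ := (CfsgLib.Coprime.mem_sup_of_le_normalizer hWP).mp (hsup hb)
  have c1 : ∀ x ∈ P, ∀ y ∈ W, Commute x y := fun x hx y hy =>
    (mem_centralizer_iff.mp (hPW hx) y hy).symm
  haveI := hWc
  have c2 : Commute v v' := congrArg Subtype.val
    ((IsCyclic.isMulCommutative (α := W)).is_comm.comm ⟨v, hv⟩ ⟨v', hv'⟩)
  have e : ⁅u * v, u' * v'⁆ = ⁅u, u'⁆ := by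
    rw [show ⁅u * v, u' * v'⁆ = u * ⁅v, u' * v'⁆ * u⁻¹ * ⁅u, u' * v'⁆ by
        simp only [commutatorElement_def]; group,
      commutatorElement_eq_one_iff_mul_comm.mpr ((c1 u' hu' v hv).symm.mul_right c2).eq, mul_one,
      mul_inv_cancel, one_mul, commutator_mul_right_of_commute
        (by rw [commutatorElement_eq_one_iff_mul_comm.mpr (c1 u hu v' hv').eq]; exact Commute.one_right _),
      commutatorElement_eq_one_iff_mul_comm.mpr (c1 u hu v' hv').eq, mul_one]
  rw [e]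
  exact commutator_mem_commutator hu hu'

/-- The two nonabelian cases. -/
theorem cases (hH : Cfsg.fittingHallOf M = Cfsg.sigmaCore M) :
    (∀ q : ℕ, q.Prime → q ∣ Nat.card (Cfsg.fittingHallOf M) →
        Monoid.exponent (M ⧸ Cfsg.fittingHall M) ∣ q - 1) ∨
      ∃ K U E, PData M K U E ∧ U = ⊥ ∧ Nat.card P = p ^ 3 ∧ Nat.card K ∣ p + 1 := by
  have hM := n.o.hM
  rcases Set.eq_empty_or_nonempty (Cfsg.kappa M) with hκ | hκ
  · left
    intro q hq hd
    haveI := Fact.mk hq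
    obtain ⟨E, hE⟩ := exists_compl hG hM
    obtain ⟨-, E₀, hE₀, hexp, hfpf⟩ := Cfsg.Agent.S1421.result hG M hM E hE fun e he he1 hτ => by
      by_contra hne
      obtain ⟨r, i, hr, hrd, hi⟩ := exists_prime_pow he1
      have hfix : Cfsg.sigmaCore M ⊓ centralizer ({e ^ i} : Set G) ≠ ⊥ := fun h0 => hne
        (le_bot_iff.mp (h0 ▸ inf_le_inf_left _ (centralizer_singleton_le_pow e i)))
      have hk := mem_kappa_of_fix hG hM (Subgroup.pow_mem _ (hE.1 he) i) (hi.symm ▸ hr)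
        (hi.symm ▸ not_sigma_of_mem_compl hG hM hE he hr hrd)
        (hi.symm ▸ tau13_prankLE hG hM (hτ r hr hrd)) hfix
      rw [hκ] at hk
      exact hk
    obtain ⟨L, hL, hLσ, hLn⟩ := n.exists_line hG (q := q) (hH ▸ hd)
    refine (exponent_quotient_fittingHall (E := E) ?_ ?_).trans (hexp.symm.dvd.trans ?_)
    · rw [hH, sup_comm]; exact isComplIn_sup hE
    · rw [hH]; exact hE.1.trans (le_normalizer_sigmaCore M)
    · refine Monoid.exponent_dvd_of_forall_pow_eq_one fun e => Subtype.ext ?_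
      exact pow_eq_one_of_line hL hLσ (hLn (hE.1 (hE₀ e.2))) fun h =>
        hfpf _ (Subgroup.pow_mem _ e.2 _) h
  obtain ⟨p₀, hp₀⟩ := hκ
  obtain ⟨K, U, E, d⟩ := exists_of_mem_kappa hG hM hp₀
  have hU : U = ⊥ := by
    by_contra hU
    refine sigmaCore_ne_bot hG hM (le_bot_iff.mp (d.star_U hG hU ▸ le_inf le_rfl ?_))
    exact le_centralizer_iff.mp ((d.U_le_derived hG).trans (n.o.derived_centralizes hG d.compl))
  have hEK : E = K := by rw [← d.sup_eq hG, hU, bot_sup_eq]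
  have hcyc := d.isCyclic_K hG
  have hKM := d.K_le_M hG
  have hfix : ∀ k ∈ K, k ≠ 1 → Cfsg.sigmaCore M ⊓ centralizer ({k} : Set G) = starOf M K :=
    fun k hk h1 => d.fix_eq hG hk h1
  obtain ⟨-, hpg⟩ := n.o.star_pgroup hG d
  by_cases hexp : Monoid.exponent K ∣ p - 1
  · left
    intro q hq hd
    haveI := Fact.mk hq
    refine (exponent_quotient_fittingHall (E := K) ?_ ?_).trans ?_
    · rw [hH, sup_comm, ← hEK]; exact isComplIn_sup d.compl
    · rw [hH]; exact hKM.trans (le_normalizer_sigmaCore M)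
    rcases eq_or_ne q p with rfl | hne
    · exact hexp
    refine Monoid.exponent_dvd_of_forall_pow_eq_one fun e => Subtype.ext ?_
    obtain ⟨L, hL, hLσ, hLn⟩ := n.exists_line hG (q := q) (hH ▸ hd)
    show (e : G) ^ (q - 1) = 1
    by_contra he
    have hle : L ≤ starOf M K := by
      rw [← hfix _ (Subgroup.pow_mem _ e.2 _) he]
      exact fun x hx => ⟨hLσ hx,
        mem_centralizer_singleton_iff.mpr (commute_pow_pred hL (hLn (hKM e.2)) hx).eq.symm⟩
    exact hne (prime_dvd_pgroup_card hpg hq (hL ▸ card_dvd_of_le hle))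
  right
  have hstar : starOf M K ≤ P := n.maxp _ hpg (d.star_le hG)
  obtain ⟨Z, hZ, hZc, -⟩ := n.exists_center_line hG
  have hKσ : ∀ t : ℕ, t.Prime → t ∣ Nat.card K → t ∉ Cfsg.sigma M := fun t ht hd =>
    not_sigma_of_dvd_compl hG hM d.compl ht (hd.trans (card_dvd_of_le d.K_le))
  have hPK : ∀ k ∈ K, k ≠ 1 → P ⊓ centralizer ({k} : Set G) = starOf M K := fun k hk h1 => by
    refine le_antisymm ((inf_le_inf_right _ n.sylσ.1).trans (hfix k hk h1).le) (le_inf hstar ?_)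
    exact inf_le_right.trans (Subgroup.centralizer_le (Set.singleton_subset_iff.mpr hk))
  have hPCK : P ⊓ centralizer (K : Set G) = starOf M K :=
    le_antisymm (inf_le_inf_right _ n.sylσ.1) (le_inf hstar inf_le_right)
  have hG2 : p ≠ 2 := (two_lt_of_dvd hG hp.out (n.o.order ▸ orderOf_dvd_natCard z)).ne'
  have c : CubeData p P K A Z z :=
    { odd := hG2
      pgroup := n.sylσ.2.1
      sq := n.exc.sq
      A_le := n.A_le_P hG
      line := hZ
      central := hZc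
      z_mem := n.omega hG z (n.z_mem_P hG) (Commute.refl z) (n.o.order ▸ pow_orderOf_eq_one z)
      not_central := n.not_central hG
      omega := n.omega hG
      cyclic := hcyc
      normal := hKM.trans n.normal
      oddK := hG.1.of_dvd_nat (Subgroup.card_subgroup_dvd_card K)
      coprime := (coprime_sigmaCore hG hM hKσ).coprime_dvd_right (card_dvd_of_le n.sylσ.1)
      prime_act := fun k hk h1 => (hPK k hk h1).trans hPCK.symm
      fix_le := hPCK.le.trans (n.star_le_derived hG d)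
      not_dvd := hexp }
  exact ⟨K, U, E, d, hU, c.card_P, c.card_dvd⟩

end NonabPoint

end Nonab

include hG

theorem pCore_map_eq {H P : Subgroup G} {p : ℕ} [Fact p.Prime] (hP : SylowIn p P H)
    (hn : H ≤ normalizer (P : Set G)) : (Cfsg.pCore p H).map H.subtype = P := by
  refine le_antisymm ?_ ?_
  · obtain ⟨k, hk, hle⟩ := hP.exists_conj_le ((CfsgLib.Solvable.pCore_isPGroup (G := H) p).map H.subtype)
      (map_subtype_le _)
    have h := conjMap_mono (g := k⁻¹) hle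
    rw [conjMap_inv_conjMap, conjMap_eq_self_iff.mpr (hn (inv_mem hk))] at h
    exact h
  · rw [← map_subgroupOf_eq_of_le hP.1]
    exact map_mono (CfsgLib.Solvable.le_pCore (CfsgLib.Coprime.normal_subgroupOf_of_le_normalizer hn)
      (hP.2.1.of_equiv (subgroupOfEquivOfLe hP.1).symm))

/-- The structure of `M` when `F(M) ∩ F(M)^g ≠ 1` for some `g ∉ M`. -/
theorem nonTI_structure (M : Subgroup G) (hM : IsCoatom M) (K U : Subgroup G)
    (hKU : Cfsg.IsSigmaDecomposition M K U) (g : G) (hg : g ∉ M)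
    (hX : Cfsg.fittingOf M ⊓ (Cfsg.fittingOf M).map (MulAut.conj g).toMonoidHom ≠ ⊥) :
    (Cfsg.fittingOf M ⊓ (Cfsg.fittingOf M).map (MulAut.conj g).toMonoidHom ≤ Cfsg.fittingHallOf M ∧
        IsCyclic ↥(Cfsg.fittingOf M ⊓ (Cfsg.fittingOf M).map (MulAut.conj g).toMonoidHom)) ∧
      (⁅M, M⁆ ≤ Cfsg.fittingOf M ∧ Cfsg.fittingOf M =
        Cfsg.sigmaCore M ⊔ Cfsg.piCoreOf {q | q.Prime ∧ q ∉ Cfsg.sigma M} (Cfsg.fittingOf M)) ∧
      ((K = ⊥ ∧ IsMulCommutative (Cfsg.fittingHallOf M) ∧ Cfsg.RankLE 2 (Cfsg.fittingHallOf M) ∧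
          ¬ Cfsg.RankLE 1 (Cfsg.fittingHallOf M)) ∨
       (∃ p : ℕ, p.Prime ∧
          Nat.card ↥(Cfsg.fittingOf M ⊓ (Cfsg.fittingOf M).map (MulAut.conj g).toMonoidHom) = p ∧
          p ∈ Cfsg.sigma M ∧ p ∉ Cfsg.beta M ∧
          ¬ IsMulCommutative (Cfsg.pCore p ↥(Cfsg.fittingHallOf M)) ∧
          IsCyclic (Cfsg.pPrimeCore p ↥(Cfsg.fittingHallOf M)) ∧
          ∀ q : ℕ, q.Prime → q ∣ Nat.card (Cfsg.fittingHallOf M) →
            Monoid.exponent (↥M ⧸ Cfsg.fittingHall ↥M) ∣ q - 1) ∨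
       (∃ p : ℕ, p.Prime ∧
          Nat.card ↥(Cfsg.fittingOf M ⊓ (Cfsg.fittingOf M).map (MulAut.conj g).toMonoidHom) = p ∧
          p ∈ Cfsg.sigma M ∧ p ∉ Cfsg.beta M ∧
          IsCyclic (Cfsg.pPrimeCore p ↥(Cfsg.fittingHallOf M)) ∧
          Nat.card (Cfsg.pCore p ↥(Cfsg.fittingHallOf M)) = p ^ 3 ∧
          ¬ IsMulCommutative (Cfsg.pCore p ↥(Cfsg.fittingHallOf M)) ∧ K ≠ ⊥ ∧ U = ⊥ ∧
          (Cfsg.fittingHallOf M).relIndex M ∣ p + 1)) := by
  set X := Cfsg.fittingOf M ⊓ (Cfsg.fittingOf M).map (MulAut.conj g).toMonoidHom with hXdef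
  have hnil := sigmaCore_nilpotent_of_fitInter hG hM hg hX
  have hH := fittingHallOf_eq_sigmaCore hG hM hnil
  have hXσ := fitInter_le_sigmaCore hG hM hg
  have hXc := isCyclic_fitInter hG hM hg
  obtain ⟨z, hz, hzp⟩ := exists_prime_element hX
  set p := orderOf z with hp
  haveI := Fact.mk hzp
  have hout : ∀ x ∈ X, x ≠ 1 → ¬ centralizer ({x} : Set G) ≤ M := fun x hx h1 =>
    not_centralizer_le_of_fitInter hG hM hg hx h1
  obtain ⟨N, s⟩ := exists_support hG hM (hXσ hz) (ne_one_of_prime hzp) (hout z hz (ne_one_of_prime hzp))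
  have o : Point p M N z := ⟨hM, hnil, hXσ hz, hp.symm, s⟩
  refine ⟨⟨hXσ.trans hH.ge, hXc⟩, ⟨o.derived_le_fitting hG, o.fittingOf_eq' hG⟩, ?_⟩
  by_cases hab : ∀ T : Subgroup G, SylowIn p T M → IsMulCommutative T
  · left
    obtain ⟨T, -, -, hT, -, -⟩ := o.exists_sylow hG (o.sigma hG)
    obtain ⟨h1, h2, h3⟩ := o.abelian_case hG hT (hab T hT)
    have hκ := o.kappa_empty_of_comm hG hT (hab T hT)
    refine ⟨?_, by rw [hH]; exact h1, by rw [hH]; exact h2, by rw [hH]; exact h3⟩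
    by_contra hK
    obtain ⟨k, hk, hkp⟩ := exists_prime_element hK
    have := hKU.hall.2.1 _ hkp (K.orderOf_dvd_natCard hk)
    rw [hκ] at this
    exact this
  right
  obtain ⟨P, A, A₀, n⟩ := o.exists_nonabPoint hG hab
  haveI := hXc
  have hcomm : ∀ {a b : G}, a ∈ X → b ∈ X → Commute a b := fun ha hb =>
    congrArg Subtype.val ((IsCyclic.isMulCommutative (α := X)).is_comm.comm ⟨_, ha⟩ ⟨_, hb⟩)
  have hXpg : IsPGroup p X := isPGroup_of_prime_dvd fun r hr hd => by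
    haveI := Fact.mk hr
    obtain ⟨w, hwo⟩ := exists_prime_orderOf_dvd_card' r hd
    rw [← Subgroup.orderOf_coe] at hwo
    by_contra hne
    refine hne (hwo ▸ n.eq_prime_of_commute hG (hXσ w.2) (hwo.symm ▸ hr) (hcomm hz w.2)
      (hout _ (mul_mem hz w.2) fun e => hne ?_))
    rw [← hwo, hp, ← orderOf_inv (w : G), eq_inv_of_mul_eq_one_left e]
  have hXA : X ≤ A₀ := fun x hx => by
    rcases eq_or_ne x 1 with rfl | hx1
    · exact one_mem _
    have hxp := hXpg.to_le (zpowers_le.mpr hx)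
    obtain ⟨u, hu, huo⟩ := exists_order_p hxp (zpowers_ne_bot.mpr hx1)
    have hu1 : u ≠ 1 := fun e => hzp.ne_one (by rw [← huo, e, orderOf_one])
    refine n.mem_fitting_point hG (hXσ hx) hxp ?_ (hout x hx hx1)
    have he := eq_of_card_eq_of_cyclic hXc (A := zpowers z) (B := zpowers u) (zpowers_le.mpr hz)
      (zpowers_le.mpr ((zpowers_le.mpr hx) hu)) (by rw [Nat.card_zpowers, Nat.card_zpowers, huo])
    exact zpowers_le.mpr hu (he.le (mem_zpowers z))
  have hXp : Nat.card X = p := le_antisymm ((card_le_of_le hXA).trans n.exc.line.2.le)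
    ((Nat.le_of_dvd Nat.card_pos (X.orderOf_dvd_natCard hz)).trans_eq' hp.symm)
  have hPeq : (Cfsg.pCore p ↥(Cfsg.fittingHallOf M)).map (Cfsg.fittingHallOf M).subtype = P := by
    refine pCore_map_eq hG ?_ ?_
    · rw [hH]; exact n.sylσ
    · rw [hH]; exact (sigmaCore_le M).trans n.normal
  have hcard : Nat.card (Cfsg.pCore p ↥(Cfsg.fittingHallOf M)) = Nat.card P := by
    rw [← hPeq, card_map_of_injective (Cfsg.fittingHallOf M).subtype_injective]
  have hna : ¬ IsMulCommutative (Cfsg.pCore p ↥(Cfsg.fittingHallOf M)) := fun h => n.nonab (by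
    rw [← hPeq]
    exact ⟨⟨fun a b => Subtype.ext (by
      obtain ⟨a', ha', ea⟩ := a.2
      obtain ⟨b', hb', eb⟩ := b.2
      show (a : G) * b = b * a
      rw [← ea, ← eb, ← map_mul, ← map_mul, (commute_of_isMulCommutative h ha' hb').eq])⟩⟩)
  have hWc : IsCyclic (Cfsg.pPrimeCore p ↥(Cfsg.fittingHallOf M)) := by
    rw [MulEquiv.isCyclic ((Cfsg.pPrimeCore p ↥(Cfsg.fittingHallOf M)).equivMapOfInjective _
      (Cfsg.fittingHallOf M).subtype_injective)]
    refine n.isCyclic_coprime_part hG ((map_subtype_le _).trans hH.le) fun h => hzp.not_dvd_one ?_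
    rw [card_map_of_injective (Cfsg.fittingHallOf M).subtype_injective] at h
    exact (CfsgLib.Solvable.pPrimeCore_coprime (G := ↥(Cfsg.fittingHallOf M)) p) ▸ Nat.dvd_gcd h dvd_rfl
  rcases n.cases hG hH with h | ⟨K', U', E', d, hU', hP3, hdvd⟩
  · exact Or.inl ⟨p, hzp, hXp, o.sigma hG, o.not_beta hG (o.sigma hG), hna, hWc, h⟩
  · have hEK : E' = K' := by rw [← d.sup_eq hG, hU', bot_sup_eq]
    have hK : K ≠ ⊥ := fun e => by
      obtain ⟨k, hk, hkp⟩ := d.exists_prime hG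
      haveI := Fact.mk hkp
      have hκ : orderOf k ∈ Cfsg.kappa M := (d.hall hG).2.1 _ hkp (K'.orderOf_dvd_natCard hk)
      refine hKU.hall.2.2 _ hkp hκ ?_
      rw [e, relIndex_bot_left]
      exact hκ.2.1
    obtain ⟨U'', E'', d''⟩ := exists_pdata_of_hall hG hM hKU.hall hK
    have hU'' : U'' = ⊥ := by
      by_contra hU''
      refine sigmaCore_ne_bot hG hM (le_bot_iff.mp (d''.star_U hG hU'' ▸ le_inf le_rfl ?_))
      exact le_centralizer_iff.mp ((d''.U_le_derived hG).trans (o.derived_centralizes hG d''.compl))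
    have hsup : K ⊔ Cfsg.sigmaCore M = M := by
      have h := isComplIn_sup d''.compl
      rwa [← d''.sup_eq hG, hU'', bot_sup_eq] at h
    have hU : U = ⊥ := by
      rw [← le_bot_iff, ← hKU.compl.2.2.1, hsup]
      exact le_inf le_rfl hKU.compl.1
    refine Or.inr ⟨p, hzp, hXp, o.sigma hG, o.not_beta hG (o.sigma hG), hWc, hcard.trans hP3, hna, hK,
      hU, ?_⟩
    rw [hH, ← CfsgLib.BG.card_compl hG hM d.compl, hEK]
    exact hdvd

end CfsgLib.BG14
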