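import Cfsg.Agent.Lib.BG14.Classify

/-!
`κ(M)`, its Hall subgroups and the local structure given by `PData`.
-/

set_option autoImplicit false
set_option linter.style.haveILetI false
set_option linter.unusedSectionVars false

namespace CfsgLib.BG14

open Subgroup CfsgLib.PLocal CfsgLib.OddLocal CfsgLib.BG
open scoped commutatorElement

universe u
variable {G : Type u} [Group G] [Finite G]

/-- `C_{M_σ}(K)`. -/
def starOf (M K : Subgroup G) : Subgroup G := Cfsg.sigmaCore M ⊓ centralizer (K : Set G)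

theorem conjMap_centralizer (c : G) (X : Subgroup G) :
    conjMap c (centralizer (X : Set G)) = centralizer (conjMap c X : Set G) := by
  ext y
  rw [mem_conjMap, mem_centralizer_iff, mem_centralizer_iff]
  constructor
  · intro h x hx
    have := h _ (mem_conjMap.mp hx)
    calc x * y = c * ((c⁻¹ * x * c) * (c⁻¹ * y * c)) * c⁻¹ := by group
      _ = c * ((c⁻¹ * y * c) * (c⁻¹ * x * c)) * c⁻¹ := by rw [this]
      _ = _ := by group
  · intro h x hx
    have := h (c * x * c⁻¹) (conj_mem_conjMap hx)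
    calc x * (c⁻¹ * y * c) = c⁻¹ * ((c * x * c⁻¹) * y) * c := by group
      _ = c⁻¹ * (y * (c * x * c⁻¹)) * c := by rw [this]
      _ = _ := by group

theorem zpowers_conj_eq (c g : G) : zpowers (c * g * c⁻¹) = conjMap c (zpowers g) := by
  show _ = (zpowers g).map _
  rw [MonoidHom.map_zpowers]
  rfl

theorem orderOf_conj_inv (c g : G) : orderOf (c⁻¹ * g * c) = orderOf g := by
  have := orderOf_conj' c⁻¹ g
  rwa [inv_inv] at this

theorem prankLE_one_of_sylows {p : ℕ} [Fact p.Prime] {M : Subgroup G}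
    (h : ∀ S : Sylow p M, IsCyclic S) : Cfsg.PRankLE p 1 M := by
  by_contra hno
  obtain ⟨B, hBM, hB⟩ := exists_sq_le_of_not_prankLE le_rfl hno
  obtain ⟨S, hS⟩ := (hB.isPGroup.comap_subtype (K := M)).exists_le_sylow
  haveI : IsCyclic (S : Subgroup M) := h S
  haveI : IsCyclic (B.subgroupOf M) := Subgroup.isCyclic_of_le hS
  exact hB.not_isCyclic (((subgroupOfEquivOfLe hBM).isCyclic).mp inferInstance)

variable (hG : Cfsg.IsMinSimpleOddOrder G)
include hG

variable {M K U E : Subgroup G}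

theorem PData.K_le_M (d : PData M K U E) : K ≤ M := d.K_le.trans d.compl.1

theorem PData.U_le_M (d : PData M K U E) : U ≤ M := d.U_le.trans d.compl.1

theorem PData.star_le (d : PData M K U E) : starOf M K ≤ M :=
  inf_le_left.trans (sigmaCore_le M)

theorem PData.inf_eq_bot (d : PData M K U E) : U ⊓ K = ⊥ :=
  CfsgLib.Coprime.inf_eq_bot_of_coprime d.coprime

theorem PData.sup_eq (d : PData M K U E) : U ⊔ K = E := by
  refine le_antisymm (sup_le d.U_le d.K_le) fun x hx => ?_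
  obtain ⟨u, hu, k, hk, rfl⟩ := d.mem_mul x hx
  exact mul_mem (mem_sup_left hu) (mem_sup_right hk)

theorem PData.card_E (d : PData M K U E) : Nat.card E = Nat.card U * Nat.card K := by
  rw [← d.sup_eq hG, CfsgLib.Coprime.card_sup_of_inf_eq_bot (d.K_le.trans d.normal)
    (by rw [inf_comm]; exact d.inf_eq_bot hG)]

theorem PData.mem_U_of (d : PData M K U E) {x : G} (hx : x ∈ E)
    (h : ∀ r : ℕ, r.Prime → r ∣ orderOf x → ¬ r ∣ Nat.card K) : x ∈ U := by
  refine CfsgLib.Solvable.mem_of_coprime_relIndex ?_ hx (coprime_of_forall fun r hr h1 h2 => ?_)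
  · refine ⟨fun a ha g => ?_⟩
    exact (mem_normalizer_iff.mp (d.normal g.2) _).mp ha
  · have hc : Nat.card E = Nat.card U * U.relIndex E :=
      (CfsgLib.Coprime.card_mul_relIndex d.U_le).symm
    rw [d.card_E hG] at hc
    exact h r hr h1 (Nat.eq_of_mul_eq_mul_left Nat.card_pos hc ▸ h2)

theorem PData.exists_fixed (d : PData M K U E) : ∃ z ∈ starOf M K, (orderOf z).Prime :=
  exists_prime_element d.fix_ne

theorem PData.exists_prime (d : PData M K U E) : ∃ g ∈ K, (orderOf g).Prime :=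
  exists_prime_element d.ne

theorem PData.not_sigma (d : PData M K U E) {g : G} (hg : g ∈ E) {p : ℕ} (hp : p.Prime)
    (hd : p ∣ orderOf g) : p ∉ Cfsg.sigma M :=
  not_sigma_of_mem_compl hG d.hM d.compl hg hp hd

theorem PData.fix_eq (d : PData M K U E) {g : G} (hg : g ∈ K) (hg1 : g ≠ 1) :
    Cfsg.sigmaCore M ⊓ centralizer ({g} : Set G) = starOf M K :=
  le_antisymm (le_inf inf_le_left (d.fix g hg hg1))
    (inf_le_inf_left _ (Subgroup.centralizer_le (Set.singleton_subset_iff.mpr hg)))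

/-- Conjugates of the data. -/
theorem PData.conj (d : PData M K U E) {c : G} (hc : c ∈ M) :
    PData M (conjMap c K) (conjMap c U) (conjMap c E) := by
  have hσ : conjMap c (Cfsg.sigmaCore M) = Cfsg.sigmaCore M :=
    conjMap_eq_self_iff.mpr (le_normalizer_sigmaCore M hc)
  have hback : ∀ {X : Subgroup G} {g : G}, g ∈ conjMap c X → c⁻¹ * g * c ∈ X := fun h => mem_conjMap.mp h
  have hinv : ∀ g : G, c * (c⁻¹ * g * c) * c⁻¹ = g := fun g => by group
  have hne : ∀ {g : G}, g ≠ 1 → c⁻¹ * g * c ≠ 1 := fun {g} h e => h (by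
    rw [← hinv g, e, mul_one, mul_inv_cancel])
  have hfix : ∀ g : G, g ∈ conjMap c K → g ≠ 1 → ∀ X : Subgroup G,
      X ⊓ centralizer ({c⁻¹ * g * c} : Set G) = ⊥ → conjMap c X ⊓ centralizer ({g} : Set G) = ⊥ := by
    intro g _ _ X hX
    rw [← hinv g, centralizer_conj, ← conjMap_inf, hX]
    exact Subgroup.map_bot _
  refine ⟨d.hM, compl_conjMap hG d.hM d.compl hc, conjMap_mono d.K_le, conjMap_mono d.U_le, ?_, ?_,
    conjMap_ne_bot d.ne, ?_, ?_, ?_, ?_, ?_, ?_, ?_, ?_, ?_⟩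
  · intro x hx
    obtain ⟨u, hu, k, hk, he⟩ := d.mem_mul _ (hback hx)
    exact ⟨c * u * c⁻¹, conj_mem_conjMap hu, c * k * c⁻¹, conj_mem_conjMap hk, by
      rw [← hinv x, he]; group⟩
  · rw [card_conjMap, card_conjMap]; exact d.coprime
  · rw [← conjMap_centralizer, ← hσ, ← conjMap_inf]
    exact conjMap_ne_bot d.fix_ne
  · rw [← conjMap_normalizer]; exact conjMap_mono d.normal
  · haveI := d.comm
    exact Subgroup.map_isMulCommutative _ _
  · intro g hg hgp
    rw [← orderOf_conj_inv c g] at hgp ⊢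
    exact d.tau _ (hback hg) hgp
  · intro g hg hg1
    rw [← conjMap_centralizer, ← hσ, ← hinv g, centralizer_conj, ← conjMap_inf]
    exact conjMap_mono (d.fix _ (hback hg) (hne hg1))
  · exact fun g hg hg1 => hfix g hg hg1 U (d.fpf _ (hback hg) (hne hg1))
  · intro g hg hgp
    rw [← orderOf_conj_inv c g] at hgp
    rw [← hinv g, zpowers_conj_eq, ← conjMap_normalizer]
    exact conjMap_mono (d.line _ (hback hg) hgp)
  · intro u hu hup hr
    rw [← orderOf_conj_inv c u] at hup hr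
    rw [← hσ, ← hinv u, centralizer_conj, ← conjMap_inf, d.reg _ (hback hu) hup hr]
    exact Subgroup.map_bot _
  · rcases d.tau1_or with ⟨h1, h2⟩ | h
    · refine Or.inl ⟨((equivMapOfInjective K (MulAut.conj c).toMonoidHom
        (MulAut.conj c).injective).isCyclic).mp h1, fun g hg hgp => ?_⟩
      rw [← orderOf_conj_inv c g] at hgp ⊢
      exact h2 _ (hback hg) hgp
    · exact Or.inr (by rw [h]; exact Subgroup.map_bot _)

/-- Some element of `K` of prime order lies in `τ₁(M)`. -/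
theorem PData.exists_tau1 (d : PData M K U E) :
    ∃ g ∈ K, (orderOf g).Prime ∧ orderOf g ∈ Cfsg.tau1 M := by
  rcases d.tau1_or with ⟨-, h⟩ | hU
  · obtain ⟨g, hg, hgp⟩ := d.exists_prime hG
    exact ⟨g, hg, hgp, h g hg hgp⟩
  by_contra hno
  push Not at hno
  have hEK : E = K := by rw [← d.sup_eq hG, hU, bot_sup_eq]
  have h3 : ∀ r : ℕ, r.Prime → r ∣ Nat.card E → r ∈ Cfsg.tau3 M := by
    intro r hr hd
    haveI := Fact.mk hr
    obtain ⟨⟨x, hx⟩, hxo⟩ := exists_prime_orderOf_dvd_card' r hd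
    rw [Subgroup.orderOf_mk] at hxo
    have hxK : x ∈ K := hEK ▸ hx
    exact hxo ▸ (d.tau x hxK (hxo.symm ▸ hr)).resolve_left (hno x hxK (hxo.symm ▸ hr))
  have hle : E ≤ ⁅E, E⁆ := tau3_le_derived hG d.hM d.compl le_rfl h3
  have hE1 : E ≠ ⊥ := hEK ▸ d.ne
  haveI : Nontrivial E := (nontrivial_iff_ne_bot E).mpr hE1
  haveI : Group.IsSolvable E := isSolvable_of_le_max hG d.hM d.compl.1
  refine (Group.IsSolvable.commutator_lt_top_of_nontrivial E).ne ?_
  apply Subgroup.map_injective E.subtype_injective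
  rw [Subgroup.map_subtype_commutator, ← MonoidHom.range_eq_map, Subgroup.range_subtype]
  exact le_antisymm (derived_le_compl hG d.hM) hle

/-- A fixed point pins `M`. -/
theorem PData.point (d : PData M K U E) {z : G} (hz : z ∈ starOf M K) (hzp : (orderOf z).Prime) :
    centralizer ({z} : Set G) ≤ M ∧
      ∀ L : Subgroup G, IsCoatom L → centralizer ({z} : Set G) ≤ L → L = M := by
  obtain ⟨g, hg, -, hτ⟩ := d.exists_tau1 hG
  exact point_unique hG d.hM (d.K_le_M hG hg) hτ hz.1 hzp (mem_centralizer_iff.mp hz.2 g hg)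

/-- `N_M(⟨g⟩) = C_{M_σ}(K) K` for `g ∈ K` of prime order. -/
theorem PData.normalizer_inf (d : PData M K U E) {g : G} (hg : g ∈ K) (hgp : (orderOf g).Prime) :
    M ⊓ normalizer (zpowers g : Set G) = K ⊔ starOf M K := by
  refine le_antisymm ?_ (sup_le (le_inf (d.K_le_M hG) (d.line g hg hgp))
    (le_inf (d.star_le hG) (fun y hy => centralizer_le_normalizer _ (by
      rw [centralizer_zpowers_eq]; exact centralizer_le_of_mem hg hy.2))))
  rintro x ⟨hxM, hxn⟩
  obtain ⟨e, he, n, hn, rfl⟩ := d.compl.2.2.2 x hxM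
  have hge : g ∈ E := d.K_le hg
  have h1 : e * n * g * (e * n)⁻¹ ∈ zpowers g := (mem_normalizer_iff.mp hxn g).mp (mem_zpowers g)
  have h2 : e * g * e⁻¹ ∈ E := mul_mem (mul_mem he hge) (inv_mem he)
  have h3 : (e * n * g * (e * n)⁻¹) * (e * g * e⁻¹)⁻¹ ∈ Cfsg.sigmaCore M := by
    rw [show (e * n * g * (e * n)⁻¹) * (e * g * e⁻¹)⁻¹ = e * (n * (g * n⁻¹ * g⁻¹)) * e⁻¹ by group]
    exact (mem_normalizer_iff.mp (le_normalizer_sigmaCore M (d.compl.1 he)) _).mp
      (mul_mem hn ((mem_normalizer_iff.mp (le_normalizer_sigmaCore M (d.compl.1 hge)) _).mp (inv_mem hn)))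
  have h4 : e * n * g * (e * n)⁻¹ = e * g * e⁻¹ := by
    have h : (e * n * g * (e * n)⁻¹) * (e * g * e⁻¹)⁻¹ ∈ E ⊓ Cfsg.sigmaCore M :=
      ⟨Subgroup.mul_mem _ (zpowers_le.mpr hge h1) (Subgroup.inv_mem _ h2), h3⟩
    rwa [d.compl.2.2.1, mem_bot, mul_inv_eq_one] at h
  have hn' : n ∈ starOf M K := by
    refine ⟨hn, d.fix g hg (ne_one_of_prime hgp) ⟨hn, mem_centralizer_singleton_iff.mpr ?_⟩⟩
    have : n * g * n⁻¹ = g := by
      calc n * g * n⁻¹ = e⁻¹ * (e * n * g * (e * n)⁻¹) * e := by group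
        _ = e⁻¹ * (e * g * e⁻¹) * e := by rw [h4]
        _ = g := by group
    exact mul_inv_eq_iff_eq_mul.mp this
  obtain ⟨u, hu, k, hk, rfl⟩ := d.mem_mul e he
  rw [h4] at h1
  have h5 : u * (k * g * k⁻¹) * u⁻¹ * (k * g * k⁻¹)⁻¹ ∈ U ⊓ K := by
    have hkg : k * g * k⁻¹ ∈ zpowers g := (mem_normalizer_iff.mp (d.line g hg hgp hk) g).mp (mem_zpowers g)
    refine ⟨?_, ?_⟩
    · rw [show u * (k * g * k⁻¹) * u⁻¹ * (k * g * k⁻¹)⁻¹ =
        u * ((k * g * k⁻¹) * u⁻¹ * (k * g * k⁻¹)⁻¹) by group]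
      exact mul_mem hu ((mem_normalizer_iff.mp (d.normal (d.K_le (zpowers_le.mpr hg hkg))) _).mp
        (inv_mem hu))
    · rw [show u * (k * g * k⁻¹) * u⁻¹ = u * k * g * (u * k)⁻¹ by group]
      exact zpowers_le.mpr hg (mul_mem h1 (inv_mem hkg))
  rw [d.inf_eq_bot hG, mem_bot, mul_inv_eq_one, mul_inv_eq_iff_eq_mul] at h5
  have hk0 : k * g * k⁻¹ ≠ 1 := fun e => ne_one_of_prime hgp (conj_eq_one_iff.mp e)
  have hu1 : u ∈ U ⊓ centralizer ({k * g * k⁻¹} : Set G) :=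
    ⟨hu, mem_centralizer_singleton_iff.mpr h5⟩
  rw [d.fpf _ (mul_mem (mul_mem hk hg) (inv_mem hk)) hk0, mem_bot] at hu1
  rw [hu1, one_mul]
  exact mul_mem (mem_sup_left hk) (mem_sup_right hn')

theorem PData.normalizer_K (d : PData M K U E) :
    M ⊓ normalizer (K : Set G) = K ⊔ starOf M K := by
  refine le_antisymm ?_ (sup_le (le_inf (d.K_le_M hG) le_normalizer)
    (le_inf (d.star_le hG) (inf_le_right.trans (centralizer_le_normalizer _))))
  rintro x ⟨hxM, hxn⟩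
  obtain ⟨g, hg, hgp, -⟩ := d.exists_tau1 hG
  rcases eq_or_ne (zpowers g) (conjMap x (zpowers g)) with h | h
  · rw [← d.normalizer_inf hG hg hgp]
    exact ⟨hxM, conjMap_eq_self_iff.mp h.symm⟩
  -- two normal lines of the same order would give a square
  haveI := Fact.mk hgp
  have hgx : x * g * x⁻¹ ∈ K := (mem_normalizer_iff.mp hxn g).mp hg
  have hxp : (orderOf (x * g * x⁻¹)).Prime := (orderOf_conj' x g).symm ▸ hgp
  have hA : zpowers (x * g * x⁻¹) ≤ normalizer (zpowers g : Set G) :=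
    (zpowers_le.mpr hgx).trans (d.line g hg hgp)
  have hp : IsPGroup (orderOf g) ↥(zpowers g ⊔ zpowers (x * g * x⁻¹)) :=
    (pgroup_zpowers g).to_sup_of_normal_left'
      (isPGroup_of_card_prime (by rw [Nat.card_zpowers, orderOf_conj'])) hA
  haveI := isCyclic_of_prankLE_one hG hp ((sup_le (zpowers_le.mpr hg) (zpowers_le.mpr hgx)).trans
    (d.K_le_M hG)) (tau13_prankLE hG d.hM (d.tau g hg hgp))
  refine absurd ?_ h
  rw [← zpowers_conj_eq]
  exact eq_of_card_eq_of_cyclic (C := zpowers g ⊔ zpowers (x * g * x⁻¹)) inferInstance le_sup_left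
    le_sup_right (by rw [Nat.card_zpowers, Nat.card_zpowers, orderOf_conj'])

/-- Neighbours. -/
theorem PData.neighbour (d : PData M K U E) {g : G} (hg : g ∈ K) (hgp : (orderOf g).Prime)
    {L : Subgroup G} (hL : IsCoatom L) (hNL : normalizer (zpowers g : Set G) ≤ L) :
    g ∈ Cfsg.sigmaCore L ∧ orderOf g ∈ Cfsg.sigma L ∧ ∀ c : G, L ≠ conjMap c M := by
  haveI := Fact.mk hgp
  have hfix : Cfsg.sigmaCore M ⊓ centralizer (zpowers g : Set G) ≠ ⊥ := by
    rw [centralizer_zpowers_eq, d.fix_eq hG hg (ne_one_of_prime hgp)]; exact d.fix_ne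
  have hσ := sigma_of_fixed hG d.hM (d.tau g hg hgp) (zpowers_le.mpr (d.K_le_M hG hg))
    (card_zpowers_eq rfl) hfix hL hNL
  refine ⟨mem_sigmaCore_of hG hL (hNL (le_normalizer (mem_zpowers g))) fun r hr hd =>
    (Nat.prime_dvd_prime_iff_eq hr hgp).mp hd ▸ hσ, hσ, fun c hc => ?_⟩
  rw [hc, sigma_conjMap] at hσ
  exact d.not_sigma hG (d.K_le hg) hgp dvd_rfl hσ

/-- The primes of `κ(M)`. -/
theorem PData.mem_kappa_iff (d : PData M K U E) {p : ℕ} :
    p ∈ Cfsg.kappa M ↔ p.Prime ∧ p ∣ Nat.card K := by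
  constructor
  · rintro ⟨hp, hd, hσ, hP⟩
    haveI := Fact.mk hp
    refine ⟨hp, by_contra fun hK => ?_⟩
    obtain ⟨P⟩ : Nonempty (Sylow p M) := inferInstance
    obtain ⟨hcyc, x, hxP, hx1, y, hy, hy1, hxy⟩ := hP P
    have hxG : (x : G) ≠ 1 := fun e => hx1 (OneMemClass.coe_eq_one.mp e)
    obtain ⟨j, hj⟩ := (IsPGroup.iff_orderOf.mp P.2) ⟨x, hxP⟩
    rw [Subgroup.orderOf_mk, ← Subgroup.orderOf_coe] at hj
    obtain ⟨r, i, hr, hrd, hi⟩ := exists_prime_pow hxG
    obtain rfl : r = p := (Nat.prime_dvd_prime_iff_eq hr hp).mp (hr.dvd_of_dvd_pow (hj ▸ hrd))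
    have hw : (x : G) ^ i ∈ M := pow_mem x.2 i
    obtain ⟨c, hc, hcE⟩ := exists_conj_le_compl hG d.hM d.compl (zpowers_le.mpr hw)
      (primes_zpowers (hi.symm ▸ hp) (π := {s | s ∉ Cfsg.sigma M}) (hi.symm ▸ hσ))
    set w' := c * (x : G) ^ i * c⁻¹
    have hw' : w' ∈ E := hcE (conj_mem_conjMap (mem_zpowers _))
    have hwo : orderOf w' = r := by rw [orderOf_conj', hi]
    have hwU : w' ∈ U := d.mem_U_of hG hw' fun s hs hsd => by
      rw [hwo] at hsd
      rwa [(Nat.prime_dvd_prime_iff_eq hs hr).mp hsd]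
    have hrk : Cfsg.PRankLE r 1 M := prankLE_one_of_sylows fun S => (hP S).1
    have hb := d.reg w' hwU (hwo.symm ▸ hr) (hwo.symm ▸ hrk)
    have hm : c * y * c⁻¹ ∈ Cfsg.sigmaCore M ⊓ centralizer ({w'} : Set G) := by
      refine ⟨Subgroup.mul_mem _ (Subgroup.mul_mem _ hc hy) (Subgroup.inv_mem _ hc), ?_⟩
      show c * y * c⁻¹ ∈ centralizer ({w'} : Set G)
      rw [centralizer_conj]
      exact conj_mem_conjMap (mem_centralizer_singleton_iff.mpr
        ((show Commute (x : G) y from hxy).pow_left i).symm.eq)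
    rw [hb, mem_bot] at hm
    exact hy1 (conj_eq_one_iff.mp hm)
  · rintro ⟨hp, hd⟩
    haveI := Fact.mk hp
    obtain ⟨⟨g, hg⟩, hgo⟩ := exists_prime_orderOf_dvd_card' p hd
    rw [Subgroup.orderOf_mk] at hgo
    subst hgo
    have hτ := d.tau g hg hp
    have hr := tau13_prankLE hG d.hM hτ
    refine ⟨hp, M.orderOf_dvd_natCard (d.K_le_M hG hg) |>.trans dvd_rfl,
      d.not_sigma hG (d.K_le hg) hp dvd_rfl, fun P => ?_⟩
    have hPc : IsCyclic ↥((P : Subgroup M).map M.subtype) :=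
      isCyclic_of_prankLE_one hG (P.2.map _) (map_subtype_le _) hr
    refine ⟨((equivMapOfInjective _ M.subtype M.subtype_injective).isCyclic).mpr hPc, ?_⟩
    have hgM : g ∈ M := d.K_le_M hG hg
    obtain ⟨S, hS⟩ := (IsPGroup.of_card (n := 1) (show Nat.card ↥(zpowers (⟨g, hgM⟩ : M)) = _ by
      rw [Nat.card_zpowers, Subgroup.orderOf_mk, pow_one])).exists_le_sylow
    obtain ⟨m, hm⟩ := MulAction.exists_smul_eq M S P
    obtain ⟨z, hz, hzp⟩ := d.exists_fixed hG
    refine ⟨m * ⟨g, hgM⟩ * m⁻¹, ?_, fun e => ne_one_of_prime hp ?_, (m : G) * z * (m : G)⁻¹, ?_,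
      fun e => ne_one_of_prime hzp (conj_eq_one_iff.mp e), ?_⟩
    · rw [← hm, Sylow.coe_subgroup_smul]
      exact ⟨_, hS (mem_zpowers _), by simp [MulAut.conj_apply]⟩
    · exact congrArg Subtype.val (conj_eq_one_iff.mp e)
    · exact (mem_normalizer_iff.mp (le_normalizer_sigmaCore M m.2) z).mp hz.1
    · have h := mem_centralizer_iff.mp hz.2 g hg
      show (m : G) * g * (m : G)⁻¹ * ((m : G) * z * (m : G)⁻¹) = _
      calc (m : G) * g * (m : G)⁻¹ * ((m : G) * z * (m : G)⁻¹) = (m : G) * (g * z) * (m : G)⁻¹ := by group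
        _ = (m : G) * (z * g) * (m : G)⁻¹ := by rw [h]
        _ = _ := by simp [mul_assoc]

theorem exists_of_mem_kappa {M : Subgroup G} (hM : IsCoatom M) {p : ℕ} (h : p ∈ Cfsg.kappa M) :
    ∃ K U E, PData M K U E := by
  obtain ⟨hp, hd, hσ, hP⟩ := h
  haveI := Fact.mk hp
  obtain ⟨P⟩ : Nonempty (Sylow p M) := inferInstance
  obtain ⟨-, x, hxP, hx1, y, hy, hy1, hxy⟩ := hP P
  have hxG : (x : G) ≠ 1 := fun e => hx1 (OneMemClass.coe_eq_one.mp e)
  obtain ⟨j, hj⟩ := (IsPGroup.iff_orderOf.mp P.2) ⟨x, hxP⟩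
  rw [Subgroup.orderOf_mk, ← Subgroup.orderOf_coe] at hj
  obtain ⟨r, i, hr, hrd, hi⟩ := exists_prime_pow hxG
  obtain rfl : r = p := (Nat.prime_dvd_prime_iff_eq hr hp).mp (hr.dvd_of_dvd_pow (hj ▸ hrd))
  refine exists_pdata hG hM (k := (x : G) ^ i) (pow_mem x.2 i) (hi.symm ▸ hp) (hi.symm ▸ hσ)
    (by rw [hi]; exact prankLE_one_of_sylows fun S => (hP S).1) ?_
  intro hb
  refine hy1 (mem_bot.mp (hb ▸ (⟨hy, mem_centralizer_singleton_iff.mpr ?_⟩ :
      y ∈ Cfsg.sigmaCore M ⊓ centralizer ({(x : G) ^ i} : Set G))))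
  exact ((show Commute (x : G) y from hxy).pow_left i).symm.eq

/-- `K` is a Hall `κ(M)`-subgroup. -/
theorem PData.hall (d : PData M K U E) : Cfsg.IsPiHallOf (Cfsg.kappa M) K M := by
  refine ⟨d.K_le_M hG, fun p hp hd => (d.mem_kappa_iff hG).mpr ⟨hp, hd⟩, fun p hp hκ hd => ?_⟩
  obtain ⟨-, hpK⟩ := (d.mem_kappa_iff hG).mp hκ
  rw [← relIndex_mul_relIndex K E M d.K_le d.compl.1] at hd
  rcases hp.dvd_mul.mp hd with h | h
  · have hc : Nat.card E = Nat.card K * K.relIndex E := (CfsgLib.Coprime.card_mul_relIndex d.K_le).symm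
    rw [d.card_E hG, mul_comm] at hc
    rw [← Nat.eq_of_mul_eq_mul_left Nat.card_pos hc] at h
    exact hp.ne_one (Nat.eq_one_of_dvd_coprimes d.coprime h hpK)
  · have hc : Nat.card E * E.relIndex M = Nat.card E * Nat.card (Cfsg.sigmaCore M) := by
      rw [CfsgLib.Coprime.card_mul_relIndex d.compl.1, card_compl hG d.hM d.compl, mul_comm,
        CfsgLib.Coprime.card_mul_relIndex (sigmaCore_le M)]
    rw [Nat.eq_of_mul_eq_mul_left Nat.card_pos hc] at h
    exact hκ.2.2.1 (mem_sigma_of_dvd_sigmaCore hp h)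

/-- Every nontrivial Hall `κ(M)`-subgroup carries the data. -/
theorem exists_pdata_of_hall {M K : Subgroup G} (hM : IsCoatom M)
    (hK : Cfsg.IsPiHallOf (Cfsg.kappa M) K M) (hK1 : K ≠ ⊥) : ∃ U E, PData M K U E := by
  obtain ⟨g, hg, hgp⟩ := exists_prime_element hK1
  obtain ⟨K₀, U₀, E₀, d⟩ := exists_of_mem_kappa hG hM (hK.2.1 _ hgp (K.orderOf_dvd_natCard hg))
  obtain ⟨c, hc, hcK⟩ := CfsgLib.Coprime.exists_conj_of_isPiHallOf
    (isSolvable_of_le_max hG hM le_rfl) (d.hall hG) hK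
  exact ⟨conjMap c U₀, conjMap c E₀, hcK ▸ d.conj hG hc⟩

end CfsgLib.BG14

namespace CfsgLib.BG14

open Subgroup CfsgLib.PLocal CfsgLib.OddLocal CfsgLib.BG

universe v
variable {G : Type v} [Group G] [Finite G]

theorem mem_kappa_of_fix (hG : Cfsg.IsMinSimpleOddOrder G) {M : Subgroup G} (hM : IsCoatom M) {k : G}
    (hk : k ∈ M) (hkp : (orderOf k).Prime) (hσ : orderOf k ∉ Cfsg.sigma M)
    (hr : Cfsg.PRankLE (orderOf k) 1 M)
    (hfix : Cfsg.sigmaCore M ⊓ centralizer ({k} : Set G) ≠ ⊥) : orderOf k ∈ Cfsg.kappa M := by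
  obtain ⟨K, U, E, d⟩ := exists_pdata hG hM hk hkp hσ hr hfix
  refine (d.mem_kappa_iff hG).mpr ⟨hkp, by_contra fun hK => ?_⟩
  obtain ⟨c, hc, hcE⟩ := exists_conj_le_compl hG hM d.compl (zpowers_le.mpr hk)
    (primes_zpowers hkp (π := {s | s ∉ Cfsg.sigma M}) hσ)
  have ho : orderOf (c * k * c⁻¹) = orderOf k := orderOf_conj' c k
  have hU : c * k * c⁻¹ ∈ U := d.mem_U_of hG (hcE (conj_mem_conjMap (mem_zpowers k))) fun s hs hsd => by
    rw [ho] at hsd
    rwa [(Nat.prime_dvd_prime_iff_eq hs hkp).mp hsd]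
  have hb := d.reg _ hU (ho.symm ▸ hkp) (ho.symm ▸ hr)
  rw [centralizer_conj, ← conjMap_eq_self_iff.mpr (le_normalizer_sigmaCore M (sigmaCore_le M hc)),
    ← conjMap_inf] at hb
  exact conjMap_ne_bot hfix hb

end CfsgLib.BG14
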