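import Cfsg.Agent.Lib.BG14.FittingSigma
import Cfsg.Agent.S1429
import Cfsg.Agent.S1410
import Cfsg.Agent.Lib.OddLocal.PLength
import Cfsg.Agent.Lib.StructC.BurnsideBasis
import Cfsg.Agent.Lib.Solvable.Frattini2
import Cfsg.Agent.Lib.ClassK.Core

/-!
Maximal subgroups with non-nilpotent `M_σ`.
-/

set_option autoImplicit false
set_option linter.style.haveILetI false
set_option linter.unusedSectionVars false

namespace CfsgLib.BG14

open Subgroup CfsgLib.PLocal CfsgLib.OddLocal CfsgLib.BG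
open scoped commutatorElement

universe u
variable {G : Type u} [Group G] [Finite G]

variable (hG : Cfsg.IsMinSimpleOddOrder G)
include hG

/-- Without `κ`-primes the core is nilpotent. -/
theorem nilpotent_of_kappa_empty {M : Subgroup G} (hM : IsCoatom M) (hκ : Cfsg.kappa M = ∅) :
    Group.IsNilpotent (Cfsg.sigmaCore M) := by
  obtain ⟨E, hE⟩ := exists_compl hG hM
  have hE1 : E ≠ ⊥ := fun e => by
    have hMσ : M ≤ Cfsg.sigmaCore M := fun m hm => by
      obtain ⟨a, ha, b, hb, rfl⟩ := hE.2.2.2 m hm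
      rw [e, mem_bot] at ha
      rw [ha, one_mul]
      exact hb
    have hd : ⁅M, M⁆ = M := le_antisymm (derived_ne_top' hG hM) (hMσ.trans (sigmaCore_le_derived hG hM))
    haveI : Group.IsSolvable M := isSolvable_of_le_max hG hM le_rfl
    haveI : Nontrivial M := (nontrivial_iff_ne_bot M).mpr fun h => sigmaCore_ne_bot hG hM
      (le_bot_iff.mp (h ▸ sigmaCore_le M))
    refine (Group.IsSolvable.commutator_lt_top_of_nontrivial M).ne ?_
    apply Subgroup.map_injective M.subtype_injective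
    rwa [Subgroup.map_subtype_commutator, ← MonoidHom.range_eq_map, Subgroup.range_subtype]
  obtain ⟨e, he, hep⟩ := exists_prime_element hE1
  haveI := Fact.mk hep
  obtain ⟨S⟩ : Nonempty (Sylow (orderOf e) M) := inferInstance
  exact (Cfsg.Agent.S1429.main hG hM (orderOf e) (M.orderOf_dvd_natCard (hE.1 he))
    (not_sigma_of_mem_compl hG hM hE he hep dvd_rfl) (by rw [hκ]; exact id) S _ rfl).2.2

/-- What is known about `M` with `M_σ` not nilpotent. -/
structure CoreData (M K U E Q D : Subgroup G) : Prop where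
  d : PData M K U E
  U_eq : U = ⊥
  derived : ⁅M, M⁆ = Cfsg.sigmaCore M
  p_prime : (Nat.card K).Prime
  q_prime : (Nat.card (starOf M K)).Prime
  beta : Nat.card (starOf M K) ∈ Cfsg.beta M
  Q_le : Q ≤ Cfsg.sigmaCore M
  Q_normal : M ≤ normalizer (Q : Set G)
  Q_pgroup : IsPGroup (Nat.card (starOf M K)) Q
  Q_hall : ¬ Nat.card (starOf M K) ∣ Q.relIndex (Cfsg.sigmaCore M)
  star_le : starOf M K ≤ Q
  D_le : D ≤ Cfsg.sigmaCore M
  D_invariant : K ≤ normalizer (D : Set G)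
  compl : Cfsg.IsComplIn Q D (Cfsg.sigmaCore M)
  D_nilpotent : Group.IsNilpotent D
  coprime : (Nat.card D).Coprime (Nat.card Q)
  D_fpf : ∀ a ∈ K, a ≠ 1 → D ⊓ centralizer ({a} : Set G) = ⊥
  not_cent : ¬ Q ≤ centralizer (D : Set G)

theorem PData.exists_coreData {M K U E : Subgroup G} (d : PData M K U E)
    (hn : ¬ Group.IsNilpotent (Cfsg.sigmaCore M)) : ∃ Q D, CoreData M K U E Q D := by
  have hU : U = ⊥ := by_contra fun h => hn (d.of_U_ne hG h).1
  have hEK : E = K := by rw [← d.sup_eq hG, hU, bot_sup_eq]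
  have hM := d.hM
  set H := Cfsg.sigmaCore M with hH
  set S := starOf M K with hSdef
  obtain ⟨L, U₁, E₁, d₁, -, -, hone⟩ := d.exists_dual hG
  have hqp : (Nat.card S).Prime := d₁.prime_card hG (hone.resolve_left fun h => h hU)
  set q := Nat.card S with hqdef
  haveI := Fact.mk hqp
  obtain ⟨k, hk, hkp⟩ := d.exists_prime hG
  haveI := Fact.mk hkp
  have hk1 : k ≠ 1 := ne_one_of_prime hkp
  have hkM : k ∈ M := d.K_le_M hG hk
  have hKσ : K ≤ normalizer (H : Set G) := (d.K_le_M hG).trans (le_normalizer_sigmaCore M)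
  have hcopK : (Nat.card K).Coprime (Nat.card H) := coprime_sigmaCore hG hM fun t ht hd =>
    not_sigma_of_dvd_compl hG hM d.compl ht (hd.trans (card_dvd_of_le d.K_le))
  have hsol : Group.IsSolvable H := isSolvable_of_le_max hG hM (sigmaCore_le M)
  have hqσ : q ∈ Cfsg.sigma M := mem_sigma_of_dvd_sigmaCore hqp (card_dvd_of_le inf_le_left)
  have hKK : K ≤ centralizer (K : Set G) := fun a ha =>
    mem_centralizer_iff.mpr fun b hb => (d.commute_K hG hb ha).eq
  have hcomm : ⁅M, M⁆ = H := by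
    refine le_antisymm ?_ (sigmaCore_le_derived hG hM)
    rw [CfsgLib.BG.derived_eq hG hM d.compl, hEK, commutator_eq_bot_iff_le_centralizer.mpr hKK, sup_bot_eq]
  -- the invariant Sylow `q`-subgroup and complement
  obtain ⟨Q, hQ, hKQ, hSQ⟩ := CfsgLib.Coprime.exists_invariant_hall_ge (U := S) (π := ({q} : Set ℕ))
    hKσ hcopK hsol inf_le_left
    ((le_centralizer_iff.mp (inf_le_right : S ≤ _)).trans (centralizer_le_normalizer _))
    (fun t ht hd => (Nat.prime_dvd_prime_iff_eq ht hqp).mp hd)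
  have hQp : IsPGroup q Q := isPGroup_of_prime_dvd fun t ht hd => hQ.2.1 t ht hd
  have hQS : SylowIn q Q H := ⟨hQ.1, hQp, hQ.2.2 q hqp rfl⟩
  obtain ⟨D, hD, hKD, -⟩ := CfsgLib.Coprime.exists_invariant_hall_ge (U := (⊥ : Subgroup G))
    (π := {t | t ≠ q}) hKσ hcopK hsol bot_le
    (fun x _ => by
      rw [mem_normalizer_iff]
      intro y
      simp only [mem_bot]
      exact ⟨fun h => by rw [h, mul_one, mul_inv_cancel], fun h => conj_eq_one_iff.mp h⟩)
    (fun t ht h => by rw [Subgroup.card_bot] at h; exact absurd (Nat.dvd_one.mp h) ht.ne_one)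
  have hcopDQ : (Nat.card D).Coprime (Nat.card Q) :=
    coprime_of_forall fun t ht h1 h2 => hD.2.1 t ht h1 (hQ.2.1 t ht h2)
  -- `K` is fixed-point-free on `q'`-subgroups
  have hfpf : ∀ X : Subgroup G, X ≤ H → (∀ t : ℕ, t.Prime → t ∣ Nat.card X → t ≠ q) →
      ∀ a ∈ K, a ≠ 1 → X ⊓ centralizer ({a} : Set G) = ⊥ := by
    intro X hX hXq a ha ha1
    refine le_bot_iff.mp ((le_inf inf_le_left ((inf_le_inf_right _ hX).trans
      (d.fix_eq hG ha ha1).le)).trans (CfsgLib.Coprime.inf_eq_bot_of_coprime ?_).le)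
    exact coprime_of_forall fun t ht h1 h2 => hXq t ht h1 ((Nat.prime_dvd_prime_iff_eq ht hqp).mp h2)
  have hDnil : Group.IsNilpotent D := by
    refine isNilpotent_of_fpf_line (p := orderOf k) (card_zpowers_eq rfl)
      ((zpowers_le.mpr hk).trans hKD) ?_
    rw [centralizer_zpowers_eq]
    exact hfpf D hD.1 hD.2.1 k hk hk1
  -- `Q` is normal
  set W := Cfsg.piCoreOf {t | t ≠ q} H with hW
  have hWle : W ≤ H := piCoreOf_le _ _
  have hHW : M ≤ normalizer (W : Set G) :=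
    (le_normalizer_sigmaCore M).trans (le_normalizer_piCoreOf _ _)
  have hkW : k ∈ normalizer (W : Set G) := hHW hkM
  have hWnil : Group.IsNilpotent W := by
    refine isNilpotent_of_fpf_line (p := orderOf k) (card_zpowers_eq rfl) (zpowers_le.mpr hkW) ?_
    rw [centralizer_zpowers_eq]
    exact hfpf W hWle (piCoreOf_spec _ _) k hk hk1
  have hkq : orderOf k ≠ q := fun e => d.not_sigma hG (d.K_le hk) hkp dvd_rfl (e ▸ hqσ)
  set Q₁ := Q ⊓ centralizer (W : Set G) with hQ₁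
  have hQk : ⁅Q, zpowers k⁆ ≤ Q₁ := by
    refine le_inf (CfsgLib.Comp.commutator_le_of_le_normalizer ((zpowers_le.mpr hk).trans hKQ)) ?_
    rw [le_centralizer_iff]
    refine le_of_sylows fun r hr hd => ?_
    haveI := Fact.mk hr
    obtain ⟨R, hR, -⟩ := exists_sylowIn_le (IsPGroup.of_bot (p := r) (G := G)) (bot_le (a := W))
    refine ⟨R, hR, le_centralizer_iff.mp ?_⟩
    have hrq : r ≠ q := piCoreOf_spec {t | t ≠ q} H r hr hd
    have hrσ : r ∈ Cfsg.sigma M := mem_sigma_of_dvd_sigmaCore hr (hd.trans (card_dvd_of_le hWle))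
    have hRn : M ≤ normalizer (R : Set G) := hHW.trans (normalizer_le_normalizer_sylow hG hWnil hR)
    refine CfsgLib.OddLocal.commutator_le_centralizer_of_fixedPointFree hkp ?_ ?_ ?_ hkq.symm hrq
      (fun e => d.not_sigma hG (d.K_le hk) hkp dvd_rfl (e ▸ hrσ)) rfl hQp hR.2.1 (hKQ hk) (hRn hkM)
      ((hQ.1.trans (sigmaCore_le M)).trans hRn) ?_
    · exact prime_ne_two hG ((card_dvd_of_le (inf_le_left : S ≤ H)).trans (card_subgroup_dvd_card H))
    · exact prime_ne_two hG (hd.trans (card_subgroup_dvd_card W))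
    · exact prime_ne_two hG (orderOf_dvd_natCard k)
    · rw [centralizer_zpowers_eq]
      exact hfpf R (hR.1.trans hWle) (fun t ht h => (prime_dvd_pgroup_card hR.2.1 ht h).symm ▸ hrq)
        k hk hk1
  have hfixk : ∀ X : Subgroup G, X ≤ H → X ⊓ centralizer ({k} : Set G) ≤ S := fun X hX =>
    (inf_le_inf_right _ hX).trans (d.fix_eq hG hk hk1).le
  have hQdec : ∀ a ∈ Q, ∃ a₁ ∈ Q₁, ∃ t ∈ S, a = a₁ * t := by
    intro a ha
    rw [← CfsgLib.Coprime.commutator_sup_centralizer ((zpowers_le.mpr hk).trans hKQ)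
      ((hcopK.coprime_dvd_left (card_dvd_of_le (zpowers_le.mpr hk))).coprime_dvd_right
        (card_dvd_of_le hQ.1)) (Or.inr (isSolvable_of_le_max hG hM (hQ.1.trans (sigmaCore_le M))))] at ha
    have hle : ⁅Q, zpowers k⁆ ⊔ (Q ⊓ centralizer (zpowers k : Set G)) ≤ Q₁ ⊔ S :=
      sup_le_sup hQk (by rw [centralizer_zpowers_eq]; exact hfixk Q hQ.1)
    have hSn : S ≤ normalizer (Q₁ : Set G) := CfsgLib.Comp.le_normalizer_inf
      (hSQ.trans le_normalizer) (((inf_le_left.trans (sigmaCore_le M)).trans hHW).trans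
        (normalizer_le_normalizer_centralizer_of_set W))
    obtain ⟨a₁, ha₁, t, ht, rfl⟩ := (CfsgLib.Coprime.mem_sup_of_le_normalizer hSn).mp (hle ha)
    exact ⟨a₁, ha₁, t, ht, rfl⟩
  set N := M ⊓ normalizer (Q : Set G) with hN
  have hNQ₁ : N ≤ normalizer (Q₁ : Set G) := CfsgLib.Comp.le_normalizer_inf inf_le_right
    ((inf_le_left.trans hHW).trans (normalizer_le_normalizer_centralizer_of_set W))
  have hconj : ∀ {g x : G}, g ∈ N → x ∈ Q₁ → g * x * g⁻¹ ∈ Q₁ := fun hg hx =>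
    (mem_normalizer_iff.mp (hNQ₁ hg) _).mp hx
  let Γ : Subgroup G :=
    { carrier := {g | g ∈ N ∧ ∀ t ∈ S, g * t * g⁻¹ * t⁻¹ ∈ Q₁}
      one_mem' := ⟨one_mem _, fun t _ => by
        rw [one_mul, inv_one, mul_one, mul_inv_cancel]
        exact one_mem _⟩
      mul_mem' := fun {a b} ha hb => ⟨mul_mem ha.1 hb.1, fun t ht => by
        rw [show a * b * t * (a * b)⁻¹ * t⁻¹ =
          (a * (b * t * b⁻¹ * t⁻¹) * a⁻¹) * (a * t * a⁻¹ * t⁻¹) by group]
        exact mul_mem (hconj ha.1 (hb.2 t ht)) (ha.2 t ht)⟩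
      inv_mem' := fun {a} ha => ⟨inv_mem ha.1, fun t ht => by
        have h := hconj (inv_mem ha.1) (inv_mem (ha.2 t ht))
        rw [inv_inv] at h
        rw [inv_inv, show a⁻¹ * t * a * t⁻¹ = a⁻¹ * (a * t * a⁻¹ * t⁻¹)⁻¹ * a by group]
        exact h⟩ }
  have hSk : ∀ t ∈ S, ∀ a ∈ K, a * t * a⁻¹ = t := fun t ht a ha => by
    rw [mem_centralizer_iff.mp ht.2 a ha, mul_inv_cancel_right]
  have hKN : K ≤ N := le_inf (d.K_le_M hG) hKQ
  have hKΓ : K ≤ Γ := fun a ha => ⟨hKN ha, fun t ht => by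
    rw [hSk t ht a ha, mul_inv_cancel]
    exact one_mem _⟩
  have hSN : S ≤ N := le_inf (inf_le_left.trans (sigmaCore_le M)) (hSQ.trans le_normalizer)
  have hSS : ∀ a ∈ S, ∀ t ∈ S, Commute a t := fun a ha t ht => by
    haveI : IsCyclic S := isCyclic_of_prime_card rfl
    exact commute_of_isMulCommutative IsCyclic.isMulCommutative ha ht
  have hkn : zpowers k ≤ normalizer ((N ⊓ H : Subgroup G) : Set G) :=
    CfsgLib.Comp.le_normalizer_inf ((zpowers_le.mpr (hKN hk)).trans le_normalizer)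
      ((zpowers_le.mpr hk).trans hKσ)
  have hNΓ : N ⊓ H ≤ Γ := by
    rw [← CfsgLib.Coprime.commutator_sup_centralizer hkn
      ((hcopK.coprime_dvd_left (card_dvd_of_le (zpowers_le.mpr hk))).coprime_dvd_right
        (card_dvd_of_le inf_le_right))
      (Or.inr (isSolvable_of_le_max hG hM (inf_le_left.trans inf_le_left)))]
    refine sup_le ?_ ?_
    · rw [commutator_le]
      intro e he c hc
      have heN : e ∈ N := (mem_inf.mp he).1
      have hcK : c ∈ K := zpowers_le.mpr hk hc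
      have hcN : c ∈ N := hKN hcK
      have hdN : ⁅e, c⁆ ∈ N := by
        rw [commutatorElement_def]
        exact mul_mem (mul_mem (mul_mem heN hcN) (inv_mem heN)) (inv_mem hcN)
      refine ⟨hdN, fun t ht => ?_⟩
      have het : e⁻¹ * t * e ∈ Q := by
        have := (mem_normalizer_iff.mp (inv_mem heN.2) t).mp (hSQ ht)
        rwa [inv_inv] at this
      obtain ⟨a₁, ha₁, b, hb, hab⟩ := hQdec _ het
      have h1 : ⁅e, c⁆ * t * ⁅e, c⁆⁻¹ * t⁻¹ = e * ((c * a₁ * c⁻¹) * a₁⁻¹) * e⁻¹ := by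
        rw [commutatorElement_def]
        calc e * c * e⁻¹ * c⁻¹ * t * (e * c * e⁻¹ * c⁻¹)⁻¹ * t⁻¹
            = e * c * e⁻¹ * (c⁻¹ * t * c⁻¹⁻¹) * e * c⁻¹ * e⁻¹ * t⁻¹ := by group
          _ = e * c * e⁻¹ * t * e * c⁻¹ * e⁻¹ * t⁻¹ := by rw [hSk t ht c⁻¹ (inv_mem hcK)]
          _ = e * (c * (e⁻¹ * t * e) * c⁻¹) * (e⁻¹ * t * e)⁻¹ * e⁻¹ := by group
          _ = e * (c * (a₁ * b) * c⁻¹) * (a₁ * b)⁻¹ * e⁻¹ := by rw [hab]
          _ = e * (c * a₁ * c⁻¹) * (c * b * c⁻¹) * b⁻¹ * a₁⁻¹ * e⁻¹ := by group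
          _ = e * (c * a₁ * c⁻¹) * b * b⁻¹ * a₁⁻¹ * e⁻¹ := by rw [hSk b hb c hcK]
          _ = e * ((c * a₁ * c⁻¹) * a₁⁻¹) * e⁻¹ := by group
      rw [h1]
      exact hconj heN (mul_mem (hconj hcN ha₁) (inv_mem ha₁))
    · intro x hx
      have hxS : x ∈ S := hfixk (N ⊓ H) inf_le_right (by rwa [centralizer_zpowers_eq] at hx)
      exact ⟨hSN hxS, fun t ht => by
        rw [(hSS x hxS t ht).eq, mul_inv_cancel_right, mul_inv_cancel]
        exact one_mem _⟩
  have hNle : N ≤ Γ := fun g hg => by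
    obtain ⟨e, he, n, hn', rfl⟩ := d.compl.2.2.2 g hg.1
    have heK : e ∈ K := hEK ▸ he
    have hnN : n ∈ N ⊓ H := ⟨(Subgroup.mul_mem_cancel_left N (hKN heK)).mp hg, hn'⟩
    exact mul_mem (hKΓ heK) (hNΓ hnN)
  -- `Q` centralizes `W`
  have hQW : Q ≤ centralizer (W : Set G) := by
    have hQM : SylowIn q Q M := sylowIn_of_sigmaCore hG hM hQS hqσ
    obtain ⟨P, hP⟩ := exists_sylow_map (sylowIn_top hqσ hQM)
    have hNG : normalizer (Q : Set G) ≤ M := normalizer_sylow_le hqσ hQM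
    set P' : Sylow q G := (P.2.map (⊤ : Subgroup G).subtype).toSylow (by
      have := (sylowIn_top hqσ hQM).2.2
      rwa [relIndex_top_right, ← hP] at this)
    have hP' : (P' : Subgroup G) = Q := hP
    obtain ⟨V, hV⟩ : ∃ V : Subgroup G, Cfsg.IsComplIn (P' : Subgroup G) V
        (normalizer ((P' : Subgroup G) : Set G)) := by
      obtain ⟨V, hV, -, -⟩ := CfsgLib.Coprime.exists_invariant_hall_ge (A := (⊥ : Subgroup G))
        (G := normalizer (Q : Set G)) (U := (⊥ : Subgroup G)) (π := {t | t ≠ q}) bot_le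
        (by rw [Subgroup.card_bot]; exact Nat.coprime_one_left _) (isSolvable_of_le_max hG hM hNG) bot_le
        bot_le (fun t ht h => by rw [Subgroup.card_bot] at h; exact absurd (Nat.dvd_one.mp h) ht.ne_one)
      rw [hP']
      refine ⟨V, le_normalizer, hV.1, CfsgLib.Coprime.inf_eq_bot_of_coprime (coprime_of_forall
        fun t ht h1 h2 => hV.2.1 t ht h2 (hQ.2.1 t ht h1)), ?_⟩
      have htop : normalizer (Q : Set G) ≤ Q ⊔ V := le_of_sylows fun r hr _ => by
        haveI := Fact.mk hr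
        by_cases hrq : r = q
        · subst hrq
          exact ⟨Q, ⟨le_normalizer, hQp, fun h => hQM.2.2 (h.trans
            ⟨_, (relIndex_mul_relIndex _ _ _ le_normalizer hNG).symm⟩)⟩, le_sup_left⟩
        · obtain ⟨T, hT, -⟩ := exists_sylowIn_le (IsPGroup.of_bot (p := r) (G := G)) (bot_le (a := V))
          refine ⟨T, ⟨hT.1.trans hV.1, hT.2.1, ?_⟩, hT.1.trans le_sup_right⟩
          rw [← relIndex_mul_relIndex _ _ _ hT.1 hV.1]
          exact fun h => (hr.dvd_mul.mp h).elim hT.2.2 (hV.2.2 r hr hrq)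
      intro m hm
      obtain ⟨a, ha, b, hb, h⟩ := (CfsgLib.Coprime.mem_sup_of_le_normalizer hV.1).mp (htop hm)
      exact ⟨a, ha, b, hb, h.symm⟩
    have h11 := (Cfsg.Agent.S1411.result hG q P' V hV).1
    rw [hP'] at h11
    refine le_trans ?_ (inf_le_right : Q₁ ≤ _)
    refine h11.le.trans ?_
    rw [commutator_le]
    intro a ha v hv
    have hvN : v ∈ N := by
      have h := hV.2.1 hv
      rw [hP'] at h
      exact ⟨hNG h, h⟩
    obtain ⟨a₁, ha₁, t, ht, rfl⟩ := hQdec a ha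
    rw [commutatorElement_def,
      show a₁ * t * v * (a₁ * t)⁻¹ * v⁻¹ = a₁ * (v * t * v⁻¹ * t⁻¹)⁻¹ * (v * a₁⁻¹ * v⁻¹) by group]
    exact mul_mem (mul_mem ha₁ (inv_mem ((hNle hvN).2 t ht))) (hconj hvN (inv_mem ha₁))
  have hHQ : H ≤ normalizer (Q : Set G) := by
    have hpl : Cfsg.PLengthLE q 1 H :=
      Cfsg.Agent.S1410.result hG q H fun h => hM.1 (top_le_iff.mp (h ▸ sigmaCore_le M))
    obtain ⟨S', hS'⟩ := exists_sylow_map hQS
    have hnorm := pLengthLE_one_sup_sylow hpl S'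
    haveI := hnorm
    set Y := (Cfsg.pPrimeCore q ↥H ⊔ (S' : Subgroup H)).map H.subtype with hY
    have hHY : H ≤ normalizer (Y : Set G) := by
      have h := le_normalizer_map (H := Cfsg.pPrimeCore q ↥H ⊔ (S' : Subgroup H)) H.subtype
      rwa [normalizer_eq_top, ← MonoidHom.range_eq_map, range_subtype] at h
    have hcore : (Cfsg.pPrimeCore q ↥H).map H.subtype ≤ W := by
      refine le_piCoreOf (map_subtype_le _) ?_ fun t ht hd (e : t = q) => ?_
      · haveI := CfsgLib.Solvable.pPrimeCore_normal q ↥H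
        have h := le_normalizer_map (H := Cfsg.pPrimeCore q ↥H) H.subtype
        rwa [normalizer_eq_top, ← MonoidHom.range_eq_map, range_subtype] at h
      · rw [card_map_of_injective H.subtype_injective] at hd
        exact hqp.coprime_iff_not_dvd.mp (CfsgLib.Solvable.pPrimeCore_coprime q).symm (e ▸ hd)
    have hYn : Y ≤ normalizer (Q : Set G) := by
      rw [hY, Subgroup.map_sup, hS']
      exact sup_le ((hcore.trans (le_centralizer_iff.mp hQW)).trans (centralizer_le_normalizer _))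
        le_normalizer
    have hQY : Q ≤ Y := hS' ▸ map_mono le_sup_right
    intro g hg
    have hgY : conjMap g Y = Y := conjMap_eq_self_iff.mpr (hHY hg)
    have hQY' : SylowIn q Q Y := ⟨hQY, hQp, fun h => hQS.2.2 (h.trans
      ⟨_, (relIndex_mul_relIndex _ _ _ hQY (map_subtype_le _)).symm⟩)⟩
    have hgQ : SylowIn q (conjMap g Q) Y :=
      hQY'.of_card_le (hQp.map _) ((conjMap_mono hQY).trans hgY.le) (card_conjMap g Q).ge
    obtain ⟨c, hc, he⟩ := hgQ.exists_conj_eq hQY'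
    rw [conjMap_eq_self_iff.mpr (hYn hc)] at he
    exact conjMap_eq_self_iff.mp he.symm
  have hMQ : M ≤ normalizer (Q : Set G) := fun g hg => by
    obtain ⟨e, he, n, hn', rfl⟩ := d.compl.2.2.2 g hg
    exact mul_mem (hKQ (hEK ▸ he)) (hHQ hn')
  have hcompl : Cfsg.IsComplIn Q D H := by
    refine ⟨hQ.1, hD.1, CfsgLib.Coprime.inf_eq_bot_of_coprime hcopDQ.symm, fun m hm => ?_⟩
    have htop : H ≤ Q ⊔ D := le_of_sylows fun r hr _ => by
      haveI := Fact.mk hr
      by_cases hrq : r = q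
      · subst hrq
        exact ⟨Q, hQS, le_sup_left⟩
      · obtain ⟨T, hT, -⟩ := exists_sylowIn_le (IsPGroup.of_bot (p := r) (G := G)) (bot_le (a := D))
        refine ⟨T, ⟨hT.1.trans hD.1, hT.2.1, ?_⟩, hT.1.trans le_sup_right⟩
        rw [← relIndex_mul_relIndex _ _ _ hT.1 hD.1]
        exact fun h => (hr.dvd_mul.mp h).elim hT.2.2 (hD.2.2 r hr hrq)
    obtain ⟨a, ha, b, hb, h⟩ := (CfsgLib.Coprime.mem_sup_of_le_normalizer (hD.1.trans hHQ)).mp (htop hm)
    exact ⟨a, ha, b, hb, h.symm⟩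
  have hnc : ¬ Q ≤ centralizer (D : Set G) := fun hle => hn (by
    have hHD : H ≤ normalizer (D : Set G) := fun m hm => by
      obtain ⟨a, ha, b, hb, rfl⟩ := hcompl.2.2.2 m hm
      exact mul_mem (centralizer_le_normalizer _ (hle ha)) (le_normalizer hb)
    have hle' : H ≤ Cfsg.fittingOf H := fun m hm => by
      obtain ⟨a, ha, b, hb, rfl⟩ := hcompl.2.2.2 m hm
      exact mul_mem (le_fittingOf_of_normal hQ.1 hHQ hQp.isNilpotent ha)
        (le_fittingOf_of_normal hD.1 hHD hDnil hb)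
    exact isNilpotent_of_le (fittingOf_isNilpotent H) hle')
  have hβ : q ∈ Cfsg.beta M := by
    by_contra hβ
    refine hnc (le_centralizer_iff.mp fun y hy => nonbeta_centralizes hG hM hβ hQp
      (hQ.1.trans (sigmaCore_le_derived hG hM)) (sigmaCore_le_derived hG hM (hD.1 hy)) (hHQ (hD.1 hy)) ?_)
    exact coprime_of_forall fun t ht h1 h2 => hD.2.1 t ht (h1.trans (D.orderOf_dvd_natCard hy))
      ((Nat.prime_dvd_prime_iff_eq ht hqp).mp h2)
  have hDfpf : ∀ a ∈ K, a ≠ 1 → D ⊓ centralizer ({a} : Set G) = ⊥ := hfpf D hD.1 hD.2.1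
  have hpp : (Nat.card K).Prime := by
    by_contra hp
    have hD1 : D ≠ ⊥ := fun e => hnc (fun x _ => mem_centralizer_iff.mpr fun y hy => by
      have hy' : y = 1 := mem_bot.mp (e ▸ hy)
      rw [hy', one_mul, mul_one])
    have hDK : D ⊔ K ≤ M := sup_le (hD.1.trans (sigmaCore_le M)) (d.K_le_M hG)
    refine hnc (frobenius_two (A := K) (B := zpowers k) hD1 (zpowers_ne_bot.mpr hk1)
      (zpowers_le.mpr hk) (fun e => hp (by rwa [← e, Nat.card_zpowers])) hKD hDfpf
      (hDK.trans hMQ) (isSolvable_of_le_max hG hM (hQ.1.trans (sigmaCore_le M))) ?_ ?_)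
    · refine coprime_of_forall fun t ht h1 h2 => ?_
      rcases ht.dvd_mul.mp (h2.trans (CfsgLib.BG.card_sup_dvd hKD)) with h | h
      · exact hD.2.1 t ht h (hQ.2.1 t ht h1)
      · exact hqp.ne_one (Nat.eq_one_of_dvd_coprimes hcopK ((hQ.2.1 t ht h1) ▸ h)
          (card_dvd_of_le (inf_le_left : S ≤ H)))
    · rw [centralizer_zpowers_eq]
      exact (hfixk Q hQ.1).trans inf_le_right
  exact ⟨Q, D, d, hU, hcomm, hpp, hqp, hβ, hQ.1, hMQ, hQp, hQS.2.2, hSQ, hD.1, hKD, hcompl, hDnil,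
    hcopDQ, hDfpf, hnc⟩

namespace CoreData

variable {M K U E Q D : Subgroup G} (c : CoreData M K U E Q D)
include c

theorem le_fittingHall : Q ≤ Cfsg.fittingHallOf M := by
  haveI := Fact.mk c.q_prime
  have hQM := sylowIn_of_sigmaCore hG c.d.hM (T := Q) ⟨c.Q_le, c.Q_pgroup, c.Q_hall⟩
    (mem_sigma_of_dvd_sigmaCore c.q_prime (card_dvd_of_le inf_le_left))
  refine le_fittingHallOf M Q hQM.1 c.Q_normal c.Q_pgroup.isNilpotent (coprime_of_forall fun t ht h1 h2 => ?_)
  obtain rfl := prime_dvd_pgroup_card c.Q_pgroup ht h1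
  exact hQM.2.2 h2

/-- An invariant subgroup of `Q` is centralized by `D` or has the full index over its fixed points. -/
theorem invariant_cases {N : Subgroup G} (hN : N ≤ Q) (hDN : D ≤ normalizer (N : Set G))
    (hKN : K ≤ normalizer (N : Set G)) :
    N ≤ centralizer (D : Set G) ∨
      Nat.card N = Nat.card ↥(N ⊓ centralizer (D : Set G)) *
        Nat.card (starOf M K) ^ Nat.card K := by
  have hM := c.d.hM
  haveI := Fact.mk c.q_prime
  set S := starOf M K with hS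
  have hD1 : D ≠ ⊥ := fun e => c.not_cent fun x _ => mem_centralizer_iff.mpr fun y hy => by
    have hy' : y = 1 := mem_bot.mp (e ▸ hy)
    rw [hy', one_mul, mul_one]
  have hK1 : K ≠ ⊥ := c.d.ne
  obtain ⟨k, hk, hkp⟩ := c.d.exists_prime hG
  have hNσ : N ≤ Cfsg.sigmaCore M := hN.trans c.Q_le
  have hfix : ∀ Y : Subgroup G, Y ≤ Q → Y ⊓ centralizer (K : Set G) = Y ⊓ S := fun Y hY =>
    le_antisymm (le_inf inf_le_left (inf_le_inf_right _ (hY.trans c.Q_le)))
      (inf_le_inf_left _ inf_le_right)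
  have hcop : ∀ {Y : Subgroup G}, Y ≤ Q → (Nat.card Y).Coprime (Nat.card ↥(D ⊔ K)) := fun {Y} hY =>
    coprime_of_forall fun t ht h1 h2 => by
      rcases ht.dvd_mul.mp (h2.trans (CfsgLib.BG.card_sup_dvd c.D_invariant)) with h | h
      · exact ht.ne_one (Nat.eq_one_of_dvd_coprimes c.coprime h (h1.trans (card_dvd_of_le hY)))
      · exact not_sigma_of_dvd_compl hG hM c.d.compl ht (h.trans (card_dvd_of_le c.d.K_le))
          (mem_sigma_of_dvd_sigmaCore ht (h1.trans (card_dvd_of_le (hY.trans c.Q_le))))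
  have hsol : ∀ {Y : Subgroup G}, Y ≤ Q → Group.IsSolvable Y := fun hY =>
    isSolvable_of_le_max hG hM ((hY.trans c.Q_le).trans (sigmaCore_le M))
  by_cases hNS : N ⊓ S = ⊥
  · refine Or.inl (frobenius_fixed hD1 hK1 c.D_invariant c.D_fpf (sup_le hDN hKN) (hsol hN) (hcop hN) ?_)
    rw [hfix N hN, hNS]
    exact bot_le
  refine Or.inr ?_
  have hfull : N ⊓ S = S := eq_of_le_of_card_ge inf_le_right
    ((c.q_prime.eq_one_or_self_of_dvd _ (card_dvd_of_le inf_le_right)).resolve_left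
      fun h => hNS (card_eq_one.mp h)).ge
  have hSD : S ⊓ centralizer (D : Set G) = ⊥ := by
    by_contra hne
    have hSC : S ≤ centralizer (D : Set G) := (eq_of_le_of_card_ge inf_le_left
      ((c.q_prime.eq_one_or_self_of_dvd _ (card_dvd_of_le inf_le_left)).resolve_left
        fun h => hne (card_eq_one.mp h)).ge).ge.trans inf_le_right
    refine c.not_cent (frobenius_fixed hD1 hK1 c.D_invariant c.D_fpf
      (sup_le ((c.D_le.trans (sigmaCore_le M)).trans c.Q_normal) ((c.d.K_le_M hG).trans c.Q_normal))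
      (hsol le_rfl) (hcop le_rfl) ?_)
    rw [hfix Q le_rfl]
    exact inf_le_right.trans hSC
  have hUE : D ⊓ K = ⊥ := le_bot_iff.mp fun x hx => mem_bot.mpr (by_contra fun hx1 => hx1
    (mem_bot.mp ((c.D_fpf x hx.2 hx1) ▸ ⟨hx.1, mem_centralizer_singleton_iff.mpr rfl⟩)))
  have h := Cfsg.Agent.S1545.result D K N hD1 hK1 hUE
    (fun e he u hu => (mem_normalizer_iff.mp (c.D_invariant he) u).mp hu)
    (fun e he he1 u hu heu => mem_bot.mp ((c.D_fpf e he he1) ▸
      ⟨hu, mem_centralizer_singleton_iff.mpr heu.symm⟩))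
    (fun x hx y hy => (mem_normalizer_iff.mp (sup_le hDN hKN hx) y).mp hy)
    (CfsgLib.Coprime.inf_eq_bot_of_coprime (hcop hN)) (hsol hN) (hcop hN)
  have hb : N ⊓ centralizer ((D ⊔ K : Subgroup G) : Set G) = ⊥ := by
    refine le_bot_iff.mp (hSD ▸ le_inf ?_ (inf_le_right.trans (Subgroup.centralizer_le (le_sup_left : D ≤ D ⊔ K))))
    exact ((inf_le_inf_left _ (Subgroup.centralizer_le (le_sup_right : K ≤ D ⊔ K))).trans (hfix N hN).le).trans
      inf_le_right
  rw [hb, Subgroup.card_bot, one_pow, one_mul, hfix N hN, hfull, mul_comm] at h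
  exact h

/-- The consequences for `Q₀ = C_Q(D)`. -/
theorem facts : M ≤ normalizer ((Q ⊓ centralizer (D : Set G) : Subgroup G) : Set G) ∧
    Q ⊓ centralizer (D : Set G) < Q ∧
    Nat.card Q = Nat.card ↥(Q ⊓ centralizer (D : Set G)) * Nat.card (starOf M K) ^ Nat.card K ∧
    (∀ a ∈ Q, ∀ b ∈ Q, a ^ Nat.card (starOf M K) ∈ Q ⊓ centralizer (D : Set G) ∧
      a * b * a⁻¹ * b⁻¹ ∈ Q ⊓ centralizer (D : Set G)) ∧
    ∀ N : Subgroup G, Q ⊓ centralizer (D : Set G) < N → N < Q → ¬ M ≤ normalizer (N : Set G) := by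
  have hM := c.d.hM
  haveI := Fact.mk c.q_prime
  haveI := c.Q_pgroup.isNilpotent
  set Q₀ := Q ⊓ centralizer (D : Set G) with hQ₀
  have hDQ : D ≤ normalizer (Q : Set G) := (c.D_le.trans (sigmaCore_le M)).trans c.Q_normal
  have hKQ : K ≤ normalizer (Q : Set G) := (c.d.K_le_M hG).trans c.Q_normal
  have hcard := (c.invariant_cases hG le_rfl hDQ hKQ).resolve_left c.not_cent
  set Φ := (frattini Q).map Q.subtype with hΦ
  have hΦQ : Φ ≤ Q := map_subtype_le _
  have hNΦ : normalizer (Q : Set G) ≤ normalizer (Φ : Set G) :=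
    CfsgLib.ClassK.normalizer_le_normalizer_map Q (frattini Q)
  have hΦ₀ : Φ ≤ Q₀ := by
    rcases c.invariant_cases hG hΦQ (hDQ.trans hNΦ) (hKQ.trans hNΦ) with h | h
    · exact le_inf hΦQ h
    exfalso
    have hsup : Q₀ ⊔ Φ = Q := by
      refine eq_of_le_of_card_ge (sup_le inf_le_left hΦQ) (le_of_eq ?_)
      have hn₀ : Q₀ ≤ normalizer (Φ : Set G) := (inf_le_left.trans le_normalizer).trans hNΦ
      have h1 : Nat.card ↥(Φ ⊔ Q₀) * Nat.card ↥(Φ ⊓ Q₀) = Nat.card Φ * Nat.card Q₀ := by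
        rw [← CfsgLib.Solvable.card_mul_set_mul_card_inf Φ Q₀,
          ← coe_mul_of_right_le_normalizer_left Φ Q₀ hn₀]
        rfl
      have h4 : Φ ⊓ Q₀ = Φ ⊓ centralizer (D : Set G) := by
        rw [hQ₀, ← inf_assoc, inf_eq_left.mpr hΦQ]
      rw [sup_comm]
      refine Nat.eq_of_mul_eq_mul_right (Nat.card_pos (α := ↥(Φ ⊓ Q₀))) ?_
      rw [h1, hcard, h, h4]
      ring
    have htop : Q₀.subgroupOf Q = ⊤ := by
      refine CfsgLib.Solvable.eq_top_of_sup_eq_top_of_le_frattini le_rfl ?_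
      apply Subgroup.map_injective Q.subtype_injective
      rw [Subgroup.map_sup, map_subgroupOf_eq_of_le inf_le_left, ← MonoidHom.range_eq_map, range_subtype]
      exact hsup
    exact c.not_cent ((subgroupOf_eq_top.mp htop).trans inf_le_right)
  have hcommQ : ∀ a ∈ Q, ∀ b ∈ Q, a * b * a⁻¹ * b⁻¹ ∈ Φ := fun a ha b hb =>
    ⟨⁅(⟨a, ha⟩ : Q), (⟨b, hb⟩ : Q)⁆, CfsgLib.Solvable.commutator_le_frattini
      (commutator_mem_commutator (mem_top _) (mem_top _)), rfl⟩
  have hQn : Q ≤ normalizer (Q₀ : Set G) := by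
    intro a ha
    rw [← conjMap_eq_self_iff]
    refine eq_of_le_of_card_ge ?_ (card_conjMap a Q₀).ge
    rintro _ ⟨b, hb, rfl⟩
    show a * b * a⁻¹ ∈ Q₀
    rw [show a * b * a⁻¹ = a * b * a⁻¹ * b⁻¹ * b by group]
    exact mul_mem (hΦ₀ (hcommQ a ha b hb.1)) hb
  have hDn : D ≤ normalizer (Q₀ : Set G) := CfsgLib.Comp.le_normalizer_inf hDQ
    (le_normalizer.trans (normalizer_le_normalizer_centralizer_of_set D))
  have hKn : K ≤ normalizer (Q₀ : Set G) := CfsgLib.Comp.le_normalizer_inf hKQ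
    (c.D_invariant.trans (normalizer_le_normalizer_centralizer_of_set D))
  have hlt : Q₀ < Q := lt_of_le_of_ne inf_le_left fun e => c.not_cent (e.ge.trans inf_le_right)
  refine ⟨fun g hg => ?_, hlt, hcard, fun a ha b hb => ⟨hΦ₀ ?_, hΦ₀ (hcommQ a ha b hb)⟩,
    fun N h1 h2 hMN => ?_⟩
  · obtain ⟨e, he, n, hn, rfl⟩ := c.d.compl.2.2.2 g hg
    obtain ⟨x, hx, y, hy, rfl⟩ := c.compl.2.2.2 n hn
    have heK : e ∈ K := by rwa [← c.d.sup_eq hG, c.U_eq, bot_sup_eq] at he
    exact mul_mem (hKn heK) (mul_mem (hQn hx) (hDn hy))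
  · exact ⟨(⟨a, ha⟩ : Q) ^ _, CfsgLib.StructC.pow_mem_frattini c.Q_pgroup _, rfl⟩
  · rcases c.invariant_cases hG h2.le ((c.D_le.trans (sigmaCore_le M)).trans hMN)
      ((c.d.K_le_M hG).trans hMN) with h | h
    · exact h1.not_ge (le_inf h2.le h)
    · have heq : N ⊓ centralizer (D : Set G) = Q₀ :=
        le_antisymm (inf_le_inf_right _ h2.le) (le_inf h1.le inf_le_right)
      rw [heq, ← hcard] at h
      exact h2.ne (eq_of_le_of_card_ge h2.le h.ge)

theorem conj_compl {D' : Subgroup G} (hD' : Cfsg.IsComplIn Q D' (Cfsg.sigmaCore M)) :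
    Group.IsNilpotent D' ∧ Q ⊓ centralizer (D' : Set G) = Q ⊓ centralizer (D : Set G) := by
  have hM := c.d.hM
  have hn : Cfsg.sigmaCore M ≤ normalizer (Q : Set G) := (sigmaCore_le M).trans c.Q_normal
  have hsup := isComplIn_sup c.compl
  have hsup' := isComplIn_sup hD'
  have hc1 : Nat.card ↥(Cfsg.sigmaCore M) = Nat.card Q * Nat.card D := by
    rw [← hsup, CfsgLib.Coprime.card_sup_of_inf_eq_bot (c.D_le.trans hn)
      (by rw [inf_comm]; exact c.compl.2.2.1)]
  have hc2 : Nat.card ↥(Cfsg.sigmaCore M) = Nat.card Q * Nat.card D' := by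
    rw [← hsup', CfsgLib.Coprime.card_sup_of_inf_eq_bot (hD'.2.1.trans hn)
      (by rw [inf_comm]; exact hD'.2.2.1)]
  have hcard : Nat.card D' = Nat.card D := Nat.eq_of_mul_eq_mul_left Nat.card_pos (hc2.symm.trans hc1)
  obtain ⟨n, hn', rfl⟩ := CfsgLib.Coprime.exists_conj_eq_of_coprime (A := D) (B := D')
    (c.D_le.trans hn) (hD'.2.1.trans hn) (hsup.trans hsup'.symm) c.coprime (hcard ▸ c.coprime)
    (Or.inr (isSolvable_of_le_max hG hM (c.Q_le.trans (sigmaCore_le M))))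
  refine ⟨Group.nilpotent_of_mulEquiv (_h := c.D_nilpotent)
    (equivMapOfInjective _ (MulAut.conj n).toMonoidHom (MulAut.conj n).injective), ?_⟩
  have hnM : n ∈ M := sigmaCore_le M (c.Q_le hn')
  show Q ⊓ centralizer (conjMap n D : Set G) = _
  rw [← conjMap_centralizer]
  conv_lhs => rw [← conjMap_eq_self_iff.mpr (c.Q_normal hnM)]
  rw [← conjMap_inf, conjMap_eq_self_iff.mpr ((c.facts hG).1 hnM)]

end CoreData

end CfsgLib.BG14
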