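import Cfsg.Agent.Lib.BG14.Moved
import Cfsg.Agent.Lib.Coprime.Hall

/-!
The structure of `H` and the matching of `U` with a given decomposition.
-/

set_option autoImplicit false
set_option linter.style.haveILetI false
set_option linter.unusedSectionVars false

namespace CfsgLib.BG14

open Subgroup CfsgLib.PLocal CfsgLib.OddLocal CfsgLib.BG
open scoped commutatorElement

universe u
variable {G : Type u} [Group G] [Finite G]

variable (hG : Cfsg.IsMinSimpleOddOrder G)
include hG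

variable {M K U E L U₁ E₁ H : Subgroup G} {k : G}

theorem PData.nonconj_partner (d : PData M K U E) (h2 : starOf L (starOf M K) = K) :
    ∀ c : G, conjMap c L ≠ M := by
  intro c hc
  obtain ⟨g, hg, hgp⟩ := d.exists_prime hG
  refine d.not_sigma hG (d.K_le hg) hgp dvd_rfl ?_
  rw [← hc, sigma_conjMap]
  exact mem_sigma_of_dvd_sigmaCore hgp ((Cfsg.sigmaCore L).orderOf_dvd_natCard (h2.ge hg).1)

/-- Cores of nonconjugate maximal subgroups meet trivially. -/
theorem core_inf_core (hM : IsCoatom M) (hH : IsCoatom H) (hnc : ∀ c : G, H ≠ conjMap c M) :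
    Cfsg.sigmaCore M ⊓ Cfsg.sigmaCore H = ⊥ :=
  CfsgLib.Coprime.inf_eq_bot_of_coprime (coprime_of_forall fun _ hs h1 h2 =>
    (exists_conj_of_sigma_inter hG hM hH (mem_sigma_of_dvd_sigmaCore hs h1)
      (mem_sigma_of_dvd_sigmaCore hs h2)).elim hnc)

omit hG in
theorem commutator_mem_both {A B : Subgroup G} {a b : G} (ha : a ∈ A) (hb : b ∈ B)
    (hab : a ∈ normalizer (B : Set G)) (hba : b ∈ normalizer (A : Set G)) : ⁅a, b⁆ ∈ A ⊓ B := by
  rw [commutatorElement_def]
  refine ⟨?_, Subgroup.mul_mem _ ((mem_normalizer_iff.mp hab b).mp hb) (Subgroup.inv_mem _ hb)⟩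
  rw [show a * b * a⁻¹ * b⁻¹ = a * (b * a⁻¹ * b⁻¹) by group]
  exact mul_mem ha ((mem_normalizer_iff.mp hba _).mp (inv_mem ha))

/-- `M ∩ L_σ = K`. -/
theorem PData.inter_core (d : PData M K U E) (d₁ : PData L (starOf M K) U₁ E₁)
    (h2 : starOf L (starOf M K) = K) : M ⊓ Cfsg.sigmaCore L ≤ K := by
  intro x hx
  obtain ⟨hxM, hxL⟩ := mem_inf.mp hx
  refine h2.le ⟨hxL, mem_centralizer_iff.mpr fun z hz => ?_⟩
  have h : ⁅z, x⁆ ∈ Cfsg.sigmaCore M ⊓ Cfsg.sigmaCore L := commutator_mem_both hz.1 hxL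
    (le_normalizer_sigmaCore L (d₁.K_le_M hG hz)) (le_normalizer_sigmaCore M hxM)
  rw [core_inf_core hG d.hM d₁.hM fun c hc => d.nonconj_partner hG h2 c⁻¹ (by
    rw [hc, conjMap_inv_conjMap]), mem_bot] at h
  exact commutatorElement_eq_one_iff_mul_comm.mp h

/-- `U ∩ L = 1`. -/
theorem PData.U_inf_partner (d : PData M K U E) (d₁ : PData L (starOf M K) U₁ E₁)
    (h2 : starOf L (starOf M K) = K) : U ⊓ L = ⊥ := by
  obtain ⟨g, hg, hgp⟩ := d.exists_prime hG
  refine eq_bot_iff.mpr fun x hx => ?_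
  obtain ⟨hxU, hxL⟩ := mem_inf.mp hx
  have hgL : g ∈ Cfsg.sigmaCore L := (h2.ge hg).1
  have h : ⁅x, g⁆ ∈ U ⊓ Cfsg.sigmaCore L := commutator_mem_both hxU hgL
    (le_normalizer_sigmaCore L hxL) (d.normal (d.K_le hg))
  have hK : ⁅x, g⁆ ∈ U ⊓ K := ⟨h.1, d.inter_core hG d₁ h2 ⟨d.U_le_M hG h.1, h.2⟩⟩
  rw [d.inf_eq_bot hG, mem_bot, commutatorElement_eq_one_iff_mul_comm] at hK
  rw [← d.fpf g hg (ne_one_of_prime hgp)]
  exact ⟨hxU, mem_centralizer_singleton_iff.mpr hK⟩

namespace Outside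

variable (o : Outside M K U E L U₁ E₁ H k)
include o

/-- `U ∩ H ≤ H_σ`. -/
theorem U_inf_le : U ⊓ H ≤ Cfsg.sigmaCore H := by
  haveI := o.fact
  have hkn : zpowers k ≤ normalizer ((U ⊓ H : Subgroup G) : Set G) :=
    CfsgLib.Comp.le_normalizer_inf ((zpowers_le.mpr (o.d.K_le o.hk)).trans o.d.normal)
      ((zpowers_le.mpr o.hkH).trans le_normalizer)
  have hcop : (Nat.card (zpowers k)).Coprime (Nat.card ↥(U ⊓ H)) :=
    (o.d.coprime.symm.coprime_dvd_left (card_dvd_of_le (zpowers_le.mpr o.hk))).coprime_dvd_right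
      (card_dvd_of_le inf_le_left)
  refine le_sigmaCore_of_pi hG o.hH inf_le_right fun r hr hd => by_contra fun hσ => ?_
  haveI := Fact.mk hr
  obtain ⟨W, hW, hkW⟩ := exists_invariant_sylowIn hkn hcop
    (Or.inl (isSolvable_of_le_max hG o.hH (zpowers_le.mpr o.hkH))) r
  have hW1 : W ≠ ⊥ := fun e => hW.2.2 (by rw [e, relIndex_bot_left]; exact hd)
  obtain ⟨F, hF, hX⟩ := exists_compl_ge hG o.hH
    (sup_le (hW.1.trans inf_le_right) (zpowers_le.mpr o.hkH) : W ⊔ zpowers k ≤ H) fun q hq hqd => by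
      rcases hq.dvd_mul.mp (hqd.trans (CfsgLib.BG.card_sup_dvd hkW)) with h | h
      · exact (prime_dvd_pgroup_card hW.2.1 hq h).symm ▸ hσ
      · exact primes_zpowers o.hkp (π := {s | s ∉ Cfsg.sigma H}) (o.not_sigma hG) q hq h
  exact o.moved_false hG hF (hX (mem_sup_right (mem_zpowers k))) (le_sup_left.trans hX) hW.2.1 hW1 hkW
    (le_bot_iff.mp ((inf_le_inf_right _ (hW.1.trans inf_le_left)).trans
      (o.d.fpf k o.hk (ne_one_of_prime o.hkp)).le))

theorem derived_centralized {F : Subgroup G} (hF : Cfsg.IsComplIn F (Cfsg.sigmaCore H) H) (hkF : k ∈ F) :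
    ⁅F, F⁆ ≤ centralizer ({k} : Set G) := by
  haveI := o.fact
  have hle : ⁅F, F⁆ ≤ F := derived_le_compl hG o.hH
  have hnil := derived_compl_nilpotent hG o.hH hF
  have hσ : ∀ {X : Subgroup G}, X ≤ F → ∀ q : ℕ, q.Prime → q ∣ Nat.card X → q ∉ Cfsg.sigma H :=
    fun hX q hq hd => not_sigma_of_dvd_compl hG o.hH hF hq (hd.trans (card_dvd_of_le hX))
  have hab : IsMulCommutative ↥⁅F, F⁆ :=
    isMulCommutative_of_nilpotent hG o.hH (hle.trans hF.1) hnil (hσ hle)
  refine le_of_sylows fun r hr _ => ?_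
  haveI := Fact.mk hr
  obtain ⟨T, hT, -⟩ := exists_sylowIn_le (IsPGroup.of_bot (p := r) (G := G)) (bot_le (a := ⁅F, F⁆))
  refine ⟨T, hT, ?_⟩
  have hTF : T ≤ F := hT.1.trans hle
  have hFn : F ≤ normalizer ((⁅F, F⁆ : Subgroup G) : Set G) :=
    CfsgLib.Comp.FF.le_normalizer_commutator le_normalizer le_normalizer
  have hkn : zpowers k ≤ normalizer (T : Set G) :=
    zpowers_le.mpr (normalizer_le_normalizer_sylow hG hnil hT (hFn hkF))
  rw [← centralizer_zpowers_eq]
  by_cases hrp : r = orderOf k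
  · subst hrp
    have hp : IsPGroup (orderOf k) ↥(T ⊔ zpowers k) :=
      hT.2.1.to_sup_of_normal_left' (pgroup_zpowers k) hkn
    have hTk : T ⊔ zpowers k ≤ F := sup_le hTF (zpowers_le.mpr hkF)
    have hc := isMulCommutative_of_nilpotent hG o.hH (hTk.trans hF.1) hp.isNilpotent (hσ hTk)
    exact le_sup_left.trans ((le_centralizer_of_isMulCommutative hc).trans
      (Subgroup.centralizer_le (le_sup_right : zpowers k ≤ T ⊔ zpowers k)))
  have hcop : (Nat.card (zpowers k)).Coprime (Nat.card T) :=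
    coprime_pgroup (pgroup_zpowers k) hT.2.1 (Ne.symm hrp)
  have hWT : ⁅T, zpowers k⁆ ≤ T := CfsgLib.Comp.commutator_le_of_le_normalizer hkn
  rw [← commutator_eq_bot_iff_le_centralizer]
  by_contra hW1
  refine o.moved_false hG hF hkF (hWT.trans hTF) (hT.2.1.to_le hWT) hW1
    (CfsgLib.Comp.FF.le_normalizer_commutator hkn le_normalizer) ?_
  rw [← centralizer_zpowers_eq]
  exact CfsgLib.Coprime.commutator_inf_centralizer_eq_bot (isMulCommutative_of_le hT.1 hab) hkn hcop

/-- A complement through `k` lies in `M*` and has `k` in its Fitting subgroup. -/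
theorem compl_facts {F : Subgroup G} (hF : Cfsg.IsComplIn F (Cfsg.sigmaCore H) H) (hkF : k ∈ F) :
    F ≤ L ∧ zpowers k ≤ Cfsg.fittingOf F := by
  haveI := o.fact
  set D := ⁅F, F⁆ ⊔ zpowers k with hD
  have hle : ⁅F, F⁆ ≤ F := derived_le_compl hG o.hH
  have hDF : D ≤ F := sup_le hle (zpowers_le.mpr hkF)
  have hk := o.derived_centralized hG hF hkF
  rw [← centralizer_zpowers_eq] at hk
  have hab : IsMulCommutative D := by
    have hc : D ≤ centralizer (D : Set G) := by
      have hF' : IsMulCommutative ↥⁅F, F⁆ := isMulCommutative_of_nilpotent hG o.hH (hle.trans hF.1)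
        (derived_compl_nilpotent hG o.hH hF) fun q hq hd =>
          not_sigma_of_dvd_compl hG o.hH hF hq (hd.trans (card_dvd_of_le hle))
      have hzc : zpowers k ≤ centralizer (zpowers k : Set G) :=
        mem_zpowers_centralizer (mem_centralizer_singleton_iff.mpr rfl)
      refine sup_le ?_ ?_ <;> rw [hD] <;> refine le_centralizer_iff.mp (sup_le ?_ ?_)
      · exact le_centralizer_of_isMulCommutative hF'
      · exact le_centralizer_iff.mp hk
      · exact hk
      · exact hzc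
    exact ⟨⟨fun a b => Subtype.ext (mem_centralizer_iff.mp (hc b.2) a a.2)⟩⟩
  have hnD : F ≤ normalizer (D : Set G) := by
    intro f hf
    rw [← conjMap_eq_self_iff]
    refine eq_of_le_of_card_ge ?_ (card_conjMap f D).ge
    rintro _ ⟨x, hx, rfl⟩
    show f * x * f⁻¹ ∈ D
    rw [show f * x * f⁻¹ = ⁅f, x⁆ * x by rw [commutatorElement_def]; group]
    exact mul_mem (mem_sup_left (commutator_mem_commutator hf (hDF hx))) hx
  have hnil : Group.IsNilpotent D := by
    haveI := hab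
    open scoped IsMulCommutative in exact inferInstance
  constructor
  · obtain ⟨P, hP, hkP⟩ := exists_sylowIn_le (pgroup_zpowers k) (le_sup_right : zpowers k ≤ D)
    have hPn : F ≤ normalizer (P : Set G) := hnD.trans (normalizer_le_normalizer_sylow hG hnil hP)
    by_cases hc : IsCyclic P
    · exact hPn.trans ((normalizer_le_of_cyclic hc hkP).trans (o.normalizer_le hG))
    · refine hPn.trans (normalizer_le_of_not_isCyclic hG o.d₁.hM (o.sigma_L hG) hP.2.1 ?_ hc)
      exact (hP.1.trans ((le_centralizer_of_isMulCommutative hab).trans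
        (centralizer_le_of_mem (mem_sup_right (mem_zpowers k))))).trans (o.centralizer_le hG)
  · refine le_trans (le_sup_right : zpowers k ≤ D) ?_
    show D ≤ (Cfsg.fittingSubgroup F).map F.subtype
    rw [← map_subgroupOf_eq_of_le hDF]
    refine map_mono (CfsgLib.Solvable.le_fittingSubgroup
      (CfsgLib.Coprime.normal_subgroupOf_of_le_normalizer hnD) ?_)
    exact Group.nilpotent_of_mulEquiv (subgroupOfEquivOfLe hDF).symm

/-- `H ∩ M*` is a complement of `H_σ`. -/
theorem inter_compl :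
    Cfsg.IsComplIn (H ⊓ L) (Cfsg.sigmaCore H) H ∧ zpowers k ≤ Cfsg.fittingOf (H ⊓ L) := by
  obtain ⟨F, hF, hkF'⟩ := exists_compl_ge hG o.hH (zpowers_le.mpr o.hkH)
    (primes_zpowers o.hkp (π := {s | s ∉ Cfsg.sigma H}) (o.not_sigma hG))
  have hkF : k ∈ F := hkF' (mem_zpowers k)
  obtain ⟨hFL, hfit⟩ := o.compl_facts hG hF hkF
  have hinf : Cfsg.sigmaCore H ⊓ L = ⊥ := by
    refine eq_bot_iff.mpr fun x hx => ?_
    obtain ⟨hxH, hxL⟩ := mem_inf.mp hx
    have hkL : k ∈ Cfsg.sigmaCore L := (o.k_star hG).1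
    have h : ⁅x, k⁆ ∈ Cfsg.sigmaCore H ⊓ Cfsg.sigmaCore L := commutator_mem_both hxH hkL
      (le_normalizer_sigmaCore L hxL) (le_normalizer_sigmaCore H o.hkH)
    rw [core_inf_core hG o.hH o.d₁.hM fun c hc => o.nL c⁻¹ (by rw [hc, conjMap_inv_conjMap]), mem_bot,
      commutatorElement_eq_one_iff_mul_comm] at h
    rw [← o.fpf hG]
    exact ⟨hxH, mem_centralizer_singleton_iff.mpr h⟩
  have heq : H ⊓ L = F := by
    refine le_antisymm (fun x hx => ?_) (le_inf hF.1 hFL)
    obtain ⟨e, he, n, hn, rfl⟩ := hF.2.2.2 x hx.1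
    have hnL : n ∈ Cfsg.sigmaCore H ⊓ L :=
      ⟨hn, (Subgroup.mul_mem_cancel_left L (hFL he)).mp hx.2⟩
    rw [hinf, mem_bot] at hnL
    rw [hnL, mul_one]
    exact he
  rw [heq]
  exact ⟨hF, hfit⟩

end Outside

/-- The data can be matched with any decomposition. -/
theorem exists_pdata_of_decomp {M K U : Subgroup G} (hM : IsCoatom M)
    (hKU : Cfsg.IsSigmaDecomposition M K U) (hK1 : K ≠ ⊥) : PData M K U (U ⊔ K) := by
  obtain ⟨U', E, d⟩ := exists_pdata_of_hall hG hM hKU.hall hK1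
  set V := U' ⊔ Cfsg.sigmaCore M with hV
  have hVM : V ≤ M := sup_le (d.U_le_M hG) (sigmaCore_le M)
  have hσn : M ≤ normalizer (Cfsg.sigmaCore M : Set G) := le_normalizer_sigmaCore M
  have hU'n : U' ≤ normalizer (Cfsg.sigmaCore M : Set G) := (d.U_le_M hG).trans hσn
  have hMV : M ≤ normalizer (V : Set G) := by
    intro x hx
    obtain ⟨e, he, n, hn, rfl⟩ := d.compl.2.2.2 x hx
    refine mul_mem ?_ (le_normalizer (mem_sup_right hn))
    rw [← conjMap_eq_self_iff]
    show Subgroup.map _ _ = _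
    rw [Subgroup.map_sup]
    exact congrArg₂ _ (conjMap_eq_self_iff.mpr (d.normal he))
      (conjMap_eq_self_iff.mpr (hσn (d.compl.1 he)))
  have hKn : K ≤ normalizer (V : Set G) := (d.K_le_M hG).trans hMV
  have hinf : U' ⊓ Cfsg.sigmaCore M = ⊥ :=
    le_bot_iff.mp ((inf_le_inf_right _ d.U_le).trans d.compl.2.2.1.le)
  have hcardV : Nat.card V = Nat.card (Cfsg.sigmaCore M) * Nat.card U' := by
    rw [hV, sup_comm, CfsgLib.Coprime.card_sup_of_inf_eq_bot hU'n hinf]
  have hcardE : Nat.card M = Nat.card (Cfsg.sigmaCore M) * (Nat.card U' * Nat.card K) := by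
    rw [← d.card_E hG, card_compl hG hM d.compl, CfsgLib.Coprime.card_mul_relIndex (sigmaCore_le M)]
  have hcardU : Nat.card U = Nat.card U' := by
    have hKσ : Nat.card ↥(K ⊔ Cfsg.sigmaCore M) = Nat.card (Cfsg.sigmaCore M) * Nat.card K := by
      rw [sup_comm, CfsgLib.Coprime.card_sup_of_inf_eq_bot ((d.K_le_M hG).trans hσn)
        (le_bot_iff.mp ((inf_le_inf_right _ d.K_le).trans d.compl.2.2.1.le))]
    have hb : Nat.card U * Nat.card ↥(K ⊔ Cfsg.sigmaCore M) = Nat.card M := by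
      rw [← Nat.card_prod]
      refine Nat.card_eq_of_bijective (fun q => (⟨q.1 * q.2, mul_mem (hKU.compl.1 q.1.2)
        (hKU.compl.2.1 q.2.2)⟩ : M)) ⟨?_, ?_⟩
      · rintro ⟨a, b⟩ ⟨a', b'⟩ h
        have h' : (a : G) * b = a' * b' := congrArg Subtype.val h
        have h1 : (a' : G)⁻¹ * a ∈ U ⊓ (K ⊔ Cfsg.sigmaCore M) := by
          refine ⟨Subgroup.mul_mem _ (Subgroup.inv_mem _ a'.2) a.2, ?_⟩
          show _ ∈ K ⊔ Cfsg.sigmaCore M
          rw [show (a' : G)⁻¹ * a = b' * (b : G)⁻¹ by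
            rw [eq_mul_inv_iff_mul_eq, mul_assoc, h', inv_mul_cancel_left]]
          exact Subgroup.mul_mem _ b'.2 (Subgroup.inv_mem _ b.2)
        rw [hKU.compl.2.2.1, mem_bot, inv_mul_eq_one] at h1
        obtain rfl : a' = a := Subtype.ext h1
        obtain rfl : b = b' := Subtype.ext (mul_left_cancel h')
        rfl
      · rintro ⟨x, hx⟩
        obtain ⟨a, ha, b, hb, rfl⟩ := hKU.compl.2.2.2 x hx
        exact ⟨(⟨a, ha⟩, ⟨b, hb⟩), rfl⟩
    rw [hKσ, hcardE] at hb
    refine Nat.eq_of_mul_eq_mul_left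
      (Nat.mul_pos (Nat.card_pos (α := Cfsg.sigmaCore M)) (Nat.card_pos (α := K))) ?_
    calc _ = Nat.card U * (Nat.card (Cfsg.sigmaCore M) * Nat.card K) := by ring
      _ = _ := by rw [hb]; ring
  have hidx : V.relIndex M = Nat.card K := by
    refine Nat.eq_of_mul_eq_mul_left (Nat.card_pos (α := V)) ?_
    rw [CfsgLib.Coprime.card_mul_relIndex hVM, hcardE, hcardV, mul_assoc]
  have hUV : U ≤ V := fun x hx => CfsgLib.Solvable.mem_of_coprime_relIndex
    (CfsgLib.Coprime.normal_subgroupOf_of_le_normalizer hMV) (hKU.compl.1 hx) (by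
      rw [hidx]
      exact (d.coprime.coprime_dvd_left (hcardU ▸ U.orderOf_dvd_natCard hx)))
  have hπ : ∀ {X : Subgroup G}, X ≤ V → Nat.card X = Nat.card U' →
      Cfsg.IsPiHallOf {q | q ∉ Cfsg.sigma M} X V := by
    intro X hX hc
    refine ⟨hX, fun q hq hd => not_sigma_of_dvd_compl hG hM d.compl hq
      ((hc ▸ hd).trans (card_dvd_of_le d.U_le)), fun q hq hσ hd => ?_⟩
    have h := CfsgLib.Coprime.card_mul_relIndex hX
    rw [hcardV, hc, mul_comm (Nat.card (Cfsg.sigmaCore M))] at h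
    rw [Nat.eq_of_mul_eq_mul_left Nat.card_pos h] at hd
    exact hσ (mem_sigma_of_dvd_sigmaCore hq hd)
  have hcop : (Nat.card K).Coprime (Nat.card V) := by
    rw [hcardV]
    exact Nat.Coprime.mul_right
      (coprime_sigmaCore hG hM fun t ht hd =>
        not_sigma_of_dvd_compl hG hM d.compl ht (hd.trans (card_dvd_of_le d.K_le)))
      d.coprime.symm
  obtain ⟨c, hc, hcU⟩ := CfsgLib.Coprime.exists_conj_invariant_hall hKn hcop
    (isSolvable_of_le_max hG hM hVM) (hπ le_sup_left rfl) (d.K_le.trans d.normal) (hπ hUV hcardU)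
    hKU.normal
  obtain ⟨g, hg, hgp⟩ := d.exists_prime hG
  have hcS : c ∈ starOf M K := by
    obtain ⟨n, hn, u, hu, rfl⟩ := (CfsgLib.Coprime.mem_sup_of_le_normalizer hU'n).mp (by
      rw [sup_comm]; exact (mem_inf.mp hc).1 : c ∈ Cfsg.sigmaCore M ⊔ U')
    have hcK := (mem_inf.mp hc).2
    have hcg : u * (u⁻¹ * n * u) ∈ centralizer ({g} : Set G) := by
      rw [show u * (u⁻¹ * n * u) = n * u by group]
      exact centralizer_le_of_mem hg hcK
    obtain ⟨h1, -⟩ := factors_centralize (d.compl.1.trans hσn) d.compl.2.2.1 (d.U_le hu)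
      (mem_conjMap.mp ((conjMap_eq_self_iff.mpr (hU'n hu)).symm ▸ hn)) (d.K_le hg) hcg
    have hu1 : u ∈ U' ⊓ centralizer ({g} : Set G) := ⟨hu, h1⟩
    rw [d.fpf g hg (ne_one_of_prime hgp), mem_bot] at hu1
    rw [hu1, mul_one] at hcK ⊢
    exact ⟨hn, hcK⟩
  have h := d.conj hG (d.star_le hG hcS)
  have hK' : conjMap c K = K := conjMap_eq_self_iff.mpr
    (centralizer_le_normalizer _ hcS.2)
  rw [hK'] at h
  have hU : conjMap c U' = U := hcU.symm
  rw [hU] at h
  rwa [h.sup_eq hG]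

end CfsgLib.BG14
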