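import Cfsg.Agent.Lib.BG14.Cover

/-!
The conjugates of `Ẑ` meet no `M̃` and form one set for all choices of `(M, K)`.
-/

set_option autoImplicit false
set_option linter.style.haveILetI false
set_option linter.unusedSectionVars false

namespace CfsgLib.BG14

open Subgroup CfsgLib.PLocal CfsgLib.OddLocal CfsgLib.BG

universe u
variable {G : Type u} [Group G] [Finite G]

variable (hG : Cfsg.IsMinSimpleOddOrder G)
include hG

variable {M K U E N K' U' E' : Subgroup G}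

theorem PData.three_le_star (d : PData M K U E) : 3 ≤ Nat.card (starOf M K) := by
  obtain ⟨z, hz, hzp⟩ := d.exists_fixed hG
  exact (two_lt_of_dvd hG hzp ((Subgroup.orderOf_dvd_natCard _ hz).trans (card_subgroup_dvd_card _))).trans_le
    (Nat.le_of_dvd Nat.card_pos (Subgroup.orderOf_dvd_natCard _ hz))

/-- More than half of `G` is conjugate into `Ẑ`. -/
theorem PData.half (d : PData M K U E) :
    Nat.card G < 2 * Set.ncard {a | ∃ g : G, ∃ z ∈ hatZ M K, a = g * z * g⁻¹} := by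
  have h1 := d.ncard_hatZ_conj hG
  have h2 := d.ncard_hatZ hG
  have h3 := d.three_le_card hG
  have h4 := d.three_le_star hG
  have hne : Nat.card K ≠ Nat.card (starOf M K) := fun e => by
    have h := d.coprime_star hG
    rw [← e, Nat.coprime_self] at h
    omega
  have h7 : Nat.card K * Nat.card (starOf M K) < 2 * (hatZ M K).ncard := by
    obtain ⟨i, hi⟩ := minSimple_odd hG K
    obtain ⟨j, hj⟩ := minSimple_odd hG (starOf M K)
    simp only [hi, hj] at h2 h3 h4 hne ⊢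
    rcases Nat.lt_or_ge i j with h | h
    · nlinarith [Nat.mul_le_mul (show 1 ≤ i by omega) (show 2 ≤ j by omega)]
    · nlinarith [Nat.mul_le_mul (show 2 ≤ i by omega) (show 1 ≤ j by omega)]
  refine Nat.lt_of_mul_lt_mul_left (a := Nat.card K * Nat.card (starOf M K)) ?_
  rw [mul_left_comm _ 2, h1, ← mul_assoc]
  exact Nat.mul_lt_mul_of_pos_right h7 Nat.card_pos

/-- Both parts of an element of `Ẑ` contribute primes to its order. -/
theorem PData.hatZ_primes (d : PData M K U E) {z : G} (hz : z ∈ hatZ M K) :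
    ∃ p q : ℕ, p.Prime ∧ q.Prime ∧ p ∣ orderOf z ∧ q ∣ orderOf z ∧ p ∣ Nat.card (starOf M K) ∧
      q ∣ Nat.card K := by
  obtain ⟨x, hx, hx1, y, hy, hy1, rfl⟩ := d.exists_of_hatZ hG hz
  have ho := (d.commute_star hG hx hy).orderOf_mul_eq_mul_orderOf_of_coprime
    (((d.coprime_star hG).coprime_dvd_left (K.orderOf_dvd_natCard hx)).coprime_dvd_right
      (Subgroup.orderOf_dvd_natCard _ hy))
  obtain ⟨p, hp, hpd⟩ := Nat.exists_prime_and_dvd (mt orderOf_eq_one_iff.mp hy1)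
  obtain ⟨q, hq, hqd⟩ := Nat.exists_prime_and_dvd (mt orderOf_eq_one_iff.mp hx1)
  exact ⟨p, q, hp, hq, ho ▸ hpd.trans (dvd_mul_left _ _), ho ▸ hqd.trans (dvd_mul_right _ _),
    hpd.trans (Subgroup.orderOf_dvd_natCard _ hy), hqd.trans (K.orderOf_dvd_natCard hx)⟩

/-- An element of `Ẑ` is no `σ`-element. -/
theorem PData.hatZ_not_sigma (d : PData M K U E) {z : G} (hz : z ∈ hatZ M K) {X : Subgroup G}
    (hX : IsCoatom X) : ∃ p : ℕ, p.Prime ∧ p ∣ orderOf z ∧ p ∉ Cfsg.sigma X := by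
  obtain ⟨L, U₁, E₁, d₁, h2, hnc, -⟩ := d.exists_dual hG
  obtain ⟨p, q, hp, hq, hpd, hqd, hpM, hqK⟩ := d.hatZ_primes hG hz
  by_contra hno
  push Not at hno
  obtain ⟨a, ha⟩ := exists_conj_of_sigma_inter hG d.hM hX
    (mem_sigma_of_dvd_sigmaCore hp (hpM.trans (card_dvd_of_le inf_le_left))) (hno p hp hpd)
  obtain ⟨b, hb⟩ := exists_conj_of_sigma_inter hG hX d₁.hM (hno q hq hqd)
    (mem_sigma_of_dvd_sigmaCore hq (hqK.trans (card_dvd_of_le (h2.ge.trans inf_le_left))))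
  exact hnc (b * a) (by rw [hb, ha, conjMap_conjMap])

/-- `Ẑ` of one pair is conjugate into `Ẑ` of any other. -/
theorem PData.hatZ_transfer (d : PData M K U E) (d' : PData N K' U' E') {w : G} (hw : w ∈ hatZ N K') :
    ∃ y : G, y * w * y⁻¹ ∈ hatZ M K := by
  obtain ⟨a, ⟨g, z, hz, rfl⟩, g', z', hz', he⟩ :
      ∃ a, a ∈ {a | ∃ g : G, ∃ z ∈ hatZ M K, a = g * z * g⁻¹} ∧
        a ∈ {a | ∃ g : G, ∃ z ∈ hatZ N K', a = g * z * g⁻¹} := by
    by_contra hno
    push Not at hno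
    have hd : Disjoint {a | ∃ g : G, ∃ z ∈ hatZ M K, a = g * z * g⁻¹}
        {a | ∃ g : G, ∃ z ∈ hatZ N K', a = g * z * g⁻¹} := Set.disjoint_left.mpr hno
    have h1 := Set.ncard_union_eq hd (Set.toFinite _) (Set.toFinite _)
    have h2 := Set.ncard_le_card ({a | ∃ g : G, ∃ z ∈ hatZ M K, a = g * z * g⁻¹} ∪
      {a | ∃ g : G, ∃ z ∈ hatZ N K', a = g * z * g⁻¹})
    have h3 := d.half hG
    have h4 := d'.half hG
    omega
  set c := g'⁻¹ * g
  have hc : c * z * c⁻¹ = z' := by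
    calc c * z * c⁻¹ = g'⁻¹ * (g * z * g⁻¹) * g' := by simp only [c]; group
      _ = _ := by rw [he]; group
  have hZ : conjMap c (zGroup M K) = zGroup N K' := by
    rw [← d.centralizer_hatZ hG hz, ← centralizer_conj, hc, d'.centralizer_hatZ hG hz']
  refine ⟨c⁻¹, ?_⟩
  rw [inv_inv]
  have ht : c⁻¹ * w * c ∈ zGroup M K := mem_conjMap.mp (hZ ▸ hw.1)
  refine ⟨ht, ?_⟩
  obtain ⟨L, U₁, E₁, d₁, h2, -, -⟩ := d.exists_dual hG
  rintro (h | h)
  · obtain ⟨p, hp, hpd, hpσ⟩ := d'.hatZ_not_sigma hG hw d₁.hM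
    rw [← orderOf_conj_inv c w] at hpd
    exact hpσ (mem_sigma_of_dvd_sigmaCore hp
      (hpd.trans ((Cfsg.sigmaCore L).orderOf_dvd_natCard (h2.ge h).1)))
  · obtain ⟨p, hp, hpd, hpσ⟩ := d'.hatZ_not_sigma hG hw d.hM
    rw [← orderOf_conj_inv c w] at hpd
    exact hpσ (mem_sigma_of_dvd_sigmaCore hp
      (hpd.trans ((Cfsg.sigmaCore M).orderOf_dvd_natCard h.1)))

/-- A `σ`-element of `Z` in the core of a maximal subgroup lies in that of `M` only, with centralizer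
in `M`. -/
theorem PData.pinned (d : PData M K U E) {a : G} (ha : a ∈ starOf M K) (ha1 : a ≠ 1) (hN : IsCoatom N)
    (haN : a ∈ Cfsg.sigmaCore N) : N = M ∧ centralizer ({a} : Set G) ≤ M := by
  obtain ⟨p, i, hp, -, hi⟩ := exists_prime_pow ha1
  refine ⟨eq_partner hG d (pow_mem ha i) (hi.symm ▸ hp) hN (pow_mem haN i),
    (centralizer_singleton_le_pow a i).trans (d.point hG (pow_mem ha i) (hi.symm ▸ hp)).1⟩

theorem PData.hatZ_not_mem_tilde (d : PData M K U E) {z : G} (hz : z ∈ hatZ M K)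
    {N₀ : Subgroup G} (hN₀ : IsCoatom N₀) : z ∉ tilde N₀ := by
  rintro ⟨a₀, ⟨ha₀, ha₀1⟩, r₀, hr₀, y, hzy⟩
  set a := y * a₀ * y⁻¹
  set r := y * r₀ * y⁻¹
  set N := conjMap y N₀
  have hN : IsCoatom N := isCoatom_conj hG hN₀ y
  have ha : a ∈ Cfsg.sigmaCore N := by
    rw [sigmaCore_conjMap (M := N₀) y]; exact conj_mem_conjMap ha₀
  have ha1 : a ≠ 1 := fun e => ha₀1 (conj_eq_one_iff.mp e)
  have hr : r ∈ Cfsg.supportR N a := by
    rw [supportR_conjMap hG hN₀ ha₀ ha₀1]; exact conj_mem_conjMap hr₀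
  have hzr : z = a * r := by rw [hzy]; simp only [a, r]; group
  obtain ⟨p, hp, hpd, hpσ⟩ := d.hatZ_not_sigma hG hz hN
  rcases mem_supportR hG hN ha ha1 hr with hr1 | ⟨L₀, s, hrL, hrC⟩
  · rw [hzr, hr1, mul_one] at hpd
    exact hpσ (mem_sigma_of_dvd_sigmaCore hp (hpd.trans ((Cfsg.sigmaCore N).orderOf_dvd_natCard ha)))
  have hc : Commute a r := (mem_centralizer_singleton_iff.mp hrC).symm
  have hcop : (orderOf r).Coprime (orderOf a) := coprime_of_forall fun q hq h1 h2 =>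
    s.sigma_disjoint hG hN
      (mem_sigma_of_dvd_sigmaCore hq (h2.trans ((Cfsg.sigmaCore N).orderOf_dvd_natCard ha)))
      (mem_sigma_of_dvd_sigmaCore hq (h1.trans ((Cfsg.sigmaCore L₀).orderOf_dvd_natCard hrL)))
  obtain ⟨k, hk⟩ := exists_pow_eq_self_of_coprime (x := a) hcop
  have haZ : a ∈ zGroup M K := by
    have hpow : z ^ orderOf r = a ^ orderOf r := by
      rw [hzr, hc.mul_pow, pow_orderOf_eq_one, mul_one]
    rw [← hk, ← hpow, ← pow_mul]
    exact pow_mem hz.1 _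
  obtain ⟨L, U₁, E₁, d₁, h2, hnc, -⟩ := d.exists_dual hG
  have hdone : ∀ {M' K'' U'' E'' : Subgroup G}, PData M' K'' U'' E'' → a ∈ starOf M' K'' → False := by
    intro M' K'' U'' E'' d'' ha'
    obtain ⟨hNM, hC⟩ := d''.pinned hG ha' ha1 hN ha
    exact s.not_le hG (hNM ▸ hC)
  by_cases haK : a ∈ K
  · exact hdone d₁ (h2.ge haK)
  by_cases haS : a ∈ starOf M K
  · exact hdone d haS
  obtain ⟨q, hq, hqd, hqσ⟩ := d.hatZ_not_sigma hG ⟨haZ, fun h => h.elim haK haS⟩ hN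
  exact hqσ (mem_sigma_of_dvd_sigmaCore hq (hqd.trans ((Cfsg.sigmaCore N).orderOf_dvd_natCard ha)))

end CfsgLib.BG14
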