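import Cfsg.Agent.Lib.BG14.AllFix

/-!
The counting argument: the neighbours of an `AllFix` maximal subgroup are not all of that kind.
-/

set_option autoImplicit false
set_option linter.style.haveILetI false
set_option linter.unusedSectionVars false

namespace CfsgLib.BG14

open Subgroup CfsgLib.PLocal CfsgLib.OddLocal CfsgLib.BG
open scoped commutatorElement

universe u
variable {G : Type u} [Group G] [Finite G]

/-- The common part `C_{M_σ}(E) × E`. -/
def hubGroup (M E : Subgroup G) : Subgroup G := (Cfsg.sigmaCore M ⊓ centralizer (E : Set G)) ⊔ E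

/-- The members of the hub. -/
def IsMember (N L : Subgroup G) : Prop :=
  IsCoatom L ∧ N ≤ L ∧
    ∃ x ∈ N, (orderOf x).Prime ∧ x ∈ Cfsg.sigmaCore L ∧ centralizer ({x} : Set G) ≤ L

variable (hG : Cfsg.IsMinSimpleOddOrder G)
include hG

variable {M E : Subgroup G}

omit hG in
theorem IsMember.eq_of_conj (hG : Cfsg.IsMinSimpleOddOrder G) {N L L' : Subgroup G}
    (h : IsMember N L) (h' : IsMember N L') {g : G} (hg : L' = conjMap g L) : L' = L := by
  obtain ⟨x, hxN, hxp, hxσ, hxC⟩ := h.2.2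
  obtain ⟨c, hc, hcL⟩ := exists_centralizer_conj_of_mem hG h.1 hxσ (ne_one_of_prime hxp)
    (g := g) (hg ▸ h'.2.1 hxN)
  rw [hg, ← hcL, conjMap_eq_self_iff.mpr (le_normalizer (hxC hc))]

theorem hub_le (a : AllFix M E) : hubGroup M E ≤ M :=
  sup_le (inf_le_left.trans (sigmaCore_le M)) a.compl.1

theorem mem_hub_cases (a : AllFix M E) {x : G} (hx : x ∈ hubGroup M E) (hxp : (orderOf x).Prime) :
    (x ∈ Cfsg.sigmaCore M ∧ x ∈ centralizer (E : Set G)) ∨ x ∈ E := by
  have hn : E ≤ normalizer ((Cfsg.sigmaCore M ⊓ centralizer (E : Set G) : Subgroup G) : Set G) :=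
    (le_centralizer_iff.mp inf_le_right).trans (centralizer_le_normalizer _)
  obtain ⟨y, hy, e, he, rfl⟩ := (CfsgLib.Coprime.mem_sup_of_le_normalizer hn).mp hx
  have hc : Commute y e := (mem_centralizer_iff.mp hy.2 e he).symm
  have hcop : (orderOf y).Coprime (orderOf e) := coprime_of_forall fun r hr h1 h2 =>
    not_sigma_of_mem_compl hG a.hM a.compl he hr h2
      (mem_sigma_of_dvd_sigmaCore hr (h1.trans ((Cfsg.sigmaCore M).orderOf_dvd_natCard hy.1)))
  have ho := hc.orderOf_mul_eq_mul_orderOf_of_coprime hcop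
  rw [ho] at hxp
  rcases (Nat.prime_mul_iff.mp hxp) with ⟨-, h⟩ | ⟨-, h⟩
  · rw [orderOf_eq_one_iff.mp h, mul_one]; exact Or.inl hy
  · rw [orderOf_eq_one_iff.mp h, one_mul]; exact Or.inr he

theorem exists_member_of_mem_E (a : AllFix M E) {g : G} (hg : g ∈ E) (hgp : (orderOf g).Prime) :
    ∃ L, IsMember (hubGroup M E) L ∧ g ∈ Cfsg.sigmaCore L ∧ centralizer ({g} : Set G) ≤ L ∧
      ∀ c : G, L ≠ conjMap c M := by
  obtain ⟨z, hz, hzp, hzE⟩ := a.exists_fixed hG
  obtain ⟨L, hL, hNL⟩ := exists_coatom_normalizer hG (zpowers_ne_bot.mpr (ne_one_of_prime hgp))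
    (fun h => a.hM.1 (top_le_iff.mp (h ▸ zpowers_le.mpr (a.compl.1 hg))))
  obtain ⟨hσ, hnc⟩ := neighbour hG a.hM (a.compl.1 hg) hgp (a.tau g hg hgp) hz hzp
    (mem_centralizer_iff.mp hzE g hg) hL hNL
  have hCL : centralizer ({g} : Set G) ≤ L :=
    (centralizer_zpowers_eq g).ge.trans ((centralizer_le_normalizer _).trans hNL)
  have hN : hubGroup M E ≤ L := sup_le
    ((inf_le_right.trans (centralizer_le_of_mem hg)).trans hCL) ((a.normal g hg hgp).trans hNL)
  have hgσ : g ∈ Cfsg.sigmaCore L := mem_sigmaCore_of hG hL (hN (mem_sup_right hg))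
    fun r hr hd => (Nat.prime_dvd_prime_iff_eq hr hgp).mp hd ▸ hσ
  exact ⟨L, ⟨hL, hN, g, mem_sup_right hg, hgp, hgσ, hCL⟩, hgσ, hCL, hnc⟩

theorem member_self (a : AllFix M E) : IsMember (hubGroup M E) M := by
  obtain ⟨z, hz, hzp, hzE⟩ := a.exists_fixed hG
  exact ⟨a.hM, hub_le hG a, z, mem_sup_left ⟨hz, hzE⟩, hzp, hz, a.point_le hG hz hzp hzE⟩

theorem exists_member_of_prime (a : AllFix M E) {x : G} (hx : x ∈ hubGroup M E)
    (hxp : (orderOf x).Prime) : ∃ L, IsMember (hubGroup M E) L ∧ x ∈ Cfsg.sigmaCore L ∧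
      centralizer ({x} : Set G) ≤ L := by
  rcases mem_hub_cases hG a hx hxp with h | h
  · exact ⟨M, member_self hG a, h.1, a.point_le hG h.1 hxp h.2⟩
  · obtain ⟨L, h1, h2, h3, -⟩ := exists_member_of_mem_E hG a h hxp
    exact ⟨L, h1, h2, h3⟩

theorem member_centralizer_le (a : AllFix M E) {L : Subgroup G} (hL : IsMember (hubGroup M E) L)
    {x : G} (hx : x ∈ hubGroup M E) (hxp : (orderOf x).Prime) (hσ : orderOf x ∈ Cfsg.sigma L) :
    centralizer ({x} : Set G) ≤ L ∧ x ∈ Cfsg.sigmaCore L := by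
  obtain ⟨L', hL', hxσ, hxC⟩ := exists_member_of_prime hG a hx hxp
  obtain ⟨g, hg⟩ := exists_conj_of_sigma_inter hG hL.1 hL'.1 hσ
    (mem_sigma_of_dvd_sigmaCore hxp ((Cfsg.sigmaCore L').orderOf_dvd_natCard hxσ))
  rw [hL.eq_of_conj hG hL' hg] at hxσ hxC
  exact ⟨hxC, hxσ⟩

/-- The counting contradiction. -/
theorem false_of_allFix_hub (a : AllFix M E)
    (h : ∀ L : Subgroup G, IsCoatom L → hubGroup M E ≤ L → (∀ c : G, L ≠ conjMap c M) →
      (∃ g ∈ E, (orderOf g).Prime ∧ g ∈ Cfsg.sigmaCore L) → ∃ EL, AllFix L EL) : False := by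
  classical
  set N := hubGroup M E with hNdef
  -- a good complement for each member
  have hgood : ∀ L, IsMember N L → ∃ EL, AllFix L EL ∧ EL ≤ N ∧
      Cfsg.sigmaCore L ⊓ centralizer (EL : Set G) ≤ N := by
    intro L hL
    by_cases hLM : L = M
    · subst hLM
      exact ⟨E, a, le_sup_right, le_sup_left⟩
    have hnc : ∀ c : G, L ≠ conjMap c M := fun c hc => hLM ((member_self hG a).eq_of_conj hG hL hc)
    obtain ⟨x, hxN, hxp, hxσ, hxC⟩ := hL.2.2
    have hxE : x ∈ E := by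
      refine (mem_hub_cases hG a hxN hxp).resolve_left fun h => ?_
      exact (exists_conj_of_sigma_inter hG a.hM hL.1
        (mem_sigma_of_dvd_sigmaCore hxp ((Cfsg.sigmaCore M).orderOf_dvd_natCard h.1))
        (mem_sigma_of_dvd_sigmaCore hxp ((Cfsg.sigmaCore L).orderOf_dvd_natCard hxσ))).elim hnc
    obtain ⟨E₀, a₀⟩ := h L hL.1 hL.2.1 hnc ⟨x, hxE, hxp, hxσ⟩
    obtain ⟨z, hz, hzp, hzE⟩ := a.exists_fixed hG
    haveI := Fact.mk hzp
    have hzN : z ∈ N := mem_sup_left ⟨hz, hzE⟩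
    have hzσ : orderOf z ∈ Cfsg.sigma M :=
      mem_sigma_of_dvd_sigmaCore hzp ((Cfsg.sigmaCore M).orderOf_dvd_natCard hz)
    have hzL : orderOf z ∉ Cfsg.sigma L := fun h' =>
      (exists_conj_of_sigma_inter hG a.hM hL.1 hzσ h').elim hnc
    obtain ⟨c, hc, hcE⟩ := exists_conj_le_compl hG hL.1 a₀.compl (zpowers_le.mpr (hL.2.1 hzN))
      (primes_zpowers hzp (π := {r | r ∉ Cfsg.sigma L}) hzL)
    have hzEL : z ∈ conjMap c⁻¹ E₀ := by
      rw [mem_conjMap, inv_inv]; exact hcE (conj_mem_conjMap (mem_zpowers z))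
    set EL := conjMap c⁻¹ E₀ with hELdef
    have aL : AllFix L EL := a₀.conj hG (inv_mem (sigmaCore_le L hc))
    have hzM : centralizer ({z} : Set G) ≤ M := a.point_le hG hz hzp hzE
    have hNz : normalizer (zpowers z : Set G) ≤ M := by
      obtain ⟨-, h'⟩ := i1404 hG M a.hM _ hzσ (zpowers z) (pgroup_zpowers z)
        (zpowers_ne_bot.mpr (ne_one_of_prime hzp)) (zpowers_le.mpr (sigmaCore_le M hz))
      rw [h']
      exact sup_le inf_le_left ((centralizer_zpowers_eq z).le.trans hzM)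
    have hxEL : x ∈ centralizer (EL : Set G) := aL.fix z hzEL hzp
      ⟨hxσ, mem_centralizer_singleton_iff.mpr (mem_centralizer_iff.mp hzE x hxE)⟩
    have hELN : EL ≤ N := fun e he => a.centralizer_le hG hxE hxp
      ⟨(aL.normal z hzEL hzp).trans hNz he,
        mem_centralizer_singleton_iff.mpr (mem_centralizer_iff.mp hxEL e he)⟩
    refine ⟨EL, aL, hELN, fun u hu => ?_⟩
    by_cases hu1 : u = 1
    · rw [hu1]; exact one_mem _
    have huM : u ∈ M := hzM (mem_centralizer_singleton_iff.mpr (mem_centralizer_iff.mp hu.2 z hzEL).symm)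
    have huσ : ∀ r : ℕ, r.Prime → r ∣ orderOf u → r ∈ Cfsg.sigma L := fun r hr hd =>
      mem_sigma_of_dvd_sigmaCore hr (hd.trans ((Cfsg.sigmaCore L).orderOf_dvd_natCard hu.1))
    obtain ⟨d, hd, hdE⟩ := exists_conj_le_compl hG a.hM a.compl (zpowers_le.mpr huM) fun r hr hrd hrM => by
      rw [Nat.card_zpowers] at hrd
      exact (exists_conj_of_sigma_inter hG a.hM hL.1 hrM (huσ r hr hrd)).elim hnc
    have hu₀E : d * u * d⁻¹ ∈ E := hdE (conj_mem_conjMap (mem_zpowers u))
    have hu₀L : d * u * d⁻¹ ∈ Cfsg.sigmaCore L := mem_sigmaCore_of hG hL.1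
      (hL.2.1 (mem_sup_right hu₀E)) fun r hr hrd => huσ r hr (by rwa [orderOf_conj'] at hrd)
    obtain ⟨r, i, hr, hrd, hi⟩ := exists_prime_pow (x := d * u * d⁻¹)
      (fun e => hu1 (conj_eq_one_iff.mp e))
    have hC0 : centralizer ({(d * u * d⁻¹) ^ i} : Set G) ≤ L :=
      (member_centralizer_le hG a hL (pow_mem (mem_sup_right hu₀E) i) (hi.symm ▸ hr)
        (hi.symm ▸ huσ r hr (by rwa [orderOf_conj'] at hrd))).1
    obtain ⟨t, ht, htL⟩ := exists_centralizer_conj_of_mem hG hL.1 hu₀L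
      (fun e => hu1 (conj_eq_one_iff.mp e)) (g := d) (conj_mem_conjMap (sigmaCore_le L hu.1))
    have hdL : d ∈ L := by
      rw [← conjMap_max_eq_iff hG hL.1, ← htL]
      exact conjMap_eq_self_iff.mpr (le_normalizer (hC0 ((centralizer_singleton_le_pow _ i) ht)))
    have hcomm : d * u = u * d := by
      have h1 : d * u * d⁻¹ * u⁻¹ ∈ Cfsg.sigmaCore M ⊓ Cfsg.sigmaCore L := by
        refine ⟨?_, Subgroup.mul_mem _ hu₀L (Subgroup.inv_mem _ hu.1)⟩
        rw [show d * u * d⁻¹ * u⁻¹ = d * (u * d⁻¹ * u⁻¹) by group]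
        exact mul_mem hd ((mem_normalizer_iff.mp (le_normalizer_sigmaCore M huM) _).mp (inv_mem hd))
      have h2 : Cfsg.sigmaCore M ⊓ Cfsg.sigmaCore L = ⊥ := CfsgLib.Coprime.inf_eq_bot_of_coprime
        (coprime_of_forall fun s hs h1 h2 => (exists_conj_of_sigma_inter hG a.hM hL.1
          (mem_sigma_of_dvd_sigmaCore hs h1) (mem_sigma_of_dvd_sigmaCore hs h2)).elim hnc)
      rw [h2, mem_bot, mul_inv_eq_one, mul_inv_eq_iff_eq_mul] at h1
      exact h1
    rw [hcomm, mul_inv_cancel_right] at hu₀E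
    exact mem_sup_right hu₀E
  choose! EL hEL hELN hYL using hgood
  -- the self-normalizing set
  set T : Set G := {x | x ∈ N ∧ ∀ L, IsMember N L → x ∉ Cfsg.sigmaCore L} with hT
  have hTconj : ∀ x ∈ T, ∀ n ∈ N, n * x * n⁻¹ ∈ T := by
    refine fun x hx n hn => ⟨mul_mem (mul_mem hn hx.1) (inv_mem hn), fun L hL h' => hx.2 L hL ?_⟩
    exact (mem_normalizer_iff.mp (le_normalizer_sigmaCore L (hL.2.1 hn)) x).mpr h'
  have hTI : ∀ x ∈ T, ∀ g : G, g * x * g⁻¹ ∈ N → g ∈ N := by
    intro x hx g hg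
    have hx1 : x ≠ 1 := fun e => hx.2 M (member_self hG a) (e ▸ one_mem _)
    obtain ⟨p, i, hp, -, hi⟩ := exists_prime_pow hx1
    obtain ⟨L, hL, hxσ, hxC⟩ := exists_member_of_prime hG a (pow_mem hx.1 i) (hi.symm ▸ hp)
    have hpσ : p ∈ Cfsg.sigma L := mem_sigma_of_dvd_sigmaCore hp
      (hi ▸ (Cfsg.sigmaCore L).orderOf_dvd_natCard hxσ)
    have hgx : g * x ^ i * g⁻¹ ∈ L := by rw [← conj_pow]; exact hL.2.1 (pow_mem hg i)
    obtain ⟨t, ht, htL⟩ := exists_centralizer_conj_of_mem hG hL.1 hxσ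
      (fun e => hp.ne_one (by rw [← hi, e, orderOf_one])) (g := g⁻¹) (by rwa [mem_conjMap, inv_inv])
    have hgL : g ∈ L := by
      rw [← inv_mem_iff, ← conjMap_max_eq_iff hG hL.1, ← htL]
      exact conjMap_eq_self_iff.mpr (le_normalizer (hxC ht))
    -- a prime part outside `σ(L)`
    obtain ⟨r, hr, hrd, hrL⟩ : ∃ r, r.Prime ∧ r ∣ orderOf x ∧ r ∉ Cfsg.sigma L := by
      by_contra hno
      push Not at hno
      exact hx.2 L hL (mem_sigmaCore_of hG hL.1 (hL.2.1 hx.1) hno)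
    haveI := Fact.mk hr
    have hj := exists_pow_orderOf_eq hrd
    set j := orderOf x / r
    have hrk : Cfsg.PRankLE r 1 L := by
      obtain ⟨c, -, hcE⟩ := exists_conj_le_compl hG hL.1 (hEL L hL).compl
        (zpowers_le.mpr (hL.2.1 (pow_mem hx.1 j)))
        (primes_zpowers (x := x ^ j) (hj.symm ▸ hr) (π := {s | s ∉ Cfsg.sigma L}) (hj.symm ▸ hrL))
      have hc := (hEL L hL).tau _ (hcE (conj_mem_conjMap (mem_zpowers _)))
        (by rw [orderOf_conj', hj]; exact hr)
      rw [orderOf_conj', hj] at hc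
      exact tau13_prankLE hG hL.1 hc
    have hcyc : ∀ S : Subgroup G, IsPGroup r S → S ≤ N → IsCyclic S := fun S hS hSN =>
      isCyclic_of_prankLE_one hG hS (hSN.trans hL.2.1) hrk
    have hrE : r ∣ Nat.card (EL L) := by
      have h1 : r ∣ Nat.card L := hrd.trans (L.orderOf_dvd_natCard (hL.2.1 hx.1))
      rw [← CfsgLib.Coprime.card_mul_relIndex (sigmaCore_le L), ← card_compl hG hL.1 (hEL L hL).compl] at h1
      exact (hr.dvd_mul.mp h1).resolve_left fun h' => hrL (mem_sigma_of_dvd_sigmaCore hr h')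
    obtain ⟨⟨w₀, hw₀⟩, hw₀o⟩ := exists_prime_orderOf_dvd_card' r hrE
    rw [Subgroup.orderOf_mk] at hw₀o
    have hz0 : Nat.card (zpowers w₀) = r := card_zpowers_eq hw₀o
    have hw₀N : zpowers w₀ ≤ N := zpowers_le.mpr (hELN L hL hw₀)
    obtain ⟨c, hc, hcw⟩ := exists_conj_of_cyclic_sylow hcyc (zpowers_le.mpr (pow_mem hx.1 j)) hw₀N
      (card_zpowers_eq hj) hz0
    have hgN : g * x ^ j * g⁻¹ ∈ N := by rw [← conj_pow]; exact pow_mem hg j
    obtain ⟨c', hc', hcw'⟩ := exists_conj_of_cyclic_sylow hcyc (zpowers_le.mpr hgN) hw₀N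
      (card_zpowers_eq (by rw [orderOf_conj', hj])) hz0
    have hmap : zpowers (g * x ^ j * g⁻¹) = conjMap g (zpowers (x ^ j)) := by
      show _ = (zpowers (x ^ j)).map _
      rw [MonoidHom.map_zpowers]; rfl
    have hnorm : c' * g * c⁻¹ ∈ normalizer (zpowers w₀ : Set G) := by
      rw [← conjMap_eq_self_iff]
      conv_lhs => rw [← hcw]
      rw [conjMap_conjMap, inv_mul_cancel_right, ← conjMap_conjMap, ← hmap, hcw']
    obtain ⟨e, he, n, hn, hen⟩ := (hEL L hL).compl.2.2.2 (c' * g * c⁻¹)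
      (mul_mem (mul_mem (hL.2.1 hc') hgL) (inv_mem (hL.2.1 hc)))
    have hnn : n ∈ normalizer (zpowers w₀ : Set G) := by
      have h1 : n = e⁻¹ * (c' * g * c⁻¹) := by rw [hen, inv_mul_cancel_left]
      rw [h1]
      exact mul_mem (inv_mem ((hEL L hL).normal w₀ hw₀ (hw₀o.symm ▸ hr) he)) hnorm
    have hnw : n * w₀ * n⁻¹ * w₀⁻¹ ∈ EL L ⊓ Cfsg.sigmaCore L := by
      refine ⟨zpowers_le.mpr hw₀ (mul_mem ((mem_normalizer_iff.mp hnn _).mp (mem_zpowers w₀))
        (inv_mem (mem_zpowers w₀))), ?_⟩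
      rw [show n * w₀ * n⁻¹ * w₀⁻¹ = n * (w₀ * n⁻¹ * w₀⁻¹) by group]
      exact mul_mem hn ((mem_normalizer_iff.mp (le_normalizer_sigmaCore L
        ((hEL L hL).compl.1 hw₀)) _).mp (inv_mem hn))
    rw [(hEL L hL).compl.2.2.1, mem_bot, mul_inv_eq_one, mul_inv_eq_iff_eq_mul] at hnw
    have hnN : n ∈ N := hYL L hL ⟨hn, (hEL L hL).fix w₀ hw₀ (hw₀o.symm ▸ hr)
      ⟨hn, mem_centralizer_singleton_iff.mpr hnw⟩⟩
    have h' : c' * g * c⁻¹ ∈ N := hen ▸ mul_mem (hELN L hL he) hnN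
    rwa [mul_mem_cancel_right (inv_mem hc), mul_mem_cancel_left hc'] at h'
  -- counting
  haveI : Finite (Subgroup G) := Finite.of_injective _ SetLike.coe_injective
  haveI := Fintype.ofFinite (Subgroup G)
  haveI := Fintype.ofFinite G
  set F : Finset (Subgroup G) := Finset.univ.filter (IsMember N) with hF
  have hFm : ∀ {L}, L ∈ F ↔ IsMember N L := fun {L} => by simp [hF]
  set TG : Set G := {x | ∃ t ∈ T, ∃ g : G, x = g * t * g⁻¹}
  have hTG : TG.ncard = N.index * T.ncard := by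
    rw [Subgroup.index_eq_card, ← Nat.card_coe_set_eq T, ← Nat.card_prod, ← Nat.card_coe_set_eq]
    refine (Nat.card_eq_of_bijective (fun z : (G ⧸ N) × T =>
      (⟨Quotient.out z.1 * z.2.1 * (Quotient.out z.1)⁻¹, z.2.1, z.2.2, _, rfl⟩ : TG)) ⟨?_, ?_⟩).symm
    · rintro ⟨q, ⟨s, hs⟩⟩ ⟨q', ⟨t, ht⟩⟩ he
      have he' : Quotient.out q * s * (Quotient.out q)⁻¹ = Quotient.out q' * t * (Quotient.out q')⁻¹ :=
        congrArg Subtype.val he
      have hmem : (Quotient.out q')⁻¹ * Quotient.out q ∈ N := hTI s hs _ (by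
        rw [show (Quotient.out q')⁻¹ * Quotient.out q * s * ((Quotient.out q')⁻¹ * Quotient.out q)⁻¹ =
          (Quotient.out q')⁻¹ * (Quotient.out q * s * (Quotient.out q)⁻¹) * Quotient.out q' by group, he']
        rw [show (Quotient.out q')⁻¹ * (Quotient.out q' * t * (Quotient.out q')⁻¹) * Quotient.out q' = t by group]
        exact ht.1)
      have hq : q' = q := by
        rw [← Quotient.out_eq q, ← Quotient.out_eq q']
        exact QuotientGroup.eq.mpr hmem
      subst hq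
      obtain rfl : s = t := mul_left_cancel (mul_right_cancel he')
      rfl
    · rintro ⟨_, t, ht, g, rfl⟩
      obtain ⟨n, hn⟩ := QuotientGroup.mk_out_eq_mul N g
      refine ⟨⟨QuotientGroup.mk g, ⟨(n : G)⁻¹ * t * n, ?_⟩⟩, ?_⟩
      · have := hTconj t ht (n : G)⁻¹ (inv_mem n.2)
        rwa [inv_inv] at this
      · apply Subtype.ext
        show Quotient.out (QuotientGroup.mk g : G ⧸ N) * _ * _ = _
        rw [hn]; group
  set tl : Subgroup G → Set G := fun L => Cfsg.tildeOf L ((Cfsg.sigmaCore L : Set G) \ {1})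
  have hdis : ∀ L ∈ F, Disjoint TG (tl L) := by
    intro L hL
    rw [Set.disjoint_left]
    rintro _ ⟨t, ht, g, rfl⟩ ⟨b, ⟨hb, hb1⟩, r, hr, y, he⟩
    have hb1' : b ≠ 1 := hb1
    set d := g⁻¹ * y
    have ht' : t = d * b * d⁻¹ * (d * r * d⁻¹) := by
      calc t = g⁻¹ * (g * t * g⁻¹) * g := by group
        _ = g⁻¹ * (y * (b * r) * y⁻¹) * g := by rw [he]
        _ = g⁻¹ * y * b * (g⁻¹ * y)⁻¹ * (g⁻¹ * y * r * (g⁻¹ * y)⁻¹) := by group
    set x' := d * b * d⁻¹
    have hx'1 : x' ≠ 1 := fun e => hb1' (conj_eq_one_iff.mp e)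
    have hx'σ : x' ∈ Cfsg.sigmaCore (conjMap d L) := by
      rw [sigmaCore_conjMap (M := L) d]; exact conj_mem_conjMap hb
    have hr' : d * r * d⁻¹ ∈ Cfsg.supportR (conjMap d L) x' := by
      rw [supportR_conjMap hG (hFm.mp hL).1 hb hb1']; exact conj_mem_conjMap hr
    have hxN : x' ∈ N := by
      rcases mem_supportR hG (isCoatom_conj hG (hFm.mp hL).1 d) hx'σ hx'1 hr' with e | ⟨L', hL', hrL, hrC⟩
      · rw [e, mul_one] at ht'; exact ht' ▸ ht.1
      have hc : Commute x' (d * r * d⁻¹) := (mem_centralizer_singleton_iff.mp hrC).symm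
      have hcop : (orderOf (d * r * d⁻¹)).Coprime (orderOf x') := coprime_of_forall fun s hs h1 h2 =>
        hL'.sigma_disjoint hG (isCoatom_conj hG (hFm.mp hL).1 d)
          (mem_sigma_of_dvd_sigmaCore hs (h2.trans ((Cfsg.sigmaCore _).orderOf_dvd_natCard hx'σ)))
          (mem_sigma_of_dvd_sigmaCore hs (h1.trans ((Cfsg.sigmaCore _).orderOf_dvd_natCard hrL)))
      obtain ⟨k, hk⟩ := exists_pow_eq_self_of_coprime (x := x') hcop
      have hpow : t ^ orderOf (d * r * d⁻¹) = x' ^ orderOf (d * r * d⁻¹) := by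
        rw [ht', hc.mul_pow, pow_orderOf_eq_one, mul_one]
      rw [← hk, ← hpow, ← pow_mul]
      exact pow_mem ht.1 _
    have hsub : ∀ s : ℕ, s.Prime → s ∣ orderOf x' → s ∈ Cfsg.sigma L := fun s hs hd => by
      rw [orderOf_conj'] at hd
      exact mem_sigma_of_dvd_sigmaCore hs (hd.trans ((Cfsg.sigmaCore L).orderOf_dvd_natCard hb))
    have hx'L : x' ∈ Cfsg.sigmaCore L := mem_sigmaCore_of hG (hFm.mp hL).1 ((hFm.mp hL).2.1 hxN) hsub
    obtain ⟨p, i, hp, hpd, hi⟩ := exists_prime_pow hx'1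
    have hC : centralizer ({x'} : Set G) ≤ L := (centralizer_singleton_le_pow x' i).trans
      (member_centralizer_le hG a (hFm.mp hL) (pow_mem hxN i) (hi.symm ▸ hp)
        (hi.symm ▸ hsub p hp hpd)).1
    rw [supportR_eq_of_conj hG (hFm.mp hL).1 hx'L hx'1 (sigmaCore_le _ hx'σ), supportR_of_le hC,
      mem_bot] at hr'
    rw [hr', mul_one] at ht'
    exact ht.2 L (hFm.mp hL) (ht' ▸ hx'L)
  have hone : (1 : G) ∉ TG ∪ ⋃ L ∈ F, tl L := by
    rintro (⟨t, ht, g, he⟩ | h)
    · exact ht.2 M (member_self hG a) (conj_eq_one_iff.mp he.symm ▸ one_mem _)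
    · simp only [Set.mem_iUnion] at h
      obtain ⟨L, hL, b, ⟨hb, hb1⟩, r, hr, y, he⟩ := h
      have he' : b * r = 1 := conj_eq_one_iff.mp he.symm
      rcases mem_supportR hG (hFm.mp hL).1 hb hb1 hr with rfl | ⟨L', hL', hrL, -⟩
      · exact hb1 (by simpa using he')
      obtain ⟨s, hs, hsd⟩ := Nat.exists_prime_and_dvd (fun e => hb1 (orderOf_eq_one_iff.mp e))
      refine hL'.sigma_disjoint hG (hFm.mp hL).1
        (mem_sigma_of_dvd_sigmaCore hs (hsd.trans ((Cfsg.sigmaCore L).orderOf_dvd_natCard hb)))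
        (mem_sigma_of_dvd_sigmaCore hs ((hsd.trans ?_).trans ((Cfsg.sigmaCore L').orderOf_dvd_natCard hrL)))
      rw [eq_inv_of_mul_eq_one_left he', orderOf_inv]
  have hpair : (F : Set (Subgroup G)).PairwiseDisjoint tl := by
    intro L hL L' hL' hne
    rw [Function.onFun, Set.disjoint_iff_inter_eq_empty]
    exact tildeOf_disjoint hG (hFm.mp hL).1 (hFm.mp hL').1
      fun g hg => hne ((hFm.mp hL).eq_of_conj hG (hFm.mp hL') hg).symm
  have hcount : N.index * T.ncard + ∑ L ∈ F, (tl L).ncard < Nat.card G := by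
    rw [← hTG]
    have h1 : (TG ∪ ⋃ L ∈ F, tl L).ncard = TG.ncard + ∑ L ∈ F, (tl L).ncard := by
      rw [Set.ncard_union_eq (by simp only [Set.disjoint_iUnion_right]; exact hdis) (Set.toFinite _)
        (Set.toFinite _)]
      congr 1
      exact (Set.Finite.ncard_biUnion F.finite_toSet (fun L _ => Set.toFinite _) hpair).trans
        (finsum_mem_coe_finset _ _)
    rw [← h1]
    exact Set.ncard_lt_card fun hu => hone (hu ▸ Set.mem_univ _)
  -- the union covering `N`
  set y : Subgroup G → ℕ := fun L => Nat.card ↥(Cfsg.sigmaCore L ⊓ N)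
  have hcover : Nat.card N + F.card ≤ T.ncard + 1 + ∑ L ∈ F, y L := by
    set U : Subgroup G → Set G := fun L => ((Cfsg.sigmaCore L ⊓ N : Subgroup G) : Set G) \ {1}
    have hsub : (N : Set G) ⊆ T ∪ {1} ∪ ⋃ L ∈ F, U L := by
      intro x hx
      by_cases hx1 : x = 1
      · exact Or.inl (Or.inr hx1)
      by_cases hxT : ∀ L, IsMember N L → x ∉ Cfsg.sigmaCore L
      · exact Or.inl (Or.inl ⟨hx, hxT⟩)
      push Not at hxT
      obtain ⟨L, hL, hxL⟩ := hxT
      simp only [Set.mem_union, Set.mem_iUnion]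
      exact Or.inr ⟨L, hFm.mpr hL, ⟨hxL, hx⟩, hx1⟩
    have h1 := Set.ncard_le_ncard hsub (Set.toFinite _)
    rw [← Nat.card_coe_set_eq] at h1
    have h2 := h1.trans ((Set.ncard_union_le _ _).trans
      (Nat.add_le_add ((Set.ncard_union_le _ _).trans (by rw [Set.ncard_singleton]))
        (Finset.set_ncard_biUnion_le F U)))
    have hU : ∀ L, (U L).ncard + 1 = y L := fun L => by
      rw [Set.ncard_sdiff_singleton_add_one (one_mem _) (Set.toFinite _), ← Nat.card_coe_set_eq]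
      rfl
    have h3 : ∑ L ∈ F, y L = ∑ L ∈ F, (U L).ncard + F.card := by
      simp only [← hU, Finset.sum_add_distrib, Finset.sum_const, smul_eq_mul, mul_one]
    change Nat.card N ≤ _ at h2
    omega
  -- each class contributes
  have hterm : ∀ L ∈ F, (3 * y L - 1) * Nat.card G ≤ 3 * (tl L).ncard * Nat.card N := by
    intro L hL
    have hm := hFm.mp hL
    have aL := hEL L hm
    set m := Nat.card (Cfsg.sigmaCore L)
    set e := Nat.card (EL L)
    have hL' : Nat.card L = m * e := by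
      show Nat.card L = m * Nat.card (EL L)
      rw [← CfsgLib.Coprime.card_mul_relIndex (sigmaCore_le L), card_compl hG hm.1 aL.compl]
    have hGe : Nat.card G = m * e * L.index := by rw [← hL', Subgroup.card_mul_index]
    have hNe : Nat.card N = y L * e := by
      have hn : EL L ≤ normalizer ((Cfsg.sigmaCore L ⊓ N : Subgroup G) : Set G) :=
        (le_inf (aL.compl.1.trans (le_normalizer_sigmaCore L)) ((hELN L hm).trans le_normalizer)).trans
          inf_normalizer_le_normalizer_inf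
      have hinf : Cfsg.sigmaCore L ⊓ N ⊓ EL L = ⊥ := le_bot_iff.mp (aL.compl.2.2.1 ▸
        le_inf inf_le_right (inf_le_left.trans inf_le_left))
      rw [← CfsgLib.Coprime.card_sup_of_inf_eq_bot hn (by rwa [inf_comm])]
      congr 2
      refine le_antisymm (fun x hx => ?_) (sup_le inf_le_right (hELN L hm))
      obtain ⟨a', ha', b, hb, rfl⟩ := aL.compl.2.2.2 x (hm.2.1 hx)
      exact mul_mem (mem_sup_right ha')
        (mem_sup_left ⟨hb, (Subgroup.mul_mem_cancel_left N (hELN L hm ha')).mp hx⟩)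
    have hdiv : y L ∣ m := card_dvd_of_le inf_le_left
    have hlt : y L < m := by
      refine lt_of_le_of_ne (Nat.le_of_dvd Nat.card_pos hdiv) fun he => ?_
      have hσN : Cfsg.sigmaCore L ≤ N :=
        (eq_of_le_of_card_ge inf_le_left he.ge).ge.trans inf_le_right
      obtain ⟨L', hL', -, -, hnc⟩ := exists_member_of_mem_E hG a (a.exists_prime hG).choose_spec.1
        (a.exists_prime hG).choose_spec.2
      have hLN : L ≤ N := fun x hx => by
        obtain ⟨a', ha', b, hb, rfl⟩ := aL.compl.2.2.2 x hx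
        exact mul_mem (hELN L hm ha') (hσN hb)
      have e1 : M = L := by
        by_contra hne
        exact a.hM.1 (hm.1.2 M (lt_of_le_of_ne (hLN.trans (hub_le hG a)) (Ne.symm hne)))
      have e2 : L' = L := by
        by_contra hne
        exact hL'.1.1 (hm.1.2 L' (lt_of_le_of_ne (hLN.trans hL'.2.1) (Ne.symm hne)))
      exact hnc 1 (by rw [conjMap_eq_self_iff.mpr (one_mem _), e1, e2])
    obtain ⟨k, hk⟩ := hdiv
    have hodd : Odd k := by
      have := minSimple_odd hG (Cfsg.sigmaCore L)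
      rw [show Nat.card (Cfsg.sigmaCore L) = y L * k from hk] at this
      exact (Nat.odd_mul.mp this).2
    have hk3 : 3 ≤ k := by
      rcases hodd with ⟨j, rfl⟩
      rcases Nat.eq_zero_or_pos j with rfl | hj
      · simp at hk; omega
      · omega
    have ht : (tl L).ncard = (m - 1) * L.index := ncard_tildeOf hG hm.1
    rw [ht, hNe, hGe]
    have key : (3 * y L - 1) * m ≤ 3 * (m - 1) * y L := by
      have hy : 1 ≤ y L := Nat.card_pos
      have : 3 * y L ≤ m := by rw [hk, mul_comm 3]; exact Nat.mul_le_mul_left _ hk3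
      zify [show 1 ≤ 3 * y L by omega, show 1 ≤ m from Nat.card_pos]
      nlinarith
    calc (3 * y L - 1) * (m * e * L.index) = ((3 * y L - 1) * m) * (e * L.index) := by ring
      _ ≤ (3 * (m - 1) * y L) * (e * L.index) := Nat.mul_le_mul_right _ key
      _ = _ := by ring
  -- conclude
  have hF2 : 2 ≤ F.card := by
    obtain ⟨g, hg, hgp⟩ := a.exists_prime hG
    obtain ⟨L, hL, -, -, hnc⟩ := exists_member_of_mem_E hG a hg hgp
    refine Finset.one_lt_card.mpr ⟨M, hFm.mpr (member_self hG a), L, hFm.mpr hL, fun e => hnc 1 ?_⟩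
    rw [conjMap_eq_self_iff.mpr (one_mem _), e]
  have hsum : (∑ L ∈ F, (3 * y L - 1)) * Nat.card G ≤ 3 * (∑ L ∈ F, (tl L).ncard) * Nat.card N := by
    rw [Finset.sum_mul, Finset.mul_sum, Finset.sum_mul]
    exact Finset.sum_le_sum hterm
  have hsum' : ∑ L ∈ F, (3 * y L - 1) + F.card = 3 * ∑ L ∈ F, y L := by
    rw [Finset.mul_sum, ← mul_one F.card, ← smul_eq_mul F.card 1, ← Finset.sum_const,
      ← Finset.sum_add_distrib]
    refine Finset.sum_congr rfl fun L _ => ?_
    have : 1 ≤ y L := Nat.card_pos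
    omega
  have hidx : Nat.card N * N.index = Nat.card G := N.card_mul_index
  set S := ∑ L ∈ F, (3 * y L - 1)
  set TS := ∑ L ∈ F, (tl L).ncard
  have hmain : (3 * T.ncard + S) * Nat.card G < 3 * Nat.card N * Nat.card G := by
    calc (3 * T.ncard + S) * Nat.card G
        = 3 * T.ncard * (Nat.card N * N.index) + S * Nat.card G := by rw [hidx]; ring
      _ ≤ 3 * T.ncard * (Nat.card N * N.index) + 3 * TS * Nat.card N := Nat.add_le_add_left hsum _
      _ = 3 * Nat.card N * (N.index * T.ncard + TS) := by ring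
      _ < 3 * Nat.card N * Nat.card G := Nat.mul_lt_mul_of_pos_left hcount (Nat.mul_pos (by omega) Nat.card_pos)
  have hlt := Nat.lt_of_mul_lt_mul_right hmain
  omega

end CfsgLib.BG14
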