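import Cfsg.Agent.Lib.BG14.PDataStar
import Cfsg.Agent.Lib.BG14.Hub

/-!
The partner `M*` of a maximal subgroup with nonempty `κ`.
-/

set_option autoImplicit false
set_option linter.style.haveILetI false
set_option linter.unusedSectionVars false

namespace CfsgLib.BG14

open Subgroup CfsgLib.PLocal CfsgLib.OddLocal CfsgLib.BG
open scoped commutatorElement

universe u
variable {G : Type u} [Group G] [Finite G]

variable (hG : Cfsg.IsMinSimpleOddOrder G)
include hG

variable {M K U E L : Subgroup G}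

theorem normalizer_zpowers_le_of_pinned (hM : IsCoatom M) {z : G} (hz : z ∈ Cfsg.sigmaCore M)
    (hzp : (orderOf z).Prime) (hC : centralizer ({z} : Set G) ≤ M) :
    normalizer (zpowers z : Set G) ≤ M := by
  haveI := Fact.mk hzp
  obtain ⟨-, h⟩ := i1404 hG M hM _
    (mem_sigma_of_dvd_sigmaCore hzp ((Cfsg.sigmaCore M).orderOf_dvd_natCard hz)) (zpowers z)
    (pgroup_zpowers z) (zpowers_ne_bot.mpr (ne_one_of_prime hzp)) (zpowers_le.mpr (sigmaCore_le M hz))
  rw [h]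
  exact sup_le inf_le_left ((centralizer_zpowers_eq z).le.trans hC)

theorem PData.allFix (d : PData M K U E) (hU : U = ⊥) : AllFix M E := by
  have hEK : E = K := by rw [← d.sup_eq hG, hU, bot_sup_eq]
  rw [hEK]
  exact ⟨d.hM, hEK ▸ d.compl, d.fix_ne, d.ne, d.tau, fun g hg hgp => d.fix g hg (ne_one_of_prime hgp),
    d.line⟩

/-- If `U ≠ 1`, then `M_σ` is nilpotent and not centralized by `U`. -/
theorem PData.of_U_ne (d : PData M K U E) (hU : U ≠ ⊥) :
    Group.IsNilpotent (Cfsg.sigmaCore M) ∧ ¬ Cfsg.sigmaCore M ≤ centralizer (U : Set G) := by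
  obtain ⟨u, hu, hup⟩ := exists_prime_element hU
  haveI := Fact.mk hup
  have hσ1 : Cfsg.sigmaCore M ≠ ⊥ := fun e => d.fix_ne (by rw [e, bot_inf_eq])
  have huE : u ∈ E := d.U_le hu
  have hσ : orderOf u ∉ Cfsg.sigma M := d.not_sigma hG huE hup dvd_rfl
  by_cases hr : Cfsg.PRankLE (orderOf u) 1 M
  · have hreg := d.reg u hu hup hr
    refine ⟨isNilpotent_of_fpf_line (p := orderOf u) (card_zpowers_eq rfl)
      ((zpowers_le.mpr (d.U_le_M hG hu)).trans (le_normalizer_sigmaCore M))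
      (by rw [centralizer_zpowers_eq]; exact hreg), fun h => hσ1 ?_⟩
    rw [← le_bot_iff, ← hreg]
    exact le_inf le_rfl (h.trans (centralizer_le_of_mem hu))
  · have hτ : orderOf u ∈ Cfsg.tau2 M := ⟨hup, hσ, prankLE_two_of_not_sigma hG d.hM hσ, hr⟩
    obtain ⟨A, A₀, hAE, hA⟩ := tau2_square hG d.hM d.compl hτ
    have hAU : A ≤ U := fun a ha => d.mem_U_of hG (hAE ha) fun r hrp hrd hK => by
      haveI := Fact.mk hrp
      have hru : r = orderOf u :=
        prime_dvd_pgroup_card hA.sq.isPGroup hrp (hrd.trans (A.orderOf_dvd_natCard ha))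
      obtain ⟨⟨g, hg⟩, hgo⟩ := exists_prime_orderOf_dvd_card' r hK
      rw [Subgroup.orderOf_mk] at hgo
      exact hr (hru ▸ hgo ▸ tau13_prankLE hG d.hM (d.tau g hg (hgo.symm ▸ hrp)))
    obtain ⟨hn, -, -, hC, -⟩ := i1417 hG M d.hM _ hτ A ⟨hA.le, hA.sq.1, hA.sq.2⟩
    refine ⟨hn, fun h => hσ1 ?_⟩
    rw [← le_bot_iff, ← hC]
    exact le_inf le_rfl (h.trans (Subgroup.centralizer_le hAU))

/-- If `U ≠ 1`, then `K` has prime order. -/
theorem PData.prime_card (d : PData M K U E) (hU : U ≠ ⊥) : (Nat.card K).Prime := by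
  obtain ⟨g, hg, hgp⟩ := d.exists_prime hG
  by_contra hK
  refine (d.of_U_ne hG hU).2 (frobenius_two (A := K) (B := zpowers g) hU
    (zpowers_ne_bot.mpr (ne_one_of_prime hgp)) (zpowers_le.mpr hg) ?_ (d.K_le.trans d.normal)
    d.fpf ?_ (isSolvable_of_le_max hG d.hM (sigmaCore_le M)) ?_ ?_)
  · intro e
    rw [← e, Nat.card_zpowers] at hK
    exact hK hgp
  · rw [d.sup_eq hG]
    exact d.compl.1.trans (le_normalizer_sigmaCore M)
  · rw [d.sup_eq hG]
    exact (coprime_sigmaCore hG d.hM fun t ht hd => not_sigma_of_dvd_compl hG d.hM d.compl ht hd).symm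
  · rw [centralizer_zpowers_eq]
    exact d.fix g hg (ne_one_of_prime hgp)

theorem PData.exists_neighbour (d : PData M K U E) {g : G} (hg : g ∈ K) (hgp : (orderOf g).Prime) :
    ∃ L, IsCoatom L ∧ normalizer (zpowers g : Set G) ≤ L ∧ g ∈ Cfsg.sigmaCore L ∧
      centralizer ({g} : Set G) ≤ L ∧ ∀ c : G, L ≠ conjMap c M := by
  obtain ⟨L, hL, hNL⟩ := exists_coatom_normalizer hG (zpowers_ne_bot.mpr (ne_one_of_prime hgp))
    (fun h => d.hM.1 (top_le_iff.mp (h ▸ zpowers_le.mpr (d.K_le_M hG hg))))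
  obtain ⟨h1, -, h2⟩ := d.neighbour hG hg hgp hL hNL
  exact ⟨L, hL, hNL, h1,
    (centralizer_zpowers_eq g).ge.trans ((centralizer_le_normalizer _).trans hNL), h2⟩

/-- The points of `K` in a neighbour are `κ`-elements there. -/
theorem PData.star_dual (d : PData M K U E) {g : G} (hg : g ∈ K) (hgp : (orderOf g).Prime)
    (hL : IsCoatom L) (hgσ : g ∈ Cfsg.sigmaCore L) (hgC : centralizer ({g} : Set G) ≤ L)
    (hnc : ∀ c : G, L ≠ conjMap c M) :
    ∃ K₁ U₁ E₁, PData L K₁ U₁ E₁ ∧ starOf M K ≤ K₁ ∧ g ∈ starOf L K₁ := by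
  have hgc : ∀ z ∈ starOf M K, g * z = z * g := fun z hz => mem_centralizer_iff.mp hz.2 g hg
  have hsL : starOf M K ≤ L := fun z hz =>
    hgC (mem_centralizer_singleton_iff.mpr (hgc z hz).symm)
  have hnc' : ∀ c : G, conjMap c L ≠ M := fun c h => hnc c⁻¹ (by rw [← h, conjMap_inv_conjMap])
  have hπ : ∀ p : ℕ, p.Prime → p ∣ Nat.card (starOf M K) → p ∈ Cfsg.kappa L := by
    intro p hp hd
    haveI := Fact.mk hp
    obtain ⟨⟨z, hz⟩, hzo⟩ := exists_prime_orderOf_dvd_card' p hd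
    rw [Subgroup.orderOf_mk] at hzo
    subst hzo
    have hσ : orderOf z ∉ Cfsg.sigma L := sigma_disjoint hG d.hM hL hnc'
      (mem_sigma_of_dvd_sigmaCore hp (hd.trans (card_dvd_of_le inf_le_left)))
    have hr : Cfsg.PRankLE (orderOf z) 1 L := by
      by_contra h
      obtain ⟨-, hu⟩ := centralizer_tau2_element hG hL (hsL hz) (ne_one_of_prime hp)
        (fun r hr hrd => (Nat.prime_dvd_prime_iff_eq hr hp).mp hrd ▸
          ⟨hp, hσ, prankLE_two_of_not_sigma hG hL hσ, h⟩)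
        hgσ (ne_one_of_prime hgp) (hgc z hz).symm
      exact hnc 1 (by
        rw [conjMap_eq_self_iff.mpr (one_mem _)]
        exact (hu M d.hM (d.point hG hz hp).1).symm)
    refine mem_kappa_of_fix hG hL (hsL hz) hp hσ hr fun hb => ne_one_of_prime hgp ?_
    exact mem_bot.mp (hb ▸ (⟨hgσ, mem_centralizer_singleton_iff.mpr (hgc z hz)⟩ :
      g ∈ Cfsg.sigmaCore L ⊓ centralizer ({z} : Set G)))
  obtain ⟨K₁, hK₁, -, hle⟩ := CfsgLib.Coprime.exists_invariant_hall_ge (A := (⊥ : Subgroup G)) bot_le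
    (by rw [Subgroup.card_bot]; exact Nat.coprime_one_left _) (isSolvable_of_le_max hG hL le_rfl)
    hsL bot_le hπ
  obtain ⟨z, hz, hzp⟩ := d.exists_fixed hG
  obtain ⟨U₁, E₁, d₁⟩ := exists_pdata_of_hall hG hL hK₁ fun e =>
    ne_one_of_prime hzp (mem_bot.mp (e ▸ hle hz))
  exact ⟨K₁, U₁, E₁, d₁, hle, hgσ,
    d₁.fix z (hle hz) (ne_one_of_prime hzp) ⟨hgσ, mem_centralizer_singleton_iff.mpr (hgc z hz)⟩⟩

/-- With one of `U`, `U₁` nontrivial the two fixed-point groups are exchanged. -/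
theorem PData.dual_of (d : PData M K U E) {g : G} (hg : g ∈ K) (hgp : (orderOf g).Prime)
    {K₁ U₁ E₁ : Subgroup G} (d₁ : PData L K₁ U₁ E₁) (hnc : ∀ c : G, L ≠ conjMap c M)
    (hgC : normalizer (zpowers g : Set G) ≤ L) (hle : starOf M K ≤ K₁) (hg₁ : g ∈ starOf L K₁)
    (hone : U ≠ ⊥ ∨ U₁ ≠ ⊥) : starOf M K = K₁ ∧ starOf L K₁ = K := by
  have hnc' : ∀ c : G, conjMap c L ≠ M := fun c h => hnc c⁻¹ (by rw [← h, conjMap_inv_conjMap])
  obtain ⟨z, hz, hzp⟩ := d.exists_fixed hG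
  obtain ⟨hzC, -⟩ := d.point hG hz hzp
  have hs₁M : starOf L K₁ ≤ M := fun s hs =>
    hzC (mem_centralizer_singleton_iff.mpr (mem_centralizer_iff.mp hs.2 z (hle hz)).symm)
  have hσ₁ : ∀ p : ℕ, p.Prime → p ∣ Nat.card (starOf L K₁) → p ∉ Cfsg.sigma M := fun p hp hd hσ =>
    sigma_disjoint hG d.hM d₁.hM hnc' hσ
      (mem_sigma_of_dvd_sigmaCore hp (hd.trans (card_dvd_of_le inf_le_left)))
  by_cases hU : U = ⊥
  · have hU₁ := hone.resolve_left fun h => h hU
    have hK₁ : starOf M K = K₁ := by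
      haveI := Fact.mk (d₁.prime_card hG hU₁)
      rw [← zpowers_eq_of_card_prime (p := Nat.card K₁) rfl (hle hz) (ne_one_of_prime hzp)]
      refine le_antisymm ?_ (zpowers_le.mpr hz)
      rw [zpowers_eq_of_card_prime (p := Nat.card K₁) rfl (hle hz) (ne_one_of_prime hzp)]
      exact hle
    have hEK : E = K := by rw [← d.sup_eq hG, hU, bot_sup_eq]
    have hKle : K ≤ starOf L K₁ := by
      intro x hx
      have hxL : x ∈ L := hgC (d.line g hg hgp hx)
      have hxn : x ∈ L ⊓ normalizer (zpowers z : Set G) := ⟨hxL, centralizer_le_normalizer _ (by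
        rw [centralizer_zpowers_eq]
        exact mem_centralizer_singleton_iff.mpr (mem_centralizer_iff.mp hz.2 x hx))⟩
      rw [d₁.normalizer_inf hG (hle hz) hzp] at hxn
      obtain ⟨k, hk, s, hs, rfl⟩ := (CfsgLib.Coprime.mem_sup_of_le_normalizer
        (show starOf L K₁ ≤ normalizer (K₁ : Set G) from
          inf_le_right.trans (centralizer_le_normalizer _))).mp hxn
      have hkc : Commute k s := mem_centralizer_iff.mp hs.2 k hk
      have hk' : k ∈ starOf M K := hK₁ ▸ hk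
      have hkx : Commute (k * s) k := mem_centralizer_iff.mp hk'.2 _ hx
      suffices hk1 : k = 1 by rw [hk1, one_mul]; exact hs
      have hcop : (orderOf (k * s)).Coprime (orderOf k⁻¹) := coprime_of_forall fun r hr h1 h2 => by
        rw [orderOf_inv] at h2
        exact d.not_sigma hG (d.K_le hx) hr h1 (mem_sigma_of_dvd_sigmaCore hr
          (h2.trans ((Cfsg.sigmaCore M).orderOf_dvd_natCard hk'.1)))
      have ho := hkx.inv_right.orderOf_mul_eq_mul_orderOf_of_coprime hcop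
      rw [show k * s * k⁻¹ = s by rw [hkc.eq, mul_inv_cancel_right]] at ho
      rw [orderOf_inv] at ho
      exact orderOf_eq_one_iff.mp (Nat.eq_one_of_dvd_coprimes
        (coprime_of_forall (m := orderOf s) (n := orderOf k) fun r hr h1 h2 =>
          d₁.not_sigma hG (d₁.K_le hk) hr h2
            (mem_sigma_of_dvd_sigmaCore hr (h1.trans ((Cfsg.sigmaCore L).orderOf_dvd_natCard hs.1))))
        (Dvd.intro_left _ ho.symm) dvd_rfl)
    refine ⟨hK₁, (eq_of_le_of_card_ge hKle ?_).symm⟩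
    obtain ⟨c, -, hc⟩ := exists_conj_le_compl hG d.hM d.compl hs₁M hσ₁
    rw [hEK] at hc
    exact (card_conjMap c (starOf L K₁)) ▸ Subgroup.card_le_of_le hc
  -- `U ≠ 1`
  have hKp := d.prime_card hG hU
  haveI := Fact.mk hKp
  have hKg : zpowers g = K := zpowers_eq_of_card_prime (p := Nat.card K) rfl hg (ne_one_of_prime hgp)
  have hK : starOf L K₁ = K := by
    have hπ : ∀ p : ℕ, p.Prime → p ∣ Nat.card (starOf L K₁) → p ∈ Cfsg.kappa M := by
      intro p hp hd
      haveI := Fact.mk hp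
      obtain ⟨⟨u, hu⟩, huo⟩ := exists_prime_orderOf_dvd_card' p hd
      rw [Subgroup.orderOf_mk] at huo
      subst huo
      have hσ := hσ₁ _ hp hd
      have huz : u * z = z * u := (mem_centralizer_iff.mp hu.2 z (hle hz)).symm
      have hr : Cfsg.PRankLE (orderOf u) 1 M := by
        by_contra h
        obtain ⟨-, huu⟩ := centralizer_tau2_element hG d.hM (hs₁M hu) (ne_one_of_prime hp)
          (fun r hr hrd => (Nat.prime_dvd_prime_iff_eq hr hp).mp hrd ▸
            ⟨hp, hσ, prankLE_two_of_not_sigma hG d.hM hσ, h⟩)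
          hz.1 (ne_one_of_prime hzp) huz
        exact hnc 1 (by
          rw [conjMap_eq_self_iff.mpr (one_mem _)]
          exact huu L d₁.hM (d₁.point hG hu hp).1)
      refine mem_kappa_of_fix hG d.hM (hs₁M hu) hp hσ hr fun hb => ne_one_of_prime hzp ?_
      exact mem_bot.mp (hb ▸ (⟨hz.1, mem_centralizer_singleton_iff.mpr huz.symm⟩ :
        z ∈ Cfsg.sigmaCore M ⊓ centralizer ({u} : Set G)))
    obtain ⟨K₂, hK₂, -, hle₂⟩ := CfsgLib.Coprime.exists_invariant_hall_ge (A := (⊥ : Subgroup G))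
      bot_le (by rw [Subgroup.card_bot]; exact Nat.coprime_one_left _)
      (isSolvable_of_le_max hG d.hM le_rfl) hs₁M bot_le hπ
    refine (eq_of_le_of_card_ge (hKg ▸ zpowers_le.mpr hg₁) ?_).symm
    rw [← CfsgLib.Coprime.card_eq_of_isPiHallOf hK₂ (d.hall hG)]
    exact Subgroup.card_le_of_le hle₂
  refine ⟨le_antisymm hle fun x hx => ?_, hK⟩
  by_cases hU₁ : U₁ = ⊥
  · have hzn : normalizer (zpowers z : Set G) ≤ M :=
      normalizer_zpowers_le_of_pinned hG d.hM hz.1 hzp hzC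
    have hxn : x ∈ M ⊓ normalizer (zpowers g : Set G) :=
      ⟨hzn (d₁.line z (hle hz) hzp hx), centralizer_le_normalizer _ (by
        rw [centralizer_zpowers_eq]
        exact mem_centralizer_singleton_iff.mpr (mem_centralizer_iff.mp hg₁.2 x hx))⟩
    rw [d.normalizer_inf hG hg hgp] at hxn
    obtain ⟨k, hk, s, hs, rfl⟩ := (CfsgLib.Coprime.mem_sup_of_le_normalizer
      (show starOf M K ≤ normalizer (K : Set G) from
        inf_le_right.trans (centralizer_le_normalizer _))).mp hxn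
    have h1 : k ∈ E₁ ⊓ Cfsg.sigmaCore L := by
      refine ⟨?_, (hK.ge hk).1⟩
      have := mul_mem (d₁.K_le hx) (inv_mem (d₁.K_le (hle hs)))
      rwa [mul_inv_cancel_right] at this
    rw [d₁.compl.2.2.1, mem_bot] at h1
    rw [h1, one_mul]
    exact hs
  · haveI := Fact.mk (d₁.prime_card hG hU₁)
    rw [← zpowers_eq_of_card_prime (p := Nat.card K₁) rfl (hle hz) (ne_one_of_prime hzp)] at hx
    exact zpowers_le.mpr hz hx

/-- Existence of the partner. -/
theorem PData.exists_dual (d : PData M K U E) :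
    ∃ L U₁ E₁, PData L (starOf M K) U₁ E₁ ∧ starOf L (starOf M K) = K ∧
      (∀ c : G, L ≠ conjMap c M) ∧ (U ≠ ⊥ ∨ U₁ ≠ ⊥) := by
  by_cases hU : U = ⊥
  · by_contra hno
    refine false_of_allFix_hub hG (d.allFix hG hU) fun L hL _ hnc ⟨g, hgE, hgp, hgσ⟩ => ?_
    have hEK : E = K := by rw [← d.sup_eq hG, hU, bot_sup_eq]
    have hg : g ∈ K := hEK ▸ hgE
    obtain ⟨L', hL', hNL', hgσ', hgC', -⟩ := d.exists_neighbour hG hg hgp
    obtain ⟨c, hc⟩ := exists_conj_of_sigma_inter hG hL' hL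
      (mem_sigma_of_dvd_sigmaCore hgp ((Cfsg.sigmaCore L').orderOf_dvd_natCard hgσ'))
      (mem_sigma_of_dvd_sigmaCore hgp ((Cfsg.sigmaCore L).orderOf_dvd_natCard hgσ))
    obtain ⟨t, ht, htL⟩ := exists_centralizer_conj_of_mem hG hL' hgσ' (ne_one_of_prime hgp)
      (g := c) (hc ▸ sigmaCore_le L hgσ)
    have hLL : L = L' := by
      rw [hc, ← htL]
      exact conjMap_eq_self_iff.mpr (le_normalizer (hgC' ht))
    subst hLL
    obtain ⟨K₁, U₁, E₁, d₁, hle, hg₁⟩ := d.star_dual hG hg hgp hL hgσ' hgC' hnc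
    by_cases hU₁ : U₁ = ⊥
    · exact ⟨E₁, d₁.allFix hG hU₁⟩
    obtain ⟨h1, h2⟩ := d.dual_of hG hg hgp d₁ hnc hNL' hle hg₁ (Or.inr hU₁)
    exact absurd ⟨L, U₁, E₁, h1 ▸ d₁, by rw [h1]; exact h2, hnc, Or.inr hU₁⟩ hno
  · obtain ⟨g, hg, hgp⟩ := d.exists_prime hG
    obtain ⟨L, hL, hNL, hgσ, hgC, hnc⟩ := d.exists_neighbour hG hg hgp
    obtain ⟨K₁, U₁, E₁, d₁, hle, hg₁⟩ := d.star_dual hG hg hgp hL hgσ hgC hnc
    obtain ⟨h1, h2⟩ := d.dual_of hG hg hgp d₁ hnc hNL hle hg₁ (Or.inl hU)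
    exact ⟨L, U₁, E₁, h1 ▸ d₁, by rw [h1]; exact h2, hnc, Or.inl hU⟩

theorem PData.isCyclic_K (d : PData M K U E) : IsCyclic K := by
  rcases d.tau1_or with ⟨h, -⟩ | hU
  · exact h
  obtain ⟨L, U₁, E₁, d₁, h2, -, hone⟩ := d.exists_dual hG
  have hn := (d₁.of_U_ne hG (hone.resolve_left fun h => h hU)).1
  haveI : Group.IsNilpotent K := isNilpotent_of_le hn (h2 ▸ inf_le_left)
  haveI : IsZGroup K := isZGroup_of_prankLE_one hG fun p hp hd => by
    haveI := Fact.mk hp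
    obtain ⟨⟨g, hg⟩, hgo⟩ := exists_prime_orderOf_dvd_card' p hd
    rw [Subgroup.orderOf_mk] at hgo
    exact prankLE_mono (d.K_le_M hG) (hgo ▸ tau13_prankLE hG d.hM (d.tau g hg (hgo.symm ▸ hp)))
  infer_instance

theorem PData.commute_K (d : PData M K U E) {a b : G} (ha : a ∈ K) (hb : b ∈ K) : Commute a b := by
  haveI := d.isCyclic_K hG
  exact congrArg Subtype.val ((IsCyclic.isMulCommutative (α := K)).is_comm.comm ⟨a, ha⟩ ⟨b, hb⟩)

theorem PData.tau1_all (d : PData M K U E) {g : G} (hg : g ∈ K) (hgp : (orderOf g).Prime) :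
    orderOf g ∈ Cfsg.tau1 M := by
  rcases d.tau1_or with ⟨-, h⟩ | hU
  · exact h g hg hgp
  refine (d.tau g hg hgp).resolve_right fun h3 => ne_one_of_prime hgp ?_
  have hEK : E = K := by rw [← d.sup_eq hG, hU, bot_sup_eq]
  have h1 : g ∈ ⁅E, E⁆ := tau3_le_derived hG d.hM d.compl (zpowers_le.mpr (d.K_le hg))
    (primes_zpowers hgp (π := Cfsg.tau3 M) h3) (mem_zpowers g)
  have h2 : ⁅E, E⁆ = ⊥ := by
    rw [hEK, commutator_eq_bot_iff_le_centralizer]
    exact fun a ha => mem_centralizer_iff.mpr fun b hb => (d.commute_K hG hb ha).eq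
  rwa [h2, mem_bot] at h1

theorem PData.U_le_derived (d : PData M K U E) : U ≤ ⁅E, E⁆ := by
  obtain ⟨g, hg, hgp⟩ := d.exists_prime hG
  intro u hu
  have hmem : ∀ v : U, (v : G) * g * (v : G)⁻¹ * g⁻¹ ∈ U := fun v => by
    rw [show (v : G) * g * (v : G)⁻¹ * g⁻¹ = (v : G) * (g * (v : G)⁻¹ * g⁻¹) by group]
    exact mul_mem v.2 ((mem_normalizer_iff.mp (d.normal (d.K_le hg)) _).mp (inv_mem v.2))
  have hinj : Function.Injective fun v : U => (⟨_, hmem v⟩ : U) := by
    intro a b hab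
    have h : (a : G) * g * (a : G)⁻¹ * g⁻¹ = (b : G) * g * (b : G)⁻¹ * g⁻¹ := congrArg Subtype.val hab
    have h' := mul_right_cancel h
    have hc : (b : G)⁻¹ * a ∈ U ⊓ centralizer ({g} : Set G) := by
      refine ⟨Subgroup.mul_mem _ (Subgroup.inv_mem _ b.2) a.2, mem_centralizer_singleton_iff.mpr ?_⟩
      calc (b : G)⁻¹ * a * g = (b : G)⁻¹ * ((a : G) * g * (a : G)⁻¹) * a := by group
        _ = (b : G)⁻¹ * ((b : G) * g * (b : G)⁻¹) * a := by rw [h']
        _ = g * ((b : G)⁻¹ * a) := by group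
    rw [d.fpf g hg (ne_one_of_prime hgp), mem_bot, inv_mul_eq_one] at hc
    exact Subtype.ext hc.symm
  obtain ⟨v, hv⟩ := Finite.surjective_of_injective hinj ⟨u, hu⟩
  have hv' : (v : G) * g * (v : G)⁻¹ * g⁻¹ = u := congrArg Subtype.val hv
  rw [← hv', show (v : G) * g * (v : G)⁻¹ * g⁻¹ = ⁅(v : G), g⁆ from
    (commutatorElement_def _ _).symm]
  exact commutator_mem_commutator (d.U_le v.2) (d.K_le hg)

theorem PData.kappa_eq (d : PData M K U E) : Cfsg.kappa M = Cfsg.tau1 M := by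
  ext p
  rw [d.mem_kappa_iff hG]
  constructor
  · rintro ⟨hp, hd⟩
    haveI := Fact.mk hp
    obtain ⟨⟨g, hg⟩, hgo⟩ := exists_prime_orderOf_dvd_card' p hd
    rw [Subgroup.orderOf_mk] at hgo
    exact hgo ▸ d.tau1_all hG hg (hgo.symm ▸ hp)
  · intro h
    haveI := Fact.mk h.1
    refine ⟨h.1, by_contra fun hK => ?_⟩
    have hE : p ∣ Nat.card E := by
      have h1 := h.2.2.1
      rw [← CfsgLib.Coprime.card_mul_relIndex (sigmaCore_le M), ← card_compl hG d.hM d.compl] at h1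
      exact (h.1.dvd_mul.mp h1).resolve_left fun h' => h.2.1 (mem_sigma_of_dvd_sigmaCore h.1 h')
    rw [d.card_E hG] at hE
    exact h.2.2.2.1 (((h.1.dvd_mul.mp hE).resolve_right hK).trans
      (card_dvd_of_le ((d.U_le_derived hG).trans (commutator_mono d.compl.1 d.compl.1))))

/-- The partner is the only maximal subgroup whose `σ`-core meets `K`. -/
theorem eq_partner {K' : Subgroup G} {U₁ E₁ : Subgroup G} (d₁ : PData L K' U₁ E₁) {g : G}
    (hg : g ∈ starOf L K') (hgp : (orderOf g).Prime) {L' : Subgroup G} (hL' : IsCoatom L')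
    (hg' : g ∈ Cfsg.sigmaCore L') : L' = L := by
  obtain ⟨c, hc⟩ := exists_conj_of_sigma_inter hG d₁.hM hL'
    (mem_sigma_of_dvd_sigmaCore hgp ((Cfsg.sigmaCore L).orderOf_dvd_natCard hg.1))
    (mem_sigma_of_dvd_sigmaCore hgp ((Cfsg.sigmaCore L').orderOf_dvd_natCard hg'))
  rw [hc]
  exact conjMap_eq_self_iff.mpr (le_normalizer
    (d₁.eq_of_mem_conj hG hg (ne_one_of_prime hgp) (hc ▸ sigmaCore_le L' hg')))

end CfsgLib.BG14
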