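import Cfsg.Agent.Lib.BG14.SupportR

/-!
Elements of prime order outside `σ(M)` fixing points of `M_σ`: the basic lemmas.
-/

set_option autoImplicit false
set_option linter.style.haveILetI false
set_option linter.unusedSectionVars false

namespace CfsgLib.BG14

open Subgroup CfsgLib.PLocal CfsgLib.OddLocal CfsgLib.BG
open scoped commutatorElement

universe u
variable {G : Type u} [Group G] [Finite G]

theorem ne_one_of_prime {x : G} (h : (orderOf x).Prime) : x ≠ 1 := fun e =>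
  h.ne_one (by rw [e, orderOf_one])

theorem pgroup_zpowers (x : G) [Fact (orderOf x).Prime] : IsPGroup (orderOf x) (zpowers x) :=
  isPGroup_of_card_prime (card_zpowers_eq rfl)

theorem primes_zpowers {x : G} (h : (orderOf x).Prime) {π : Set ℕ} (hπ : orderOf x ∈ π) :
    ∀ r : ℕ, r.Prime → r ∣ Nat.card (zpowers x) → r ∈ π := fun r hr hd => by
  rw [Nat.card_zpowers] at hd
  rwa [(Nat.prime_dvd_prime_iff_eq hr h).mp hd]

theorem primes_sup_zpowers {a b : G} (ha : (orderOf a).Prime) (hb : (orderOf b).Prime)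
    (hab : Commute a b) {π : Set ℕ} (hπa : orderOf a ∈ π) (hπb : orderOf b ∈ π) :
    ∀ r : ℕ, r.Prime → r ∣ Nat.card ↥(zpowers a ⊔ zpowers b) → r ∈ π := by
  intro r hr hd
  haveI := Fact.mk hr
  obtain ⟨⟨x, hx⟩, hxo⟩ := exists_prime_orderOf_dvd_card' r hd
  rw [Subgroup.orderOf_mk] at hxo
  have hn : zpowers b ≤ normalizer (zpowers a : Set G) :=
    (mem_zpowers_centralizer (mem_centralizer_singleton_iff.mpr hab.symm.eq)).trans
      (centralizer_le_normalizer _)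
  obtain ⟨u, hu, v, hv, rfl⟩ := (CfsgLib.Coprime.mem_sup_of_le_normalizer hn).mp hx
  have huv : Commute u v := by
    obtain ⟨i, rfl⟩ := mem_zpowers_iff.mp hu
    obtain ⟨j, rfl⟩ := mem_zpowers_iff.mp hv
    exact hab.zpow_zpow i j
  have h := huv.orderOf_mul_dvd_mul_orderOf
  rw [hxo] at h
  rcases hr.dvd_mul.mp h with h' | h'
  · exact primes_zpowers ha hπa r hr (h'.trans ((zpowers a).orderOf_dvd_natCard hu))
  · exact primes_zpowers hb hπb r hr (h'.trans ((zpowers b).orderOf_dvd_natCard hv))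

theorem mem_conjMap_self {c x : G} {P : Subgroup G} (h : x ∈ P) (hc : Commute c x) : x ∈ conjMap c P := by
  rw [mem_conjMap, show c⁻¹ * x * c = c⁻¹ * (x * c) by group, ← hc.eq, inv_mul_cancel_left]
  exact h

theorem orderOf_conj' (c x : G) : orderOf (c * x * c⁻¹) = orderOf x :=
  orderOf_injective (MulAut.conj c).toMonoidHom (MulAut.conj c).injective x

theorem centralizer_conj_le {c x : G} {M : Subgroup G} (h : centralizer ({x} : Set G) ≤ M) :
    centralizer ({c * x * c⁻¹} : Set G) ≤ conjMap c M := by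
  rw [centralizer_conj]; exact conjMap_mono h

variable (hG : Cfsg.IsMinSimpleOddOrder G)
include hG

theorem isCoatom_conj {M : Subgroup G} (hM : IsCoatom M) (c : G) : IsCoatom (conjMap c M) :=
  isCoatom_conjMap' hG hM c

theorem exists_compl {M : Subgroup G} (hM : IsCoatom M) :
    ∃ E, Cfsg.IsComplIn E (Cfsg.sigmaCore M) M := by
  obtain ⟨E, hE, -⟩ := exists_compl_ge hG hM (X := ⊥) bot_le fun r hr h => by
    rw [card_bot] at h; exact absurd (Nat.dvd_one.mp h) hr.ne_one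
  exact ⟨E, hE⟩

/-- A noncyclic `σ`-subgroup controls its normalizer. -/
theorem normalizer_le_of_square {M A : Subgroup G} (hM : IsCoatom M) {q : ℕ} [Fact q.Prime]
    (hσ : q ∈ Cfsg.sigma M) (hAM : A ≤ M) (hA : IsSq q A) : normalizer (A : Set G) ≤ M := by
  obtain ⟨E, hE⟩ := exists_compl hG hM
  exact (i1420 hG M hM E hE).2.2.1 q A hσ hA.isPGroup hAM hA.not_isCyclic

/-- A `τ₂`-element fixing a point of `M_σ`. -/
theorem unique_of_tau2 {M : Subgroup G} (hM : IsCoatom M) {x y : G} (hx : x ∈ M)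
    (hxp : (orderOf x).Prime) (hτ : orderOf x ∈ Cfsg.tau2 M) (hy : y ∈ Cfsg.sigmaCore M) (hy1 : y ≠ 1)
    (hc : Commute x y) : centralizer ({x} : Set G) ≤ M ∧
      ∀ L : Subgroup G, IsCoatom L → centralizer ({x} : Set G) ≤ L → L = M := by
  obtain ⟨E, hE⟩ := exists_compl hG hM
  exact (i1420 hG M hM E hE).2.2.2 x hx (ne_one_of_prime hxp) (fun r hr hd => by
    rwa [(Nat.prime_dvd_prime_iff_eq hr hxp).mp hd]) ⟨hx, y, hy, hy1, hc.eq⟩

/-- Maximal subgroups over the centralizer of a `σ`-element conjugate to `M` are equal to it. -/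
theorem eq_of_conj_of_mem {M : Subgroup G} (hM : IsCoatom M) {x : G} (hx : x ∈ Cfsg.sigmaCore M)
    (hx1 : x ≠ 1) {g : G} (hg : x ∈ conjMap g M)
    (hle : centralizer ({x} : Set G) ≤ conjMap g M) : conjMap g M = M := by
  obtain ⟨c, hc, hcM⟩ := exists_centralizer_conj_of_mem hG hM hx hx1 hg
  have hcg : c ∈ conjMap c M := hcM.symm ▸ hle hc
  rw [mem_conjMap] at hcg
  rw [← hcM, conjMap_max_eq_iff hG hM]
  simpa using hcg

/-- No element of prime order in `τ₁ ∪ τ₃` centralizes a noncyclic subgroup of `M_σ`. -/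
theorem false_of_square_fix {M : Subgroup G} (hM : IsCoatom M) {k : G} (hkM : k ∈ M)
    (hk : (orderOf k).Prime) (hkσ : orderOf k ∉ Cfsg.sigma M) (hr : Cfsg.PRankLE (orderOf k) 1 M)
    {q : ℕ} [hq : Fact q.Prime] {A : Subgroup G} (hA : IsSq q A) (hAσ : A ≤ Cfsg.sigmaCore M)
    (hAk : A ≤ centralizer ({k} : Set G)) : False := by
  haveI := Fact.mk hk
  have hkz : IsPGroup (orderOf k) (zpowers k) := pgroup_zpowers k
  obtain ⟨H, hH, hNH⟩ := exists_coatom_normalizer hG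
    (zpowers_ne_bot.mpr (ne_one_of_prime hk)) (fun h => hM.1 (top_le_iff.mp (h ▸ zpowers_le.mpr hkM)))
  have hHM : H ≠ M := fun h => (i1409 hG M hM _ hkσ (zpowers k) (card_zpowers_eq rfl) (h ▸ hNH)).1.2 hr
  have hCH : centralizer ({k} : Set G) ≤ H :=
    (centralizer_zpowers_eq k).ge.trans ((centralizer_le_normalizer _).trans hNH)
  have hkH : k ∈ H := hCH (mem_centralizer_singleton_iff.mpr rfl)
  have hqσ : q ∈ Cfsg.sigma M := mem_sigma_of_dvd_sigmaCore hq.out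
    ((dvd_card_of_pgroup_ne_bot hA.isPGroup hA.ne_bot).trans (card_dvd_of_le hAσ))
  have hAM : A ≤ M := hAσ.trans (sigmaCore_le M)
  have hqH : q ∉ Cfsg.sigma H := fun h => by
    obtain ⟨g, rfl⟩ := exists_conj_of_sigma_inter hG hM hH hqσ h
    exact (i1409 hG _ hH _ (by rwa [sigma_conjMap]) (zpowers k) (card_zpowers_eq rfl) hNH).1.2
      (prankLE_conjMap g hr)
  have hAH : A ≤ H := hAk.trans hCH
  have hτ : q ∈ Cfsg.tau2 H := mem_tau2_of_sq hG hH hqH hAH hA
  obtain ⟨-, -, -, -, hTI, -⟩ := i1417 hG H hH q hτ A ⟨hAH, hA.1, hA.2⟩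
  have hdisj := hTI M hM (Ne.symm hHM) hAM
  have hpH : orderOf k ∉ Cfsg.sigma H := fun h => ne_one_of_prime hk (mem_bot.mp (hdisj ▸
    ⟨mem_sigmaCore_of hG hH hkH fun r hr' hd => (Nat.prime_dvd_prime_iff_eq hr' hk).mp hd ▸ h, hkM⟩))
  obtain ⟨E, hE, hAE⟩ := exists_compl_ge hG hH hAH fun r hr' hd =>
    prime_dvd_pgroup_card hA.isPGroup hr' hd ▸ hqH
  obtain ⟨-, ⟨-, hNE, -⟩, -⟩ := i1418 hG H hH E hE q hτ A ⟨hAE, hA.1, hA.2⟩
  have hEM : E ≤ M := hNE ▸ inf_le_right.trans (normalizer_le_of_square hG hM hqσ hAM hA)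
  have hrk := (i1409 hG H hH _ hpH (zpowers k) (card_zpowers_eq rfl) hNH).1.2
  obtain ⟨B, hBH, hB⟩ := exists_sq_le_of_not_prankLE le_rfl hrk
  obtain ⟨c, -, hcE⟩ := exists_conj_le_compl hG hH hE hBH fun r hr' hd =>
    prime_dvd_pgroup_card hB.isPGroup hr' hd ▸ hpH
  exact (hB.conjMap c).not_prankLE_one (hcE.trans hEM) hr

theorem cyclic_of_fix {M : Subgroup G} (hM : IsCoatom M) {k : G} (hkM : k ∈ M)
    (hk : (orderOf k).Prime) (hkσ : orderOf k ∉ Cfsg.sigma M) (hr : Cfsg.PRankLE (orderOf k) 1 M)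
    {q : ℕ} [Fact q.Prime] {S : Subgroup G} (hS : IsPGroup q S)
    (hSk : S ≤ Cfsg.sigmaCore M ⊓ centralizer ({k} : Set G)) : IsCyclic S := by
  by_contra hnc
  have h1 : S ≠ ⊥ := fun h => hnc (h ▸ inferInstance)
  obtain ⟨A, hAS, hA⟩ := exists_sq_of_not_isCyclic (prime_ne_two_of_pgroup hG hS h1) hS hnc
  exact false_of_square_fix hG hM hkM hk hkσ hr hA ((hAS.trans hSk).trans inf_le_left)
    ((hAS.trans hSk).trans inf_le_right)

/-- An invariant Sylow subgroup around a fixed point, with a complement normalizing it. -/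
theorem exists_around {M : Subgroup G} (hM : IsCoatom M) {k x : G} (hkM : k ∈ M)
    (hk : (orderOf k).Prime) (hkσ : orderOf k ∉ Cfsg.sigma M) (hx : x ∈ Cfsg.sigmaCore M)
    (hxp : (orderOf x).Prime) (hc : Commute k x) :
    ∃ T E, SylowIn (orderOf x) T (Cfsg.sigmaCore M) ∧ x ∈ T ∧
      Cfsg.IsComplIn E (Cfsg.sigmaCore M) M ∧ k ∈ E ∧ E ≤ normalizer (T : Set G) := by
  haveI := Fact.mk hk
  haveI := Fact.mk hxp
  have hπ := primes_zpowers hk (π := {r | r ∉ Cfsg.sigma M}) hkσ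
  have hkz : zpowers k ≤ M := zpowers_le.mpr hkM
  obtain ⟨S, hxS, hSn⟩ := CfsgLib.Coprime.exists_invariant_sylow_ge
    (hkz.trans (le_normalizer_sigmaCore M)) (coprime_sigmaCore hG hM hπ)
    (Or.inl (isSolvable_of_le_max hG hM hkz)) (pgroup_zpowers x) (zpowers_le.mpr hx)
    ((mem_zpowers_centralizer (mem_centralizer_singleton_iff.mpr hc.eq)).trans (centralizer_le_normalizer _))
  obtain ⟨E, hE, hkE, hET⟩ := exists_compl_normalizing hG hM (sylowIn_map S) hkz hπ hSn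
  exact ⟨_, E, sylowIn_map S, hxS (mem_zpowers x), hE, hkE (mem_zpowers k), hET⟩

/-- `E'` centralizes invariant Sylow subgroups at primes outside `β(M)`. -/
theorem derived_compl_fix {M E T : Subgroup G} (hM : IsCoatom M)
    (hE : Cfsg.IsComplIn E (Cfsg.sigmaCore M) M) {q : ℕ} [Fact q.Prime] (hσ : q ∈ Cfsg.sigma M)
    (hβ : q ∉ Cfsg.beta M) (hT : SylowIn q T (Cfsg.sigmaCore M)) (hET : E ≤ normalizer (T : Set G))
    {y : G} (hy : y ∈ ⁅E, E⁆) : y ∈ centralizer (T : Set G) := by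
  have hyE : y ∈ E := derived_le_compl hG hM hy
  refine nonbeta_centralizes hG hM hβ hT.2.1 (hT.1.trans (sigmaCore_le_derived hG hM))
    (commutator_mono hE.1 hE.1 hy) (hET hyE) (coprime_of_forall fun r hr h1 h2 => ?_)
  have hq : q.Prime := Fact.out
  exact not_sigma_of_mem_compl hG hM hE hyE hr h1 ((Nat.prime_dvd_prime_iff_eq hr hq).mp h2 ▸ hσ)

/-- A point fixed by a `τ₁`-element has its centralizer in `M` only. -/
theorem point_unique {M : Subgroup G} (hM : IsCoatom M) {k x : G} (hkM : k ∈ M)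
    (hτ : orderOf k ∈ Cfsg.tau1 M) (hx : x ∈ Cfsg.sigmaCore M) (hxp : (orderOf x).Prime)
    (hc : Commute k x) : centralizer ({x} : Set G) ≤ M ∧
      ∀ L : Subgroup G, IsCoatom L → centralizer ({x} : Set G) ≤ L → L = M := by
  haveI := Fact.mk hxp
  have hqσ : orderOf x ∈ Cfsg.sigma M :=
    mem_sigma_of_dvd_sigmaCore hxp ((Cfsg.sigmaCore M).orderOf_dvd_natCard hx)
  obtain ⟨T, E, hT, hxT, hE, hkE, hET⟩ := exists_around hG hM hkM hτ.1 hτ.2.1 hx hxp hc
  obtain ⟨S, hS⟩ := exists_sylow_map hT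
  have key : orderOf x ∈ Cfsg.beta M ∨ x ∈ ⁅Cfsg.sigmaCore M, Cfsg.sigmaCore M⁆ := by
    by_contra hno
    push Not at hno
    refine hno.2 ((i1426 hG M hM E hE).1 ⟨hx, ?_⟩)
    have hxk : x ∈ Cfsg.sigmaCore M ⊓ centralizer ({k} : Set G) :=
      ⟨hx, mem_centralizer_singleton_iff.mpr hc.symm.eq⟩
    have hfix' : ∀ y ∈ ⁅E, E⁆, y ∈ centralizer ({x} : Set G) := fun y hy =>
      mem_centralizer_singleton_iff.mpr
        (mem_centralizer_iff.mp (derived_compl_fix hG hM hE hqσ hno.1 hT hET hy) x hxT).symm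
    refine mem_centralizer_of_sylows fun r hr hd => ?_
    haveI := Fact.mk hr
    have hσ := not_sigma_of_dvd_compl hG hM hE hr hd
    rcases tau_cases hG hM hr (hd.trans (card_dvd_of_le hE.1)) hσ with h | h | h
    · exfalso
      obtain ⟨A', hA'M, hA'⟩ := exists_sq_le_of_not_prankLE le_rfl h.2.2.2
      obtain ⟨c, -, hcE⟩ := exists_conj_le_compl hG hM hE hA'M fun s hs hsd =>
        prime_dvd_pgroup_card hA'.isPGroup hs hsd ▸ hσ
      set A := conjMap c A'
      have hA : IsSq r A := hA'.conjMap c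
      obtain ⟨⟨hAn, -⟩, -, -⟩ := i1418 hG M hM E hE r h A ⟨hcE, hA.1, hA.2⟩
      obtain ⟨-, -, -, hfix, -, -⟩ := i1417 hG M hM r h A ⟨hcE.trans hE.1, hA.1, hA.2⟩
      have hcop : (Nat.card (zpowers k)).Coprime (Nat.card A) := (coprime_pgroup_of_not_dvd hA.isPGroup (by
        rw [Nat.card_zpowers]
        exact fun hd => h.2.2.2 ((Nat.prime_dvd_prime_iff_eq hr hτ.1).mp hd ▸ hτ.2.2.2.2))).symm
      have hAx : A ≤ centralizer ({x} : Set G) := by
        rw [← CfsgLib.Coprime.commutator_sup_centralizer ((zpowers_le.mpr hkE).trans hAn) hcop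
          (Or.inr (isSolvable_of_le_max hG hM (hcE.trans hE.1))), sup_le_iff]
        refine ⟨fun y hy => hfix' y (commutator_mono hcE (zpowers_le.mpr hkE) hy), fun b hb => ?_⟩
        by_cases hb1 : b = 1
        · rw [hb1]; exact one_mem _
        have hbp : orderOf b = r := by
          refine ((Nat.dvd_prime hr).mp (orderOf_dvd_iff_pow_eq_one.mpr (hA.1.2 b hb.1))).resolve_left ?_
          exact fun h1 => hb1 (orderOf_eq_one_iff.mp h1)
        exact mem_centralizer_comm.mp (tau1_fix hG hM hE hkE (hcE hb.1)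
          (mem_centralizer_iff.mp hb.2 k (mem_zpowers k)) hτ (hbp ▸ hr) hxk)
      refine ne_one_of_prime hxp (mem_bot.mp (hfix ▸ ⟨hx, mem_centralizer_iff.mpr fun a ha => ?_⟩))
      exact mem_centralizer_singleton_iff.mp (hAx ha)
    · obtain ⟨S, hS, hSf⟩ := tau1_sylow_fix hG hM hE hkE hτ h
      exact ⟨S, hS, hSf hxk⟩
    · obtain ⟨S, hS, -⟩ := exists_sylowIn_le (IsPGroup.of_bot (p := r) (G := G)) (bot_le (a := E))
      refine ⟨S, hS, mem_centralizer_iff.mpr fun y hy => ?_⟩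
      exact mem_centralizer_singleton_iff.mp (hfix' y (sylow_tau3_le_derived hG hM hE hS.2.1 hS.1 h hy))
  obtain ⟨hle, -, -⟩ := i1423 hG M hM _ hqσ (zpowers x) (zpowers_le.mpr (sigmaCore_le M hx))
    (card_zpowers_eq rfl) S (key.imp id fun h => zpowers_le.mpr h)
  rwa [centralizer_zpowers_eq] at hle

/-- A point fixed by an element of `τ₁ ∪ τ₃` has its centralizer in `M`. -/
theorem point_le {M : Subgroup G} (hM : IsCoatom M) {k x : G} (hkM : k ∈ M)
    (hk : (orderOf k).Prime) (hτ : orderOf k ∈ Cfsg.tau1 M ∨ orderOf k ∈ Cfsg.tau3 M)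
    (hx : x ∈ Cfsg.sigmaCore M) (hxp : (orderOf x).Prime)
    (hc : Commute k x) : centralizer ({x} : Set G) ≤ M := by
  rcases hτ with hτ | hτ
  · exact (point_unique hG hM hkM hτ hx hxp hc).1
  haveI := Fact.mk hxp
  haveI := Fact.mk hk
  have hqσ : orderOf x ∈ Cfsg.sigma M :=
    mem_sigma_of_dvd_sigmaCore hxp ((Cfsg.sigmaCore M).orderOf_dvd_natCard hx)
  obtain ⟨T, E, hT, hxT, hE, hkE, hET⟩ := exists_around hG hM hkM hk hτ.2.1 hx hxp hc
  by_contra hnot
  by_cases hβ : orderOf x ∈ Cfsg.beta M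
  · obtain ⟨S, hS⟩ := exists_sylow_map hT
    obtain ⟨hle, -, -⟩ := i1423 hG M hM _ hqσ (zpowers x) (zpowers_le.mpr (sigmaCore_le M hx))
      (card_zpowers_eq rfl) S (Or.inl hβ)
    rw [centralizer_zpowers_eq] at hle
    exact hnot hle.1
  have hTk : T ≤ centralizer ({k} : Set G) := fun t ht => mem_centralizer_singleton_iff.mpr
    (mem_centralizer_iff.mp (derived_compl_fix hG hM hE hqσ hβ hT hET
      (sylow_tau3_le_derived hG hM hE (pgroup_zpowers k) (zpowers_le.mpr hkE) hτ (mem_zpowers k))) t ht)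
  have hcyc := cyclic_of_fix hG hM hkM hk hτ.2.1 hτ.2.2.2 hT.2.1 (le_inf hT.1 hTk)
  obtain ⟨L, hL, -, -, hτL, -, -⟩ := exists_support_prime hG hM hx hxp hnot
  obtain ⟨B, hBL, hB⟩ := exists_sq_le_of_not_prankLE le_rfl hτL.2.2.2
  have hTM : SylowIn (orderOf x) T M := ⟨hT.1.trans (sigmaCore_le M), hT.2.1, by
    rw [← relIndex_mul_relIndex _ _ _ hT.1 (sigmaCore_le M)]
    exact fun hd => (hxp.dvd_mul.mp hd).elim hT.2.2 ((sigmaCore_hall hG hM).2.2 _ hxp hqσ)⟩
  obtain ⟨c, -, hcT⟩ := (sylowIn_top hqσ hTM).exists_conj_le hB.isPGroup le_top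
  haveI := hcyc
  exact (hB.conjMap c).not_isCyclic (isCyclic_of_injective (Subgroup.inclusion hcT) (inclusion_injective hcT))

/-- Every point-fixing element of `τ₁ ∪ τ₃` is a `σ`-element of each maximal subgroup over its
normalizer. -/
theorem neighbour {M : Subgroup G} (hM : IsCoatom M) {k z : G} (hkM : k ∈ M) (hk : (orderOf k).Prime)
    (hτ : orderOf k ∈ Cfsg.tau1 M ∨ orderOf k ∈ Cfsg.tau3 M) (hz : z ∈ Cfsg.sigmaCore M)
    (hzp : (orderOf z).Prime) (hc : Commute k z) {L : Subgroup G} (hL : IsCoatom L)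
    (hNL : normalizer (zpowers k : Set G) ≤ L) :
    orderOf k ∈ Cfsg.sigma L ∧ ∀ g : G, L ≠ conjMap g M := by
  haveI := Fact.mk hk
  haveI := Fact.mk hzp
  have hkσ : orderOf k ∉ Cfsg.sigma M := hτ.elim (·.2.1) (·.2.1)
  have hr := tau13_prankLE hG hM hτ
  have hnc : ∀ g : G, L ≠ conjMap g M := fun g hg => by
    subst hg
    exact (i1409 hG _ hL _ (by rwa [sigma_conjMap]) (zpowers k) (card_zpowers_eq rfl) hNL).1.2
      (prankLE_conjMap g hr)
  refine ⟨?_, hnc⟩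
  have hCL : centralizer ({k} : Set G) ≤ L :=
    (centralizer_zpowers_eq k).ge.trans ((centralizer_le_normalizer _).trans hNL)
  have hkk : k ∈ centralizer ({k} : Set G) := mem_centralizer_singleton_iff.mpr rfl
  have hzσ : orderOf z ∈ Cfsg.sigma M :=
    mem_sigma_of_dvd_sigmaCore hzp ((Cfsg.sigmaCore M).orderOf_dvd_natCard hz)
  have hzL : orderOf z ∉ Cfsg.sigma L := fun h =>
    (exists_conj_of_sigma_inter hG hM hL hzσ h).elim fun g hg => hnc g hg
  by_contra hpL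
  obtain ⟨⟨hr2, hr1⟩, hid, B, hB, hBc, hkB⟩ := i1409 hG L hL _ hpL (zpowers k) (card_zpowers_eq rfl) hNL
  have hτL : orderOf k ∈ Cfsg.tau2 L := ⟨hk, hpL, hr2, hr1⟩
  have hBsq : IsSq (orderOf k) B := ⟨hB, hBc⟩
  have hBL : B ≤ L := fun b hb => hCL (mem_centralizer_singleton_iff.mpr
    (congrArg (fun w : B => (w : G)) (hB.1.is_comm.comm ⟨b, hb⟩ ⟨k, hkB (mem_zpowers k)⟩)))
  obtain ⟨P, hP, hBP⟩ := exists_sylowIn_le hBsq.isPGroup (le_top (a := B))
  obtain ⟨H, hH, hNH⟩ := exists_coatom_normalizer hG (X := P)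
    (fun h => hBsq.ne_bot (le_bot_iff.mp (h ▸ hBP))) (fun h => hG.2.2.1 (by
      have hG' : IsPGroup (orderOf k) G := (h ▸ hP.2.1 : IsPGroup _ (⊤ : Subgroup G)).of_equiv topEquiv
      haveI := hG.2.1
      exact ((Subgroup.nontrivial_iff_ne_bot _).mp hG'.center_nontrivial (minSimple_center_eq_bot hG)).elim))
  have hPH : P ≤ H := le_normalizer.trans hNH
  have hpH : orderOf k ∈ Cfsg.sigma H := mem_sigma_of_normalizer_le
    ((dvd_card_of_pgroup_ne_bot hBsq.isPGroup hBsq.ne_bot).trans (card_dvd_of_le (hBP.trans hPH)))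
    ⟨hPH, hP.2.1, fun hd => hP.2.2 (hd.trans (by
      rw [relIndex_top_right]; exact relIndex_dvd_index_of_le hPH))⟩ hNH
  obtain ⟨E, hE, hBE⟩ := exists_compl_ge hG hL hBL fun r hr' hd =>
    prime_dvd_pgroup_card hBsq.isPGroup hr' hd ▸ hpL
  obtain ⟨⟨hBn, -⟩, ⟨-, hNE, -⟩, -⟩ := i1418 hG L hL E hE _ hτL B ⟨hBE, hB, hBc⟩
  have hEH : E ≤ H := hNE ▸ inf_le_right.trans (normalizer_le_of_square hG hH hpH (hBP.trans hPH) hBsq)
  have hzk : z ∈ centralizer ({k} : Set G) := mem_centralizer_singleton_iff.mpr hc.symm.eq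
  obtain ⟨E', hE', hX⟩ := exists_compl_ge hG hL
    (sup_le (zpowers_le.mpr (hCL hkk)) (zpowers_le.mpr (hCL hzk)) : zpowers k ⊔ zpowers z ≤ L)
    (primes_sup_zpowers hk hzp hc (π := {r | r ∉ Cfsg.sigma L}) hpL hzL)
  obtain ⟨c, hcmem, hcE⟩ := compl_conj_centralizer hG hL hE hE' (hkB.trans hBE) (le_sup_left.trans hX)
  set z' := c * z * c⁻¹ with hz'
  have hz'E : z' ∈ E := hcE ▸ conj_mem_conjMap (hX (mem_sup_right (mem_zpowers z)))
  have hz'o : orderOf z' = orderOf z := orderOf_conj' c z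
  haveI : Fact (orderOf z').Prime := ⟨hz'o ▸ hzp⟩
  have hck : Commute c k := (mem_centralizer_iff.mp hcmem.2 k (mem_zpowers k)).symm
  have hz'k : Commute z' k := by
    show z' * k = k * z'
    calc z' * k = c * z * (c⁻¹ * k * c) * c⁻¹ := by rw [hz']; group
      _ = c * z * k * c⁻¹ := by rw [show c⁻¹ * k * c = k by rw [mul_assoc, ← hck.eq, inv_mul_cancel_left]]
      _ = c * (z * k) * c⁻¹ := by group
      _ = c * (k * z) * c⁻¹ := by rw [hc.symm.eq]
      _ = (c * k) * z * c⁻¹ := by group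
      _ = k * z' := by rw [hck.eq, hz']; group
  have hzM := point_le hG hM hkM hk hτ hz hzp hc
  have hz'M : centralizer ({z'} : Set G) ≤ conjMap c M := centralizer_conj_le hzM
  have hqH : orderOf z' ∉ Cfsg.sigma H := fun h => by
    obtain ⟨g, rfl⟩ := exists_conj_of_sigma_inter hG hM hH hzσ (hz'o ▸ h)
    rw [sigma_conjMap] at hpH
    exact hkσ hpH
  have hkH : k ∈ Cfsg.sigmaCore H := mem_sigmaCore_of hG hH (hEH (hBE (hkB (mem_zpowers k))))
    fun r hr' hd => (Nat.prime_dvd_prime_iff_eq hr' hk).mp hd ▸ hpH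
  have hz'H : z' ∈ H := hEH hz'E
  rcases tau_cases hG hH (hz'o ▸ hzp) (H.orderOf_dvd_natCard hz'H) hqH with h | h | h
  · obtain ⟨-, hu⟩ := unique_of_tau2 hG hH hz'H (hz'o ▸ hzp) h hkH (ne_one_of_prime hk) hz'k
    have e := hu _ (isCoatom_conj hG hM c) hz'M
    rw [← e, sigma_conjMap] at hpH
    exact hkσ hpH
  · obtain ⟨-, hu⟩ := point_unique hG hH hz'H h hkH hk hz'k
    exact hpL (hu L hL hCL ▸ hpH)
  · -- `z'` would centralize `B`
    have hBH : B ≤ Cfsg.sigmaCore H := le_sigmaCore_of_pi hG hH (hBP.trans hPH) fun r hr' hd =>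
      prime_dvd_pgroup_card hBsq.isPGroup hr' hd ▸ hpH
    obtain ⟨EH, hEH', hzEH⟩ := exists_compl_ge hG hH (zpowers_le.mpr hz'H)
      (primes_zpowers (hz'o ▸ hzp) (π := {r | r ∉ Cfsg.sigma H}) hqH)
    have hcent : z' ∈ centralizer (B : Set G) := nonbeta_centralizes hG hH (fun hb => hid hb.2)
      hBsq.isPGroup (hBH.trans (sigmaCore_le_derived hG hH))
      (commutator_mono hEH'.1 hEH'.1
        (sylow_tau3_le_derived hG hH hEH' (pgroup_zpowers z') hzEH h (mem_zpowers z')))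
      (hBn hz'E) ((Nat.coprime_primes (hz'o ▸ hzp) hk).mpr fun e => hqH (e.symm ▸ hpH))
    exact false_of_square_fix hG hH hz'H (hz'o ▸ hzp) hqH h.2.2.2 hBsq hBH fun b hb =>
      mem_centralizer_singleton_iff.mpr (mem_centralizer_iff.mp hcent b hb)

/-- No `τ₂`-element commutes with a point-fixing element of `τ₁ ∪ τ₃` at the same point. -/
theorem false_of_mixed {M : Subgroup G} (hM : IsCoatom M) {k b z : G} (hkM : k ∈ M)
    (hk : (orderOf k).Prime) (hτ : orderOf k ∈ Cfsg.tau1 M ∨ orderOf k ∈ Cfsg.tau3 M) (hbM : b ∈ M)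
    (hb : (orderOf b).Prime) (hτb : orderOf b ∈ Cfsg.tau2 M) (hz : z ∈ Cfsg.sigmaCore M)
    (hzp : (orderOf z).Prime) (hkz : Commute k z) (hbz : Commute b z) (hkb : Commute k b) : False := by
  haveI := Fact.mk hk
  haveI := Fact.mk hb
  haveI := Fact.mk hzp
  have hkσ : orderOf k ∉ Cfsg.sigma M := hτ.elim (·.2.1) (·.2.1)
  have hkr := tau13_prankLE hG hM hτ
  obtain ⟨E, hE, hXE⟩ := exists_compl_ge hG hM
    (sup_le (zpowers_le.mpr hkM) (zpowers_le.mpr hbM) : zpowers k ⊔ zpowers b ≤ M)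
    (primes_sup_zpowers hk hb hkb (π := {r | r ∉ Cfsg.sigma M}) hkσ hτb.2.1)
  have hkE : k ∈ E := hXE (mem_sup_left (mem_zpowers k))
  have hbE : b ∈ E := hXE (mem_sup_right (mem_zpowers b))
  obtain ⟨A', hA'M, hA'⟩ := exists_sq_le_of_not_prankLE le_rfl hτb.2.2.2
  obtain ⟨a, -, haE⟩ := exists_conj_le_compl hG hM hE hA'M fun s hs hsd =>
    prime_dvd_pgroup_card hA'.isPGroup hs hsd ▸ hτb.2.1
  set A := conjMap a A'
  have hA : IsSq (orderOf b) A := hA'.conjMap a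
  obtain ⟨⟨hAn, hAall⟩, -, -⟩ := i1418 hG M hM E hE _ hτb A ⟨haE, hA.1, hA.2⟩
  have hbA : b ∈ A := hAall (zpowers b) (zpowers_le.mpr hbE) (card_zpowers_eq rfl) (mem_zpowers b)
  obtain ⟨P, hP, hAP⟩ := exists_sylowIn_le hA.isPGroup (le_top (a := A))
  obtain ⟨L, hL, hNL⟩ := exists_coatom_normalizer hG (X := P)
    (fun h => hA.ne_bot (le_bot_iff.mp (h ▸ hAP))) (fun h => hG.2.2.1 (by
      have hG' : IsPGroup (orderOf b) G := (h ▸ hP.2.1 : IsPGroup _ (⊤ : Subgroup G)).of_equiv topEquiv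
      haveI := hG.2.1
      exact ((Subgroup.nontrivial_iff_ne_bot _).mp hG'.center_nontrivial (minSimple_center_eq_bot hG)).elim))
  have hPL : P ≤ L := le_normalizer.trans hNL
  have hAL : A ≤ L := hAP.trans hPL
  have htL : orderOf b ∈ Cfsg.sigma L := mem_sigma_of_normalizer_le
    ((dvd_card_of_pgroup_ne_bot hA.isPGroup hA.ne_bot).trans (card_dvd_of_le hAL))
    ⟨hPL, hP.2.1, fun hd => hP.2.2 (hd.trans (by
      rw [relIndex_top_right]; exact relIndex_dvd_index_of_le hPL))⟩ hNL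
  have hLM : ∀ g : G, L ≠ conjMap g M := fun g hg => hτb.2.1 (by rw [hg, sigma_conjMap] at htL; exact htL)
  have hne : L ≠ M := fun h => hτb.2.1 (h ▸ htL)
  have hEL : E ≤ L := hAn.trans (normalizer_le_of_square hG hL htL hAL hA)
  obtain ⟨-, -, -, -, hTI, -⟩ := i1417 hG M hM _ hτb A ⟨haE.trans hE.1, hA.1, hA.2⟩
  have hdisj := hTI L hL hne hAL
  have hzL : z ∉ L := fun h => ne_one_of_prime hzp (mem_bot.mp (hdisj ▸ ⟨hz, h⟩))
  have hbσ : b ∈ Cfsg.sigmaCore L := mem_sigmaCore_of hG hL (hEL hbE)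
    fun r hr hd => (Nat.prime_dvd_prime_iff_eq hr hb).mp hd ▸ htL
  have hbnot : ¬ centralizer ({b} : Set G) ≤ L := fun h => hzL (h (mem_centralizer_singleton_iff.mpr hbz.symm.eq))
  have hknot : ¬ centralizer ({k} : Set G) ≤ L := fun h => hzL (h (mem_centralizer_singleton_iff.mpr hkz.symm.eq))
  have hkL : k ∈ L := hEL hkE
  have hpL : orderOf k ∈ Cfsg.sigma L := by
    by_contra h
    rcases tau_cases hG hL hk (L.orderOf_dvd_natCard hkL) h with h' | h'
    · exact hknot (unique_of_tau2 hG hL hkL hk h' hbσ (ne_one_of_prime hb) hkb).1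
    · exact hbnot (point_le hG hL hkL hk h' hbσ hb hkb)
  have hkσL : k ∈ Cfsg.sigmaCore L := mem_sigmaCore_of hG hL hkL
    fun r hr hd => (Nat.prime_dvd_prime_iff_eq hr hk).mp hd ▸ hpL
  obtain ⟨L', hL'⟩ := exists_support hG hL hkσL (ne_one_of_prime hk) hknot
  have hzσ : orderOf z ∈ Cfsg.sigma M :=
    mem_sigma_of_dvd_sigmaCore hzp ((Cfsg.sigmaCore M).orderOf_dvd_natCard hz)
  have hqL' : orderOf z ∉ Cfsg.sigma L' := fun h => by
    obtain ⟨g, rfl⟩ := exists_conj_of_sigma_inter hG hM hL'.hL hzσ h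
    have h2 := tau2_conjMap g⁻¹ (hL'.tau2 _ hk dvd_rfl)
    rw [conjMap_inv_conjMap] at h2
    exact not_tau2_of_prankLE_one hG hM hkr h2
  have hkk : k ∈ centralizer ({k} : Set G) := mem_centralizer_singleton_iff.mpr rfl
  obtain ⟨E₂, hE₂, hX₂⟩ := exists_compl_ge hG hL'.hL
    (sup_le (zpowers_le.mpr (hL'.le hkk))
      (zpowers_le.mpr (hL'.le (mem_centralizer_singleton_iff.mpr hkz.symm.eq))) : zpowers k ⊔ zpowers z ≤ L')
    (primes_sup_zpowers hk hzp hkz (π := {r | r ∉ Cfsg.sigma L'})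
      ((hL'.tau2 _ hk dvd_rfl).2.1) hqL')
  obtain ⟨c, hc, hcE⟩ := compl_conj_centralizer hG hL'.hL hL'.compl hE₂ (X := zpowers k)
    (le_inf (zpowers_le.mpr hkL) (zpowers_le.mpr (hL'.le hkk))) (le_sup_left.trans hX₂)
  set z' := c * z * c⁻¹ with hz'
  have hz'E : z' ∈ L ⊓ L' := hcE ▸ conj_mem_conjMap (hX₂ (mem_sup_right (mem_zpowers z)))
  have hz'o : orderOf z' = orderOf z := orderOf_conj' c z
  have hck : Commute c k := (mem_centralizer_iff.mp hc.2 k (mem_zpowers k)).symm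
  have hz'k : Commute z' k := by
    show z' * k = k * z'
    calc z' * k = c * z * (c⁻¹ * k * c) * c⁻¹ := by rw [hz']; group
      _ = c * z * k * c⁻¹ := by rw [show c⁻¹ * k * c = k by rw [mul_assoc, ← hck.eq, inv_mul_cancel_left]]
      _ = c * (z * k) * c⁻¹ := by group
      _ = c * (k * z) * c⁻¹ := by rw [hkz.eq]
      _ = (c * k) * z * c⁻¹ := by group
      _ = k * z' := by rw [hck.eq, hz']; group
  have hqL : orderOf z' ∉ Cfsg.sigma L := fun h =>
    (exists_conj_of_sigma_inter hG hM hL hzσ (hz'o ▸ h)).elim fun g hg => hLM g hg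
  rcases tau_cases hG hL (hz'o ▸ hzp) (L.orderOf_dvd_natCard hz'E.1) hqL with h | h
  · obtain ⟨-, hu⟩ := unique_of_tau2 hG hL hz'E.1 (hz'o ▸ hzp) h hkσL (ne_one_of_prime hk) hz'k
    exact hLM c (hu _ (isCoatom_conj hG hM c)
      (centralizer_conj_le (point_le hG hM hkM hk hτ hz hzp hkz))).symm
  · exact hknot (point_le hG hL hz'E.1 (hz'o ▸ hzp) h hkσL hk hz'k)

end CfsgLib.BG14
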