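import Cfsg.Agent.Lib.BG14.CoreQ
import Cfsg.Agent.Lib.BG14.SupportP
import Cfsg.Agent.Lib.BG.Tau2Sylow

/-!
Hall subgroups of `M_σ`: centralizers and fusion.
-/

set_option autoImplicit false
set_option linter.style.haveILetI false
set_option linter.unusedSectionVars false

namespace CfsgLib.BG14

open Subgroup CfsgLib.PLocal CfsgLib.OddLocal CfsgLib.BG
open scoped commutatorElement

universe u
variable {G : Type u} [Group G] [Finite G]

theorem isPiHallOf_of_coprime {H N : Subgroup G} (hH : H ≤ N)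
    (hcop : (Nat.card H).Coprime (H.relIndex N)) :
    Cfsg.IsPiHallOf {r | r ∣ Nat.card H} H N :=
  ⟨hH, fun _ _ hd => hd, fun _ hr hd h => hr.ne_one (Nat.eq_one_of_dvd_coprimes hcop hd h)⟩

variable (hG : Cfsg.IsMinSimpleOddOrder G)
include hG

variable {M H : Subgroup G}

/-- A Hall subgroup normal in `M_σ` is normal in `M`. -/
theorem le_normalizer_of_hall_core (hM : IsCoatom M) (hH : H ≤ Cfsg.sigmaCore M)
    (hcop : (Nat.card H).Coprime (H.relIndex (Cfsg.sigmaCore M)))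
    (hn : Cfsg.sigmaCore M ≤ normalizer (H : Set G)) : M ≤ normalizer (H : Set G) := by
  intro m hm
  have hh := isPiHallOf_of_coprime hH hcop
  have hm' := CfsgLib.Coprime.isPiHallOf_map_conj hh (le_normalizer_sigmaCore M hm)
  obtain ⟨c, hc, he⟩ := CfsgLib.Coprime.exists_conj_of_isPiHallOf
    (isSolvable_of_le_max hG hM (sigmaCore_le M)) hh hm'
  rw [← conjMap_eq_self_iff]
  exact he.symm.trans (conjMap_eq_self_iff.mpr (hn hc))

/-- A Hall subgroup of `M_σ` is normal in `M` or normal in a complement of the normal Sylow subgroup. -/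
theorem hall_core_cases (hM : IsCoatom M) (hH : H ≤ Cfsg.sigmaCore M)
    (hcop : (Nat.card H).Coprime (H.relIndex (Cfsg.sigmaCore M))) :
    M ≤ normalizer (H : Set G) ∨
      ∃ Q D : Subgroup G, M ≤ normalizer (Q : Set G) ∧ Cfsg.IsComplIn Q D (Cfsg.sigmaCore M) ∧
        H ≤ D ∧ D ≤ normalizer (H : Set G) := by
  by_cases hnil : Group.IsNilpotent (Cfsg.sigmaCore M)
  · exact Or.inl (le_normalizer_of_hall_core hG hM hH hcop
      (le_normalizer_of_hall_nilpotent hG hnil (isPiHallOf_of_coprime hH hcop)))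
  obtain ⟨p, hp⟩ : (Cfsg.kappa M).Nonempty :=
    Set.nonempty_iff_ne_empty.mpr fun h => hnil (nilpotent_of_kappa_empty hG hM h)
  obtain ⟨K, U, E, d⟩ := exists_of_mem_kappa hG hM hp
  obtain ⟨Q, D, c⟩ := d.exists_coreData hG hnil
  set q := Nat.card (starOf M K)
  haveI := Fact.mk c.q_prime
  have hσQ : Cfsg.sigmaCore M ≤ normalizer (Q : Set G) := (sigmaCore_le M).trans c.Q_normal
  by_cases hqH : q ∣ Nat.card H
  · refine Or.inl (le_normalizer_of_hall_core hG hM hH hcop fun m hm => ?_)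
    -- `Q ≤ H`
    obtain ⟨T, hT, -⟩ := exists_sylowIn_le (IsPGroup.of_bot (p := q) (G := G)) (bot_le (a := H))
    have hTσ : SylowIn q T (Cfsg.sigmaCore M) := ⟨hT.1.trans hH, hT.2.1, fun h => by
      rw [← relIndex_mul_relIndex _ _ _ hT.1 hH] at h
      exact (c.q_prime.dvd_mul.mp h).elim hT.2.2 fun h' =>
        c.q_prime.ne_one (Nat.eq_one_of_dvd_coprimes hcop hqH h')⟩
    obtain ⟨x, hx, he⟩ := hTσ.exists_conj_eq ⟨c.Q_le, c.Q_pgroup, c.Q_hall⟩
    rw [conjMap_eq_self_iff.mpr (hσQ hx)] at he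
    have hQH : Q ≤ H := he.le.trans hT.1
    have hHQ : H ≤ normalizer (Q : Set G) := hH.trans hσQ
    have hdec : ∀ h ∈ H, ∃ a ∈ Q, ∃ b ∈ H ⊓ D, h = a * b := fun h hh => by
      obtain ⟨a, ha, b, hb, rfl⟩ := c.compl.2.2.2 h (hH hh)
      exact ⟨a, ha, b, ⟨(Subgroup.mul_mem_cancel_left H (hQH ha)).mp hh, hb⟩, rfl⟩
    have hsup : Q ⊔ (H ⊓ D) = H := le_antisymm (sup_le hQH inf_le_left) fun h hh => by
      obtain ⟨a, ha, b, hb, rfl⟩ := hdec h hh
      exact mul_mem (mem_sup_left ha) (mem_sup_right hb)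
    have hcH : Nat.card H = Nat.card Q * Nat.card ↥(H ⊓ D) := by
      conv_lhs => rw [← hsup]
      exact CfsgLib.Coprime.card_sup_of_inf_eq_bot (inf_le_left.trans hHQ)
        (le_bot_iff.mp ((inf_le_inf_right _ inf_le_right).trans (inf_comm D Q ▸ c.compl.2.2.1).le))
    have hcσ : Nat.card ↥(Cfsg.sigmaCore M) = Nat.card Q * Nat.card D := by
      rw [← isComplIn_sup c.compl, CfsgLib.Coprime.card_sup_of_inf_eq_bot (c.D_le.trans hσQ)
        (by rw [inf_comm]; exact c.compl.2.2.1)]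
    have hrel : (H ⊓ D).relIndex D = H.relIndex (Cfsg.sigmaCore M) := by
      refine Nat.eq_of_mul_eq_mul_left (Nat.mul_pos (Nat.card_pos (α := Q))
        (Nat.card_pos (α := ↥(H ⊓ D)))) ?_
      rw [mul_assoc, CfsgLib.Coprime.card_mul_relIndex inf_le_right, ← hcH,
        CfsgLib.Coprime.card_mul_relIndex hH, hcσ]
    have hDn : D ≤ normalizer ((H ⊓ D : Subgroup G) : Set G) :=
      le_normalizer_of_hall_nilpotent hG c.D_nilpotent (isPiHallOf_of_coprime inf_le_right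
        (by rw [hrel]; exact hcop.coprime_dvd_left (card_dvd_of_le inf_le_left)))
    obtain ⟨a, ha, b, hb, rfl⟩ := c.compl.2.2.2 m hm
    refine mul_mem (le_normalizer (hQH ha)) ?_
    rw [← conjMap_eq_self_iff]
    conv_lhs => rw [← hsup]
    show Subgroup.map _ _ = _
    rw [Subgroup.map_sup]
    exact (congrArg₂ _ (conjMap_eq_self_iff.mpr (hσQ (c.D_le hb)))
      (conjMap_eq_self_iff.mpr (hDn hb))).trans hsup
  · obtain ⟨D', hD', -, hHD⟩ := CfsgLib.Coprime.exists_invariant_hall_ge (A := (⊥ : Subgroup G))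
      (U := H) (π := {t | t ≠ q}) bot_le (by rw [Subgroup.card_bot]; exact Nat.coprime_one_left _)
      (isSolvable_of_le_max hG hM (sigmaCore_le M)) hH bot_le (fun t _ hd (e : t = q) => hqH (e ▸ hd))
    have hcompl : Cfsg.IsComplIn Q D' (Cfsg.sigmaCore M) := by
      refine ⟨c.Q_le, hD'.1, CfsgLib.Coprime.inf_eq_bot_of_coprime (coprime_of_forall
        fun t ht h1 h2 => hD'.2.1 t ht h2 (prime_dvd_pgroup_card c.Q_pgroup ht h1)), fun m hm => ?_⟩
      have htop : Cfsg.sigmaCore M ≤ Q ⊔ D' := le_of_sylows fun r hr _ => by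
        haveI := Fact.mk hr
        by_cases hrq : r = q
        · exact hrq ▸ ⟨Q, ⟨c.Q_le, c.Q_pgroup, c.Q_hall⟩, le_sup_left⟩
        · obtain ⟨T, hT, -⟩ := exists_sylowIn_le (IsPGroup.of_bot (p := r) (G := G)) (bot_le (a := D'))
          refine ⟨T, ⟨hT.1.trans hD'.1, hT.2.1, ?_⟩, hT.1.trans le_sup_right⟩
          rw [← relIndex_mul_relIndex _ _ _ hT.1 hD'.1]
          exact fun h => (hr.dvd_mul.mp h).elim hT.2.2 (hD'.2.2 r hr hrq)
      obtain ⟨a, ha, b, hb, h⟩ :=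
        (CfsgLib.Coprime.mem_sup_of_le_normalizer (hD'.1.trans hσQ)).mp (htop hm)
      exact ⟨a, ha, b, hb, h.symm⟩
    refine Or.inr ⟨Q, D', c.Q_normal, hcompl, hHD,
      le_normalizer_of_hall_nilpotent hG (c.conj_compl hG hcompl).1 (isPiHallOf_of_coprime hHD ?_)⟩
    exact hcop.coprime_dvd_right ⟨_, (relIndex_mul_relIndex _ _ _ hHD hD'.1).symm⟩

/-- `N_M(H)` controls the fusion in a Hall subgroup `H` of `M_σ`. -/
theorem hall_core_fusion (hM : IsCoatom M) (hH : H ≤ Cfsg.sigmaCore M)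
    (hcop : (Nat.card H).Coprime (H.relIndex (Cfsg.sigmaCore M)))
    {x : G} (hx : x ∈ H) {g : G} (hg : g * x * g⁻¹ ∈ H) :
    ∃ n ∈ M ⊓ normalizer (H : Set G), n * x * n⁻¹ = g * x * g⁻¹ := by
  by_cases hx1 : x = 1
  · exact ⟨1, one_mem _, by rw [hx1]; group⟩
  have hxg : x ∈ conjMap g⁻¹ M := by
    rw [mem_conjMap, inv_inv]
    exact sigmaCore_le M (hH hg)
  obtain ⟨c, hc, he⟩ := exists_centralizer_conj_of_mem hG hM (hH hx) hx1 hxg
  have hgc : conjMap (g * c) M = M := by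
    rw [← conjMap_conjMap, he, conjMap_conjMap, mul_inv_cancel, conjMap_one]
  have hm : g * c ∈ M := (normalizer_eq_max hG hM (fun h => sigmaCore_ne_bot hG hM
    (le_bot_iff.mp (h ▸ sigmaCore_le M))) le_rfl le_normalizer).le (conjMap_eq_self_iff.mp hgc)
  have hxy : g * c * x * (g * c)⁻¹ = g * x * g⁻¹ := by
    calc g * c * x * (g * c)⁻¹ = g * (c * x) * c⁻¹ * g⁻¹ := by group
      _ = g * (x * c) * c⁻¹ * g⁻¹ := by rw [mem_centralizer_singleton_iff.mp hc]
      _ = _ := by group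
  set m := g * c
  rcases hall_core_cases hG hM hH hcop with hn | ⟨Q, D, hQn, hQD, hHD, hDn⟩
  · exact ⟨m, ⟨hm, hn hm⟩, hxy⟩
  -- the Frattini argument
  have hh := isPiHallOf_of_coprime hH hcop
  obtain ⟨s, hs, he'⟩ := CfsgLib.Coprime.exists_conj_of_isPiHallOf
    (isSolvable_of_le_max hG hM (sigmaCore_le M)) hh
    (CfsgLib.Coprime.isPiHallOf_map_conj hh (le_normalizer_sigmaCore M hm))
  have hn₁ : s⁻¹ * m ∈ normalizer (H : Set G) := conjMap_eq_self_iff.mp (by
    rw [← conjMap_conjMap, ← show conjMap s H = conjMap m H from he', conjMap_inv_conjMap])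
  obtain ⟨a, ha, d, hd, had⟩ := hQD.2.2.2 s hs
  have hn₂ : d * (s⁻¹ * m) ∈ M ⊓ normalizer (H : Set G) :=
    ⟨Subgroup.mul_mem _ (sigmaCore_le M (hQD.2.1 hd))
      (Subgroup.mul_mem _ (inv_mem (sigmaCore_le M hs)) hm), mul_mem (hDn hd) hn₁⟩
  set n := d * (s⁻¹ * m)
  refine ⟨n, hn₂, ?_⟩
  have hy : a * (n * x * n⁻¹) * a⁻¹ = g * x * g⁻¹ := by
    rw [← hxy, show n = d * (s⁻¹ * m) from rfl, had]
    group
  have hxn : n * x * n⁻¹ ∈ H := (mem_normalizer_iff.mp hn₂.2 x).mp hx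
  have h1 : g * x * g⁻¹ * (n * x * n⁻¹)⁻¹ ∈ Q ⊓ D := by
    refine ⟨?_, hHD (Subgroup.mul_mem _ hg (Subgroup.inv_mem _ hxn))⟩
    rw [← hy, show a * (n * x * n⁻¹) * a⁻¹ * (n * x * n⁻¹)⁻¹ =
      a * ((n * x * n⁻¹) * a⁻¹ * (n * x * n⁻¹)⁻¹) by group]
    exact Subgroup.mul_mem _ ha ((mem_normalizer_iff.mp (hQn (sigmaCore_le M (hH hxn))) _).mp (inv_mem ha))
  rw [hQD.2.2.1, mem_bot, mul_inv_eq_one] at h1
  exact h1.symm

/-- `C_M(H)` for a Hall subgroup `H ≠ 1` of `M_σ`. -/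
theorem hall_core_centralizer (hM : IsCoatom M) (hH : H ≤ Cfsg.sigmaCore M) (hH1 : H ≠ ⊥)
    (hcop : (Nat.card H).Coprime (H.relIndex (Cfsg.sigmaCore M))) :
    ∃ X : Subgroup G, IsCyclic X ∧ (∀ p : ℕ, p.Prime → p ∣ Nat.card X → p ∈ Cfsg.tau2 M) ∧
      M ⊓ centralizer (H : Set G) = (Cfsg.sigmaCore M ⊓ centralizer (H : Set G)) ⊔ X := by
  set C := M ⊓ centralizer (H : Set G) with hC
  obtain ⟨X, hX, -, -⟩ := CfsgLib.Coprime.exists_invariant_hall_ge (A := (⊥ : Subgroup G))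
    (G := C) (U := (⊥ : Subgroup G)) (π := {t | t ∉ Cfsg.sigma M}) bot_le
    (by rw [Subgroup.card_bot]; exact Nat.coprime_one_left _) (isSolvable_of_le_max hG hM inf_le_left)
    bot_le bot_le (fun t ht h => by rw [Subgroup.card_bot] at h; exact absurd (Nat.dvd_one.mp h) ht.ne_one)
  have hXM : X ≤ M := hX.1.trans inf_le_left
  have hXH : X ≤ centralizer (H : Set G) := hX.1.trans inf_le_right
  obtain ⟨E, hE, hXE⟩ := exists_compl_ge hG hM hXM fun t ht hd => hX.2.1 t ht hd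
  have hτ : ∀ r : ℕ, r.Prime → r ∣ Nat.card X → r ∈ Cfsg.tau2 M := by
    intro r hr hd
    haveI := Fact.mk hr
    obtain ⟨⟨e, he⟩, heo⟩ := exists_prime_orderOf_dvd_card' r hd
    rw [Subgroup.orderOf_mk] at heo
    subst heo
    have hσ := hX.2.1 _ hr hd
    refine ⟨hr, hσ, prankLE_two_of_not_sigma hG hM hσ, fun hr1 => ?_⟩
    have hHe : H ≤ centralizer ({e} : Set G) :=
      (le_centralizer_iff.mp hXH).trans (centralizer_le_of_mem he)
    have hκ := mem_kappa_of_fix hG hM (hXM he) hr hσ hr1 fun hb =>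
      hH1 (le_bot_iff.mp (hb ▸ le_inf hH hHe))
    obtain ⟨K, U, E', d⟩ := exists_of_mem_kappa hG hM hκ
    rw [d.kappa_eq hG] at hκ
    obtain ⟨s, hs, hsd⟩ := Nat.exists_prime_and_dvd (mt card_eq_one.mp hH1)
    haveI := Fact.mk hs
    obtain ⟨T, hT, -⟩ := exists_sylowIn_le (IsPGroup.of_bot (p := s) (G := G)) (bot_le (a := H))
    have hT1 : T ≠ ⊥ := fun h => hT.2.2 (by rw [h, relIndex_bot_left]; exact hsd)
    have hTσ : SylowIn s T (Cfsg.sigmaCore M) := ⟨hT.1.trans hH, hT.2.1, fun h => by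
      rw [← relIndex_mul_relIndex _ _ _ hT.1 hH] at h
      exact (hs.dvd_mul.mp h).elim hT.2.2 fun h' =>
        hs.ne_one (Nat.eq_one_of_dvd_coprimes hcop hsd h')⟩
    exact not_centralizes_sylow hG hM hκ (zpowers_le.mpr (hXM he)) (card_zpowers_eq rfl) hTσ hT1
      (by rw [centralizer_zpowers_eq]; exact hT.1.trans hHe)
  have hrank : ∀ r : ℕ, r.Prime → r ∣ Nat.card X → Cfsg.PRankLE r 1 X := by
    intro r hr hd
    haveI := Fact.mk hr
    by_contra h
    obtain ⟨B, hBX, hB⟩ := exists_sq_le_of_not_prankLE le_rfl h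
    obtain ⟨-, -, -, hCB, -⟩ := i1417 hG M hM r (hτ r hr hd) B ⟨hBX.trans hXM, hB.1, hB.2⟩
    exact hH1 (le_bot_iff.mp (hCB ▸ le_inf hH (le_centralizer_iff.mp (hBX.trans hXH))))
  haveI hXZ : IsZGroup X := isZGroup_of_prankLE_one hG hrank
  have hcyc : ∀ r : ℕ, r.Prime → ∀ P : Subgroup G, P ≤ X → IsPGroup r P → IsCyclic P := by
    intro r hr P hP hPp
    haveI := Fact.mk hr
    by_cases hP1 : P = ⊥
    · subst hP1; infer_instance
    exact isCyclic_of_prankLE_one hG hPp hP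
      (hrank r hr ((dvd_card_of_pgroup_ne_bot hPp hP1).trans (card_dvd_of_le hP)))
  have hD : ⁅X, X⁆ ≤ X := le_normalizer_iff_commutator_le_left.mp le_normalizer
  have hcentral : ∀ x ∈ ⁅X, X⁆, (orderOf x).Prime → X ≤ centralizer ({x} : Set G) := by
    intro x hx hxp
    haveI := Fact.mk hxp
    haveI := isNilpotent_of_le (derived_compl_nilpotent hG hM hE) (commutator_mono hXE hXE)
    haveI : IsZGroup ↥⁅X, X⁆ := isZGroup_of_prankLE_one hG fun r hr hd =>
      prankLE_mono hD (hrank r hr (hd.trans (card_dvd_of_le hD)))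
    haveI : IsCyclic ↥⁅X, X⁆ := inferInstance
    refine le_of_sylows fun s hs hsd => ?_
    haveI := Fact.mk hs
    obtain ⟨S, hS, -⟩ := exists_sylowIn_le (IsPGroup.of_bot (p := s) (G := G)) (bot_le (a := X))
    refine ⟨S, hS, fun e he => mem_centralizer_singleton_iff.mpr ?_⟩
    by_cases hst : s = orderOf x
    · have hn : S ≤ normalizer (zpowers x : Set G) := hS.1.trans
        ((CfsgLib.Comp.FF.le_normalizer_commutator le_normalizer le_normalizer).trans
          (normalizer_le_of_cyclic inferInstance (zpowers_le.mpr hx)))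
      have hp : IsPGroup s ↥(zpowers x ⊔ S) := (isPGroup_of_card_prime
        (card_zpowers_eq hst.symm)).to_sup_of_normal_left' hS.2.1 hn
      haveI := hcyc s hs _ (sup_le (zpowers_le.mpr (hD hx)) hS.1) hp
      exact (commute_of_isMulCommutative (IsCyclic.isMulCommutative (α := ↥(zpowers x ⊔ S)))
        (mem_sup_right he) (mem_sup_left (mem_zpowers x))).eq
    obtain ⟨A, A₀, hAE, hA⟩ := tau2_square hG hM hE (r := orderOf x)
      (hτ _ hxp (X.orderOf_dvd_natCard (hD hx)))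
    obtain ⟨B, B₀, hBE, hB⟩ := tau2_square hG hM hE (r := s) (hτ s hs hsd)
    obtain ⟨S', hS', hSS'⟩ := exists_sylowIn_le hS.2.1 (hS.1.trans hXE)
    obtain ⟨⟨-, hΩ⟩, -, -⟩ := i1418 hG M hM E hE _ (hτ _ hxp (X.orderOf_dvd_natCard (hD hx))) A
      ⟨hAE, hA.sq.1, hA.sq.2⟩
    have hxA : x ∈ A := hΩ _ (zpowers_le.mpr (hXE (hD hx))) (card_zpowers_eq rfl) (mem_zpowers x)
    exact (mem_centralizer_iff.mp
      (hA.centralizes_other hG hM hB (Ne.symm hst) hE hAE hBE hS' (hSS' he)) x hxA).symm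
  have hab : ∀ a b : ↥X, Commute a b := commute_of_central_lines
    (fun p hp P hP => by
      have h := hcyc p hp _ (map_subtype_le P) (hP.map X.subtype)
      exact (P.equivMapOfInjective _ X.subtype_injective).isCyclic.mpr h)
    fun x hx hxp a => by
      refine Subtype.ext (mem_centralizer_singleton_iff.mp (hcentral (x : G) ?_
        (by rwa [Subgroup.orderOf_coe]) a.2))
      rw [← Subgroup.map_subtype_commutator]
      exact ⟨x, hx, rfl⟩
  haveI : IsMulCommutative ↥X := ⟨⟨fun a b => (hab a b).eq⟩⟩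
  haveI : Group.IsNilpotent ↥X := by open scoped IsMulCommutative in exact inferInstance
  refine ⟨X, inferInstance, hτ, le_antisymm (le_of_sylows fun r hr _ => ?_)
    (sup_le (inf_le_inf_right _ (sigmaCore_le M)) hX.1)⟩
  haveI := Fact.mk hr
  by_cases hσ : r ∈ Cfsg.sigma M
  · obtain ⟨T, hT, -⟩ := exists_sylowIn_le (IsPGroup.of_bot (p := r) (G := G)) (bot_le (a := C))
    exact ⟨T, hT, le_sup_of_le_left (le_inf (le_sigmaCore_of_pi hG hM (hT.1.trans inf_le_left)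
      fun t ht hd => (prime_dvd_pgroup_card hT.2.1 ht hd) ▸ hσ) (hT.1.trans inf_le_right))⟩
  · obtain ⟨T, hT, -⟩ := exists_sylowIn_le (IsPGroup.of_bot (p := r) (G := G)) (bot_le (a := X))
    refine ⟨T, ⟨hT.1.trans hX.1, hT.2.1, ?_⟩, hT.1.trans le_sup_right⟩
    rw [← relIndex_mul_relIndex _ _ _ hT.1 hX.1]
    exact fun h => (hr.dvd_mul.mp h).elim hT.2.2 (hX.2.2 r hr hσ)

end CfsgLib.BG14
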