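import Cfsg.Agent.Lib.BG14.OutsideStruct

/-!
The Fitting subgroup of a maximal subgroup.
-/

set_option autoImplicit false
set_option linter.style.haveILetI false
set_option linter.unusedSectionVars false

namespace CfsgLib.BG14

open Subgroup CfsgLib.PLocal CfsgLib.OddLocal CfsgLib.BG
open scoped commutatorElement

universe u
variable {G : Type u} [Group G] [Finite G]

theorem le_fittingOf_of_normal {N M : Subgroup G} (hNM : N ≤ M) (hn : M ≤ normalizer (N : Set G))
    (hnil : Group.IsNilpotent N) : N ≤ Cfsg.fittingOf M := by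
  show N ≤ (Cfsg.fittingSubgroup M).map M.subtype
  rw [← map_subgroupOf_eq_of_le hNM]
  exact map_mono (CfsgLib.Solvable.le_fittingSubgroup
    (CfsgLib.Coprime.normal_subgroupOf_of_le_normalizer hn)
    (Group.nilpotent_of_mulEquiv (subgroupOfEquivOfLe hNM).symm))

/-- `O_{σ(M)'}(F(M))`. -/
def fittingRest (M : Subgroup G) : Subgroup G :=
  Cfsg.piCoreOf {q | q.Prime ∧ q ∉ Cfsg.sigma M} (Cfsg.fittingOf M)

theorem fittingRest_le (M : Subgroup G) : fittingRest M ≤ M :=
  (piCoreOf_le _ _).trans (CfsgLib.OddLocal.fittingOf_le M)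

theorem le_normalizer_fittingRest (M : Subgroup G) : M ≤ normalizer (fittingRest M : Set G) :=
  (le_normalizer_fittingOf M).trans (le_normalizer_piCoreOf _ _)

theorem not_sigma_of_dvd_fittingRest {M : Subgroup G} {p : ℕ} (hp : p.Prime)
    (hd : p ∣ Nat.card (fittingRest M)) : p ∉ Cfsg.sigma M :=
  (piCoreOf_spec _ _ p hp hd).2

theorem fittingRest_isNilpotent (M : Subgroup G) : Group.IsNilpotent (fittingRest M) :=
  isNilpotent_of_le (fittingOf_isNilpotent M) (piCoreOf_le _ _)

variable (hG : Cfsg.IsMinSimpleOddOrder G)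
include hG

theorem sigmaCore_le_centralizer_fittingRest {M : Subgroup G} (hM : IsCoatom M) :
    Cfsg.sigmaCore M ≤ centralizer (fittingRest M : Set G) :=
  le_centralizer_of_normalize ((sigmaCore_le M).trans (le_normalizer_fittingRest M))
    ((fittingRest_le M).trans (le_normalizer_sigmaCore M))
    (CfsgLib.Coprime.inf_eq_bot_of_coprime (coprime_sigmaCore hG hM fun _ hp hd =>
      not_sigma_of_dvd_fittingRest hp hd).symm)

theorem prankLE_fittingRest {M : Subgroup G} (hM : IsCoatom M) {p : ℕ} [Fact p.Prime]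
    (hd : p ∣ Nat.card (fittingRest M)) : Cfsg.PRankLE p 1 (fittingRest M) := by
  by_contra h
  obtain ⟨B, hBY, hB⟩ := exists_sq_le_of_not_prankLE le_rfl h
  have hBM : B ≤ M := hBY.trans (fittingRest_le M)
  have hσ := not_sigma_of_dvd_fittingRest (Fact.out : p.Prime) hd
  obtain ⟨-, -, -, hC, -⟩ := i1417 hG M hM p ⟨Fact.out, hσ, prankLE_two_of_not_sigma hG hM hσ,
    hB.not_prankLE_one hBM⟩ B ⟨hBM, hB.1, hB.2⟩
  refine sigmaCore_ne_bot hG hM (le_bot_iff.mp (hC ▸ le_inf le_rfl ?_))
  exact (sigmaCore_le_centralizer_fittingRest hG hM).trans (Subgroup.centralizer_le hBY)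

theorem isCyclic_fittingRest {M : Subgroup G} (hM : IsCoatom M) : IsCyclic (fittingRest M) := by
  haveI := fittingRest_isNilpotent M
  haveI : IsZGroup (fittingRest M) := isZGroup_of_prankLE_one hG fun p hp hd => by
    haveI := Fact.mk hp
    exact prankLE_fittingRest hG hM hd
  infer_instance

theorem tau2_of_dvd_fittingRest {M : Subgroup G} (hM : IsCoatom M) {p : ℕ} (hp : p.Prime)
    (hd : p ∣ Nat.card (fittingRest M)) : p ∈ Cfsg.tau2 M := by
  haveI := Fact.mk hp
  have hσ := not_sigma_of_dvd_fittingRest hp hd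
  refine ⟨hp, hσ, prankLE_two_of_not_sigma hG hM hσ, fun hr => ?_⟩
  obtain ⟨⟨g, hg⟩, hgo⟩ := exists_prime_orderOf_dvd_card' p hd
  rw [Subgroup.orderOf_mk] at hgo
  subst hgo
  have hgM : g ∈ M := fittingRest_le M hg
  have hg1 : g ≠ 1 := ne_one_of_prime hp
  have hfix : Cfsg.sigmaCore M ≤ centralizer ({g} : Set G) :=
    (sigmaCore_le_centralizer_fittingRest hG hM).trans (centralizer_le_of_mem hg)
  have hκ := mem_kappa_of_fix hG hM hgM hp hσ hr fun hb =>
    sigmaCore_ne_bot hG hM (le_bot_iff.mp (hb ▸ le_inf le_rfl hfix))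
  obtain ⟨K, hK, -, hgK⟩ := CfsgLib.Coprime.exists_invariant_hall_ge (A := (⊥ : Subgroup G)) bot_le
    (by rw [Subgroup.card_bot]; exact Nat.coprime_one_left _) (isSolvable_of_le_max hG hM le_rfl)
    (zpowers_le.mpr hgM) bot_le (primes_zpowers hp hκ)
  have hgK' : g ∈ K := hgK (mem_zpowers g)
  obtain ⟨U, E, d⟩ := exists_pdata_of_hall hG hM hK fun e => hg1 (mem_bot.mp (e ▸ hgK'))
  have hn : M ≤ normalizer (zpowers g : Set G) := (le_normalizer_fittingRest M).trans
    (normalizer_le_of_cyclic (isCyclic_fittingRest hG hM) (zpowers_le.mpr hg))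
  obtain ⟨L, hL, hNL⟩ := exists_coatom_normalizer hG (zpowers_ne_bot.mpr hg1)
    (fun h => hM.1 (top_le_iff.mp (h ▸ zpowers_le.mpr hgM)))
  refine (d.neighbour hG hgK' hp hL hNL).2.2 1 ?_
  rw [conjMap_eq_self_iff.mpr (one_mem _)]
  exact (hM.le_iff.mp (hn.trans hNL)).resolve_left hL.1

theorem fittingOf_eq {M : Subgroup G} (hM : IsCoatom M) :
    Cfsg.fittingOf M = Cfsg.fittingOf (Cfsg.sigmaCore M) ⊔ fittingRest M := by
  have hσn := le_normalizer_sigmaCore M
  refine le_antisymm (le_of_sylows fun r hr _ => ?_)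
    (sup_le (le_fittingOf_of_normal ((fittingOf_le _).trans (sigmaCore_le M)) ?_
      (fittingOf_isNilpotent _)) (piCoreOf_le _ _))
  · haveI := Fact.mk hr
    obtain ⟨T, hT, -⟩ := exists_sylowIn_le (IsPGroup.of_bot (p := r) (G := G))
      (bot_le (a := Cfsg.fittingOf M))
    have hTn : M ≤ normalizer (T : Set G) := (le_normalizer_fittingOf M).trans
      (normalizer_le_normalizer_sylow hG (fittingOf_isNilpotent M) hT)
    refine ⟨T, hT, ?_⟩
    by_cases hσ : r ∈ Cfsg.sigma M
    · refine le_sup_of_le_left (le_fittingOf_of_normal ?_ ((sigmaCore_le M).trans hTn) hT.2.1.isNilpotent)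
      exact le_sigmaCore_of_pi hG hM (hT.1.trans (fittingOf_le M)) fun t ht hd =>
        (prime_dvd_pgroup_card hT.2.1 ht hd) ▸ hσ
    · exact le_sup_of_le_right (le_piCoreOf hT.1 ((fittingOf_le M).trans hTn) fun t ht hd =>
        ⟨ht, (prime_dvd_pgroup_card hT.2.1 ht hd) ▸ hσ⟩)
  · intro x hx
    rw [← conjMap_eq_self_iff]
    have h := conjMap_eq_self_iff.mpr (hσn hx)
    refine eq_of_le_of_card_ge ?_ (card_conjMap x _).ge
    refine le_fittingOf_of_normal ((conjMap_mono (fittingOf_le _)).trans h.le) ?_ ?_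
    · have h' := conjMap_mono (g := x) (le_normalizer_fittingOf (Cfsg.sigmaCore M))
      rwa [h, conjMap_normalizer] at h'
    · exact Group.nilpotent_of_mulEquiv
        (_h := fittingOf_isNilpotent (Cfsg.sigmaCore M))
        (equivMapOfInjective _ (MulAut.conj x).toMonoidHom (MulAut.conj x).injective)

end CfsgLib.BG14
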