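import Cfsg.Agent.Lib.BG14.PartitionSetup

/-!
The sets `σ(M)` of non-conjugate maximal subgroups are disjoint.
-/

set_option autoImplicit false
set_option linter.style.haveILetI false
set_option linter.unusedSectionVars false

namespace CfsgLib.BG14

open Subgroup CfsgLib.PLocal CfsgLib.OddLocal CfsgLib.BG
open scoped commutatorElement

universe u
variable {G : Type u} [Group G] [Finite G]
variable (hG : Cfsg.IsMinSimpleOddOrder G)
include hG

/-- A prime of `α(L)` lies in `σ(M)` only for conjugate `M` and `L`. -/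
theorem exists_conj_of_alpha_sigma {M L : Subgroup G} (hM : IsCoatom M) (hL : IsCoatom L) {r : ℕ}
    (hα : r ∈ Cfsg.alpha L) (hσ : r ∈ Cfsg.sigma M) : ∃ g : G, L = conjMap g M := by
  haveI := Fact.mk hα.1
  obtain ⟨E, hEL, hE, hlt⟩ := not_prankLE_iff.mp hα.2
  obtain ⟨R, hR, -⟩ := exists_sylowIn_le (IsPGroup.of_bot (p := r) (G := G)) (bot_le (a := M))
  obtain ⟨k, -, hk⟩ := (sylowIn_top hσ hR).exists_conj_le (elemAb_isPGroup hE) le_top
  refine ⟨k⁻¹, ?_⟩
  have h := eq_of_not_prankLE hG (not_prankLE_iff.mpr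
    ⟨_, le_rfl, elemAb_map (MulAut.conj k).toMonoidHom hE, by rwa [card_conjMap]⟩)
    hM (hk.trans hR.1) (isCoatom_conjMap' hG hL k) (conjMap_mono hEL)
  rw [← h, conjMap_inv_conjMap]

omit hG in
theorem not_beta_of_not_alpha {M : Subgroup G} {r : ℕ} (h : r ∉ Cfsg.alpha M) : r ∉ Cfsg.beta M :=
  fun h' => h h'.1

/-- A prime element outside `α(M)` centralized away from `M` fixes a subgroup of `M_α` of rank one. -/
theorem rankLE_one_alpha_centralizer {M L : Subgroup G} (hM : IsCoatom M) (hL : IsCoatom L)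
    (hne : L ≠ M) {e : G} (he : e ∈ M) (hs : (orderOf e).Prime) (hα : orderOf e ∉ Cfsg.alpha M)
    (hle : M ⊓ centralizer ({e} : Set G) ≤ L) :
    Cfsg.RankLE 1 ↥(Cfsg.alphaCore M ⊓ centralizer ({e} : Set G)) := by
  by_contra h
  rw [← centralizer_zpowers_eq] at h hle
  have hU := i1406 hG M hM (zpowers e) (zpowers_le.mpr he) (fun q hq hd => by
    rw [Nat.card_zpowers] at hd
    rwa [(Nat.prime_dvd_prime_iff_eq hq hs).mp hd]) h
  exact hne (eq_of_inUniqueMaximal hU hM inf_le_left hL hle)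

/-- The data attached to one of the maximal subgroups and a moving element. -/
structure Side (M T : Subgroup G) (e : G) (q : ℕ) : Prop where
  hq : q.Prime
  hα : q ∈ Cfsg.alpha M
  hu : ∃ u : G, orderOf u = q ∧ u ∈ centralizer ({e} : Set G) ∧
    centralizer ({u} : Set G) ≤ M ∧ normalizer (zpowers u : Set G) ≤ M
  cyc : ∀ S : Subgroup G, IsPGroup q S → S ≤ centralizer ({e} : Set G) → IsCyclic S
  moved : ∃ Q : Subgroup G, SylowIn q Q (Cfsg.alphaCore M) ∧
    T ⊔ zpowers e ≤ normalizer (Q : Set G) ∧ ¬ Q ≤ centralizer (T : Set G)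

variable {p : ℕ} [hp : Fact p.Prime] {M N T : Subgroup G}

omit hG in
theorem alphaCore_le (M : Subgroup G) : Cfsg.alphaCore M ≤ M := map_subtype_le _

omit hG in
theorem le_normalizer_alphaCore (M : Subgroup G) : M ≤ normalizer (Cfsg.alphaCore M : Set G) :=
  le_normalizer.trans (le_normalizer_piCoreOf (Cfsg.alpha M) M)

theorem le_alphaCore (hM : IsCoatom M) {X : Subgroup G} (hX : X ≤ M) {q : ℕ} [hq : Fact q.Prime]
    (hXq : IsPGroup q X) (hα : q ∈ Cfsg.alpha M) : X ≤ Cfsg.alphaCore M := by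
  intro x hx
  refine CfsgLib.Solvable.mem_of_coprime_relIndex
    ((normal_subgroupOf_iff_le_normalizer (alphaCore_le M)).mpr (le_normalizer_alphaCore M)) (hX hx)
    (coprime_of_forall fun s hs h1 h2 => ?_)
  obtain rfl : s = q := prime_dvd_pgroup_card hXq hs (h1.trans (X.orderOf_dvd_natCard hx))
  exact (i1405 hG M hM).1.2.2 s hs hα h2

theorem Common.moves_alphaCore (c : Common p M N T) : ¬ Cfsg.alphaCore M ≤ centralizer (T : Set G) := by
  intro h
  obtain ⟨hβ, -, ⟨H0, hH0, hnil⟩, -, -⟩ := i1414 hG M c.hM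
  set D := ⁅M, M⁆ with hD
  have hDM : D ≤ M := derived_ne_top' hG c.hM
  have hTD : T ≤ D := (c.le_core hG).trans (sigmaCore_le_derived hG c.hM)
  -- a nilpotent Hall subgroup containing `T`
  obtain ⟨H, hH, -, hTH⟩ := CfsgLib.Coprime.exists_invariant_hall_ge (A := (⊥ : Subgroup G))
    (G := D) (U := T) (π := {q | q.Prime ∧ q ∉ Cfsg.beta M}) bot_le (by simp)
    (isSolvable_of_le_max hG c.hM hDM) hTD bot_le (fun r hr hd => by
      obtain rfl := prime_dvd_pgroup_card c.hT.2.1 hr hd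
      exact ⟨hp.out, c.not_beta hG⟩)
  obtain ⟨a, -, haH⟩ := CfsgLib.Coprime.exists_conj_of_isPiHallOf
    (isSolvable_of_le_max hG c.hM hDM) hH0 hH
  have hHnil : Group.IsNilpotent H := by
    haveI := hnil
    rw [← haH]
    exact Group.nilpotent_of_mulEquiv (H0.equivMapOfInjective _ (MulAut.conj a).injective)
  have hTHs : Cfsg.IsPiHallOf {p} T H := by
    refine ⟨hTH, fun r hr hd => prime_dvd_pgroup_card c.hT.2.1 hr hd, fun r hr hrp hd => ?_⟩
    rw [Set.mem_singleton_iff] at hrp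
    subst hrp
    exact c.hT.2.2 (hd.trans ⟨_, (relIndex_mul_relIndex _ _ _ hTH (hH.1.trans hDM)).symm⟩)
  have hHn : H ≤ normalizer (T : Set G) := le_normalizer_of_hall_nilpotent hG hHnil hTHs
  set Mb := Cfsg.piCoreOf (Cfsg.beta M) M with hMb
  have hMbα : Mb ≤ Cfsg.alphaCore M := le_piCoreOf (piCoreOf_le _ _)
    (le_normalizer.trans (le_normalizer_piCoreOf (Cfsg.beta M) M))
    fun r hr hd => ((piCoreOf_spec (Cfsg.beta M) M) r hr hd).1
  have hMbD : Mb ≤ D := hMbα.trans ((alphaCore_le_sigmaCore hG c.hM).trans (sigmaCore_le_derived hG c.hM))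
  have hMbn : Mb ≤ normalizer (T : Set G) := (hMbα.trans h).trans (centralizer_le_normalizer _)
  have hDn : D ≤ normalizer (T : Set G) := by
    rw [← relIndex_eq_one, ← inf_relIndex_right]
    by_contra hne
    obtain ⟨r, hr, hd⟩ := Nat.exists_prime_and_dvd hne
    by_cases hrβ : r ∈ Cfsg.beta M
    · refine hβ.2.2 r hr hrβ ?_
      refine (hd.trans (relIndex_dvd_of_le_left D (le_inf hMbn hMbD))).trans ?_
      exact ⟨_, (relIndex_mul_relIndex _ _ _ hMbD hDM).symm⟩
    · exact hH.2.2 r hr ⟨hr, hrβ⟩ (hd.trans (relIndex_dvd_of_le_left D (le_inf hHn hH.1)))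
  have hn : M ≤ normalizer (T : Set G) := by
    intro m hm
    rw [← conjMap_eq_self_iff]
    refine Subgroup.eq_of_le_of_card_ge (fun x hx => ?_) (by rw [card_conjMap])
    have hxD : x ∈ D := by
      have h1 : conjMap m T ≤ conjMap m D := conjMap_mono hTD
      have h2 : conjMap m D = D := by
        show D.map _ = D
        rw [hD, Subgroup.map_commutator, CfsgLib.Coprime.map_conj_of_mem_normalizer (le_normalizer hm)]
      exact h2 ▸ h1 hx
    refine CfsgLib.Solvable.mem_of_coprime_relIndex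
      ((normal_subgroupOf_iff_le_normalizer hTD).mpr hDn) hxD ?_
    refine coprime_of_forall fun r hr h1 h2 => ?_
    obtain rfl : r = p := prime_dvd_pgroup_card (c.hT.2.1.map (MulAut.conj m).toMonoidHom) hr
      (h1.trans ((conjMap m T).orderOf_dvd_natCard hx))
    exact c.hT.2.2 (h2.trans ⟨_, (relIndex_mul_relIndex _ _ _ hTD hDM).symm⟩)
  have hle : M ≤ N := hn.trans (c.symm.normalizer_le hG)
  rcases eq_or_lt_of_le hle with h1 | h1
  · exact c.ne h1.symm
  · exact c.hN.1 (c.hM.2 N h1)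

theorem Common.exists_side (c : Common p M N T) {e : G} (heM : e ∈ M)
    (heT : e ∈ normalizer (T : Set G)) (hs : (orderOf e).Prime) (hσ : orderOf e ∉ Cfsg.sigma M)
    (hmove : e ∉ centralizer (T : Set G)) : ∃ q, Side M T e q := by
  haveI := Fact.mk hs
  obtain ⟨hτ, hfp⟩ := c.tau1_of_moves hG heM heT hs hσ hmove
  have hsα : orderOf e ∉ Cfsg.alpha M := fun h => hσ (mem_sigma_of_mem_alpha hG c.hM h)
  have hX : T ⊔ zpowers e ≤ M := sup_le c.hT.1 (zpowers_le.mpr heM)
  have hXn : T ⊔ zpowers e ≤ normalizer (Cfsg.alphaCore M : Set G) := hX.trans (le_normalizer_alphaCore M)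
  have hinf : T ⊓ zpowers e = ⊥ := CfsgLib.Coprime.inf_eq_bot_of_coprime
    (coprime_pgroup_of_not_dvd c.hT.2.1 (by
      rw [Nat.card_zpowers]
      exact fun h => hσ ((Nat.prime_dvd_prime_iff_eq hp.out hs).mp h ▸ c.hσM)))
  have hcardX : Nat.card ↥(T ⊔ zpowers e) = Nat.card T * orderOf e := by
    rw [CfsgLib.Coprime.card_sup_of_inf_eq_bot (zpowers_le.mpr heT) (by rwa [inf_comm]), Nat.card_zpowers]
  have hcop : (Nat.card ↥(T ⊔ zpowers e)).Coprime (Nat.card (Cfsg.alphaCore M)) := by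
    refine coprime_of_forall fun r hr h1 h2 => ?_
    have hα := (i1405 hG M c.hM).1.2.1 r hr h2
    rw [hcardX] at h1
    rcases hr.dvd_mul.mp h1 with h | h
    · exact c.not_alpha hG (prime_dvd_pgroup_card c.hT.2.1 hr h ▸ hα)
    · exact hsα ((Nat.prime_dvd_prime_iff_eq hr hs).mp h ▸ hα)
  have hsol := isSolvable_of_le_max hG c.hM (alphaCore_le M)
  obtain ⟨q, hq, Q, hQ, hQn, hQT⟩ : ∃ q, q.Prime ∧ ∃ Q, SylowIn q Q (Cfsg.alphaCore M) ∧
      T ⊔ zpowers e ≤ normalizer (Q : Set G) ∧ ¬ Q ≤ centralizer (T : Set G) := by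
    by_contra hno
    push Not at hno
    refine c.moves_alphaCore hG (le_of_sylows fun q hq _ => ?_)
    haveI := Fact.mk hq
    obtain ⟨Q, hQ, hQn⟩ := exists_invariant_sylowIn hXn hcop (Or.inr hsol) q
    exact ⟨Q, hQ, hno q hq Q hQ hQn⟩
  haveI := Fact.mk hq
  have hQ1 : Q ≠ ⊥ := fun h => hQT (h ▸ bot_le)
  have hqα : q ∈ Cfsg.alpha M := (i1405 hG M c.hM).1.2.1 q hq
    ((dvd_card_of_pgroup_ne_bot hQ.2.1 hQ1).trans (card_dvd_of_le hQ.1))
  have hqp : q ≠ p := fun h => c.not_alpha hG (h ▸ hqα)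
  have hqσ : q ∈ Cfsg.sigma M := mem_sigma_of_mem_alpha hG c.hM hqα
  have hQM : Q ≤ M := hQ.1.trans (alphaCore_le M)
  have hQD : Q ≤ ⁅M, M⁆ := hQ.1.trans
    ((alphaCore_le_sigmaCore hG c.hM).trans (sigmaCore_le_derived hG c.hM))
  have hqβ : q ∈ Cfsg.beta M := by
    by_contra hβ
    refine hQT (le_centralizer_iff.mp fun t ht => nonbeta_centralizes hG c.hM hβ hQ.2.1 hQD
      ((c.le_core hG).trans (sigmaCore_le_derived hG c.hM) ht) (hQn (mem_sup_left ht)) ?_)
    obtain ⟨j, hj⟩ := IsPGroup.iff_orderOf.mp c.hT.2.1 ⟨t, ht⟩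
    rw [Subgroup.orderOf_mk] at hj
    rw [hj]
    exact ((Nat.coprime_primes hp.out hq).mpr hqp.symm).pow_left j
  -- a fixed point of prime order
  have hne : Q ⊓ centralizer ({e} : Set G) ≠ ⊥ := fun h => hQT (frobenius_fixed (E := zpowers e)
    (c.ne_bot hG) (by simpa using fun h : e = 1 => hs.ne_one (by rw [h, orderOf_one]))
    (zpowers_le.mpr heT) (fun a ha ha1 => by
      have hz : zpowers a = zpowers e := zpowers_eq_of_card_prime (p := orderOf e) (card_zpowers_eq rfl) ha ha1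
      rw [← centralizer_zpowers_eq, hz, centralizer_zpowers_eq]; exact hfp)
    hQn (isSolvable_of_le_max hG c.hM hQM)
    ((hcop.coprime_dvd_right (card_dvd_of_le hQ.1)).symm)
    (by rw [centralizer_zpowers_eq, h]; exact bot_le))
  obtain ⟨u, hu, hup⟩ := exists_prime_element hne
  have huq : orderOf u = q := prime_dvd_pgroup_card hQ.2.1 hup (Q.orderOf_dvd_natCard hu.1)
  have huM : u ∈ M := hQM hu.1
  obtain ⟨Ps⟩ : Nonempty (Sylow q (Cfsg.sigmaCore M)) := inferInstance
  obtain ⟨⟨hCu, -⟩, -, -⟩ := i1423 hG M c.hM q hqσ (zpowers u) (zpowers_le.mpr huM)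
    (card_zpowers_eq huq) Ps (Or.inl hqβ)
  have hNu : normalizer (zpowers u : Set G) ≤ M := by
    obtain ⟨-, h⟩ := i1404 hG M c.hM q hqσ (zpowers u) (isPGroup_of_card_prime (card_zpowers_eq huq))
      (zpowers_ne_bot.mpr fun h => hup.ne_one (by rw [h, orderOf_one])) (zpowers_le.mpr huM)
    rw [h]
    exact sup_le inf_le_left hCu
  -- the other maximal subgroup over `e`
  obtain ⟨L, hL, hNL⟩ := exists_coatom_normalizer hG (X := zpowers e)
    (zpowers_ne_bot.mpr fun h => hs.ne_one (by rw [h, orderOf_one]))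
    (fun h => c.hM.1 (top_le_iff.mp (h ▸ zpowers_le.mpr heM)))
  have hLM : L ≠ M := fun h => (i1409 hG M c.hM (orderOf e) hσ (zpowers e) (card_zpowers_eq rfl)
    (h ▸ hNL)).1.2 hτ.2.2.2.2
  have hCL : centralizer ({e} : Set G) ≤ L :=
    (centralizer_zpowers_eq e).ge.trans ((centralizer_le_normalizer _).trans hNL)
  have hrank := rankLE_one_alpha_centralizer hG c.hM hL hLM heM hs hsα (inf_le_right.trans hCL)
  rw [centralizer_zpowers_eq] at hCu
  refine ⟨q, hq, hqα, ⟨u, huq, hu.2, hCu, hNu⟩, fun S hS hSC => ?_, Q, hQ, hQn, hQT⟩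
  have hcycM : ∀ S : Subgroup G, IsPGroup q S → S ≤ centralizer ({e} : Set G) → S ≤ M → IsCyclic S :=
    fun S hS hSC hSM => isCyclic_of_prankLE_one hG hS (le_inf (le_alphaCore hG c.hM hSM hS hqα) hSC)
      (hrank q hq)
  obtain ⟨Tq, hTq, huT⟩ := exists_sylowIn_le (H := centralizer ({e} : Set G))
    (isPGroup_of_card_prime (card_zpowers_eq huq)) (zpowers_le.mpr hu.2)
  have hTqM : Tq ≤ M := by
    by_contra h
    have hlt : Tq ⊓ M < Tq := lt_of_le_of_ne inf_le_left fun e' => h (e' ▸ inf_le_right)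
    have hgrow := card_lt_card_inf_normalizer hTq.2.1 hlt
    have hcyc0 := hcycM _ (hTq.2.1.to_le inf_le_left) (inf_le_left.trans hTq.1) inf_le_right
    have hle : Tq ⊓ normalizer ((Tq ⊓ M : Subgroup G) : Set G) ≤ Tq ⊓ M :=
      inf_le_inf_left Tq ((normalizer_le_of_cyclic hcyc0
        (le_inf huT (zpowers_le.mpr huM))).trans hNu)
    exact absurd (card_le_of_le hle) (not_le.mpr hgrow)
  have hcycT := hcycM Tq hTq.2.1 hTq.1 hTqM
  obtain ⟨k, -, hk⟩ := hTq.exists_conj_le hS hSC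
  haveI : IsCyclic (conjMap k S) := isCyclic_of_injective (Subgroup.inclusion hk) (inclusion_injective hk)
  exact (S.equivMapOfInjective _ (MulAut.conj k).injective).isCyclic.mpr this

theorem Common.clash (c : Common p M N T) {e : G} (heM : e ∈ M) (heT : e ∈ normalizer (T : Set G))
    (hs : (orderOf e).Prime) (hσ : orderOf e ∉ Cfsg.sigma M) (hσN : orderOf e ∉ Cfsg.sigma N)
    (hmove : e ∉ centralizer (T : Set G)) {q r : ℕ} (dM : Side M T e q) (dN : Side N T e r)
    (hrq : r < q) : False := by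
  haveI := Fact.mk dM.hq
  haveI := Fact.mk dN.hq
  haveI := Fact.mk hs
  obtain ⟨hτ, hfp⟩ := c.tau1_of_moves hG heM heT hs hσ hmove
  obtain ⟨u, huq, huC, -, huN⟩ := dM.hu
  obtain ⟨w, hwr, hwC, hwN, -⟩ := dN.hu
  set C := centralizer ({e} : Set G) with hC
  have he1 : e ≠ 1 := fun h => hs.ne_one (by rw [h, orderOf_one])
  have hCtop : C ≠ ⊤ := minSimple_centralizer_singleton_ne_top hG he1
  obtain ⟨D, hD, -, huD⟩ := CfsgLib.Coprime.exists_invariant_hall_ge (A := (⊥ : Subgroup G))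
    (G := C) (U := zpowers u) (π := {s | s = q ∨ s = r}) bot_le (by simp)
    (minSimple_isSolvable hG hCtop) (zpowers_le.mpr huC) bot_le (fun s hs' hd => by
      rw [Nat.card_zpowers, huq] at hd
      exact Or.inl ((Nat.prime_dvd_prime_iff_eq hs' dM.hq).mp hd))
  have hrD : r ∣ Nat.card D := by
    have h : r ∣ Nat.card C := hwr ▸ C.orderOf_dvd_natCard hwC
    rw [← CfsgLib.Coprime.card_mul_relIndex hD.1] at h
    exact (dN.hq.dvd_mul.mp h).resolve_right (hD.2.2 r dN.hq (Or.inr rfl))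
  have hDn : D ≤ normalizer (zpowers u : Set G) := le_normalizer_of_two_primes hrq
    (fun s hs' hd => hD.2.1 s hs' hd) hrD (fun S hS hSD => dM.cyc S hS (hSD.trans hD.1))
    (fun S hS hSD => dN.cyc S hS (hSD.trans hD.1)) huD (isPGroup_of_card_prime (card_zpowers_eq huq))
  obtain ⟨⟨w', hw'D⟩, hw'o⟩ := exists_prime_orderOf_dvd_card' r hrD
  rw [Subgroup.orderOf_mk] at hw'o
  have hw'C : w' ∈ C := hD.1 hw'D
  have hw'M : w' ∈ M := huN (hDn hw'D)
  obtain ⟨k, hkC, hk⟩ := exists_conj_of_cyclic_sylow (K := C) (fun S hS hSC => dN.cyc S hS hSC)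
    (zpowers_le.mpr hwC) (zpowers_le.mpr hw'C) (card_zpowers_eq hwr) (card_zpowers_eq hw'o)
  set N' := conjMap k N
  have hN' : IsCoatom N' := isCoatom_conjMap' hG c.hN k
  have hN'M : N' ≠ M := fun h => c.symm.hne k h.symm
  have hw'N' : centralizer ({w'} : Set G) ≤ N' := by
    intro x hx
    rw [← centralizer_zpowers_eq, ← hk] at hx
    rw [show N' = conjMap k N from rfl, mem_conjMap]
    refine hwN ?_
    rw [← centralizer_zpowers_eq, mem_centralizer_iff]
    intro z hz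
    have h := mem_centralizer_iff.mp hx (k * z * k⁻¹) (conj_mem_conjMap hz)
    calc z * (k⁻¹ * x * k) = k⁻¹ * ((k * z * k⁻¹) * x) * k := by group
      _ = k⁻¹ * (x * (k * z * k⁻¹)) * k := by rw [h]
      _ = k⁻¹ * x * k * z := by group
  -- `r ∉ σ(M)`
  have hrσ : r ∉ Cfsg.sigma M := fun h =>
    (exists_conj_of_alpha_sigma hG c.hM c.hN dN.hα h).elim fun g hg => c.hne g hg
  have hrσN : r ∈ Cfsg.sigma N := mem_sigma_of_mem_alpha hG c.hN dN.hα
  have hse : orderOf e ≠ r := fun h => hσN (h ▸ hrσN)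
  have hew : e * w' = w' * e := (mem_centralizer_singleton_iff.mp hw'C).symm
  -- a complement normalizing `T` around `e`
  obtain ⟨E, hE, heE, hET⟩ := c.exists_compl hG (zpowers_le.mpr heM) (fun s hs' hd => by
    rw [Nat.card_zpowers] at hd
    rwa [(Nat.prime_dvd_prime_iff_eq hs' hs).mp hd]) (zpowers_le.mpr heT)
  have hXM : zpowers e ⊔ zpowers w' ≤ M := sup_le (zpowers_le.mpr heM) (zpowers_le.mpr hw'M)
  have hXπ : ∀ s : ℕ, s.Prime → s ∣ Nat.card ↥(zpowers e ⊔ zpowers w') → s ∉ Cfsg.sigma M := by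
    intro s hs' hd
    rw [CfsgLib.Coprime.card_sup_of_inf_eq_bot
      ((mem_zpowers_centralizer hw'C).trans (centralizer_le_normalizer _))
      (CfsgLib.Coprime.inf_eq_bot_of_coprime (by
        rw [Nat.card_zpowers, Nat.card_zpowers, hw'o]
        exact (Nat.coprime_primes dN.hq hs).mpr hse.symm)), Nat.card_zpowers, Nat.card_zpowers, hw'o] at hd
    rcases hs'.dvd_mul.mp hd with h | h
    · rwa [(Nat.prime_dvd_prime_iff_eq hs' hs).mp h]
    · rwa [(Nat.prime_dvd_prime_iff_eq hs' dN.hq).mp h]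
  obtain ⟨E₂, hE₂, hXE₂⟩ := exists_compl_ge hG c.hM hXM hXπ
  have hfixw : Cfsg.sigmaCore M ⊓ centralizer ({e} : Set G) ≤ centralizer ({w'} : Set G) :=
    tau1_fix hG c.hM hE₂ (hXE₂ (mem_sup_left (mem_zpowers e))) (hXE₂ (mem_sup_right (mem_zpowers w')))
      hew hτ (hw'o ▸ dN.hq)
  obtain ⟨d, hd, hdE⟩ := compl_conj_centralizer hG c.hM hE hE₂ heE (le_sup_left.trans hXE₂)
  have hdw : d * w' = w' * d := by
    have hd' : d ∈ centralizer ({w'} : Set G) :=
      hfixw ⟨hd.1, centralizer_le_of_mem (mem_zpowers e) hd.2⟩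
    exact mem_centralizer_singleton_iff.mp hd'
  have hw'T : w' ∈ normalizer (T : Set G) := by
    refine hET (hdE ▸ ?_)
    have h : d * w' * d⁻¹ ∈ conjMap d E₂ := conj_mem_conjMap (hXE₂ (mem_sup_right (mem_zpowers w')))
    rwa [hdw, mul_inv_cancel_right] at h
  -- `w'` centralizes `T`
  have hw'NC : w' ∈ Cfsg.sigmaCore N := mem_sigmaCore_of hG c.hN (c.symm.normalizer_le hG hw'T)
    fun s hs' hd => by
      rw [hw'o] at hd
      rwa [(Nat.prime_dvd_prime_iff_eq hs' dN.hq).mp hd]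
  have hTw : T ≤ centralizer ({w'} : Set G) := fun t ht => mem_centralizer_singleton_iff.mpr
    (mem_centralizer_iff.mp (c.symm.core_centralizes hG hw'NC hw'T) t ht)
  -- fixed points in a moved Sylow subgroup
  obtain ⟨Q, hQ, hQn, hQT⟩ := dM.moved
  have hsα : r ∉ Cfsg.alpha M := fun h => hrσ (mem_sigma_of_mem_alpha hG c.hM h)
  have hrank := rankLE_one_alpha_centralizer hG c.hM hN' hN'M hw'M (hw'o ▸ dN.hq) (hw'o ▸ hsα)
    (inf_le_right.trans hw'N')
  set H := Q ⊓ centralizer ({w'} : Set G) with hHdef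
  haveI hHcyc : IsCyclic H := isCyclic_of_prankLE_one hG (hQ.2.1.to_le inf_le_left)
    (inf_le_inf_right _ hQ.1) (hrank q dM.hq)
  have hTH : T ≤ normalizer (H : Set G) :=
    (le_inf ((le_sup_left : T ≤ _).trans hQn) (hTw.trans le_normalizer)).trans
      inf_normalizer_le_normalizer_inf
  have heH : e ∈ normalizer (H : Set G) := inf_normalizer_le_normalizer_inf
    (Subgroup.mem_inf.mpr ⟨hQn (mem_sup_right (mem_zpowers e)),
      le_normalizer (mem_centralizer_singleton_iff.mpr hew)⟩)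
  have hTe : ⁅T, zpowers e⁆ = T := by
    have hcop : (Nat.card (zpowers e)).Coprime (Nat.card T) := (coprime_pgroup_of_not_dvd c.hT.2.1 (by
      rw [Nat.card_zpowers]
      exact fun h => hσ ((Nat.prime_dvd_prime_iff_eq hp.out hs).mp h ▸ c.hσM))).symm
    have h := CfsgLib.Coprime.commutator_sup_centralizer (zpowers_le.mpr heT) hcop
      (Or.inr (isSolvable_of_le_max hG c.hM c.hT.1))
    rwa [centralizer_zpowers_eq, hfp, sup_bot_eq] at h
  have hTc : T ≤ centralizer (H : Set G) := le_centralizer_of_cyclic hHcyc hTH heH hTe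
  refine hQT (frobenius_fixed (E := zpowers e) (c.ne_bot hG) (by simpa using he1)
    (zpowers_le.mpr heT) (fun a ha ha1 => ?_) hQn
    (isSolvable_of_le_max hG c.hM (hQ.1.trans (alphaCore_le M))) ?_ ?_)
  · have hz : zpowers a = zpowers e := zpowers_eq_of_card_prime (p := orderOf e) (card_zpowers_eq rfl) ha ha1
    rw [← centralizer_zpowers_eq, hz, centralizer_zpowers_eq]; exact hfp
  · obtain ⟨j, hj⟩ := IsPGroup.iff_card.mp hQ.2.1
    rw [CfsgLib.Coprime.card_sup_of_inf_eq_bot (zpowers_le.mpr heT) (CfsgLib.Coprime.inf_eq_bot_of_coprime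
      (coprime_pgroup_of_not_dvd c.hT.2.1 (by
        rw [Nat.card_zpowers]
        exact fun h => hσ ((Nat.prime_dvd_prime_iff_eq hp.out hs).mp h ▸ c.hσM))).symm), Nat.card_zpowers, hj]
    refine (Nat.Coprime.mul_right ?_ ?_).pow_left j
    · exact (coprime_pgroup_of_not_dvd c.hT.2.1 (H := zpowers u) (by
        rw [Nat.card_zpowers, huq]
        exact fun h => c.not_alpha hG ((Nat.prime_dvd_prime_iff_eq hp.out dM.hq).mp h ▸ dM.hα))).symm
        |> fun h => by rwa [Nat.card_zpowers, huq] at h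
    · exact (Nat.coprime_primes dM.hq hs).mpr fun h =>
        hσ (h ▸ mem_sigma_of_mem_alpha hG c.hM dM.hα)
  · rw [centralizer_zpowers_eq]
    refine le_trans (le_inf inf_le_left ?_) (le_centralizer_iff.mp hTc)
    exact (inf_le_inf_right _ (hQ.1.trans (alphaCore_le_sigmaCore hG c.hM))).trans hfixw

/-- Two non-conjugate maximal subgroups have disjoint `σ`-sets. -/
theorem exists_conj_of_sigma_inter {p : ℕ} {M N : Subgroup G} (hM : IsCoatom M) (hN : IsCoatom N)
    (h1 : p ∈ Cfsg.sigma M) (h2 : p ∈ Cfsg.sigma N) : ∃ g : G, N = conjMap g M := by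
  haveI := Fact.mk h1.1
  obtain ⟨T, hT, -⟩ := exists_sylowIn_le (IsPGroup.of_bot (p := p) (G := G)) (bot_le (a := M))
  obtain ⟨T', hT', -⟩ := exists_sylowIn_le (IsPGroup.of_bot (p := p) (G := G)) (bot_le (a := N))
  obtain ⟨k, -, hk⟩ := (sylowIn_top h1 hT).exists_conj_eq (sylowIn_top h2 hT')
  by_contra hno
  push Not at hno
  have c : Common p M (conjMap k N) T := by
    refine ⟨hM, isCoatom_conjMap' hG hN k, fun g hg => hno (k⁻¹ * g) ?_, h1, ?_, hT, hk ▸ hT'.conj k⟩
    · rw [← conjMap_conjMap, ← hg, conjMap_inv_conjMap]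
    · rwa [sigma_conjMap k]
  obtain ⟨e, heM, heT, hs, hσ, hmove⟩ := c.exists_mover hG
  have heN : e ∈ conjMap k N := c.symm.normalizer_le hG heT
  have hσN : orderOf e ∉ Cfsg.sigma (conjMap k N) := fun h => hmove
    (c.symm.core_centralizes hG (mem_sigmaCore_of hG c.hN heN fun s hs' hd =>
      (Nat.prime_dvd_prime_iff_eq hs' hs).mp hd ▸ h) heT)
  obtain ⟨q, dM⟩ := c.exists_side hG heM heT hs hσ hmove
  obtain ⟨r, dN⟩ := c.symm.exists_side hG heN heT hs hσN hmove
  rcases lt_trichotomy r q with h | h | h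
  · exact c.clash hG heM heT hs hσ hσN hmove dM dN h
  · exact (exists_conj_of_alpha_sigma hG hM c.hN dN.hα
      (h ▸ mem_sigma_of_mem_alpha hG hM dM.hα)).elim fun g hg => c.hne g hg
  · exact c.symm.clash hG heN heT hs hσN hσ hmove dN dM h

end CfsgLib.BG14
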