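import Cfsg.Agent.Lib.BG14.Support

/-!
The subgroups `R(x)` and the separation of the cosets `x R(x)`.
-/

set_option autoImplicit false
set_option linter.style.haveILetI false
set_option linter.unusedSectionVars false

namespace CfsgLib.BG14

open Subgroup CfsgLib.PLocal CfsgLib.OddLocal CfsgLib.BG
open scoped commutatorElement

universe u
variable {G : Type u} [Group G] [Finite G]

/-- Separation of commuting parts with coprime orders. -/
theorem eq_of_mul_eq_mul {a b a' b' : G} {π : Set ℕ} (hab : Commute a b) (hab' : Commute a' b')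
    (ha : ∀ p : ℕ, p.Prime → p ∣ orderOf a → p ∈ π) (ha' : ∀ p : ℕ, p.Prime → p ∣ orderOf a' → p ∈ π)
    (hb : ∀ p : ℕ, p.Prime → p ∣ orderOf b → p ∉ π) (hb' : ∀ p : ℕ, p.Prime → p ∣ orderOf b' → p ∉ π)
    (h : a * b = a' * b') : a = a' := by
  have hcop : (Nat.lcm (orderOf a) (orderOf a')).Coprime (Nat.lcm (orderOf b) (orderOf b')) := by
    refine coprime_of_forall fun r hr h1 h2 => ?_
    have h1' := (Nat.Prime.dvd_mul hr).mp (h1.trans (Nat.lcm_dvd_mul _ _))
    have h2' := (Nat.Prime.dvd_mul hr).mp (h2.trans (Nat.lcm_dvd_mul _ _))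
    exact h2'.elim (fun e => hb r hr e (h1'.elim (ha r hr) (ha' r hr)))
      (fun e => hb' r hr e (h1'.elim (ha r hr) (ha' r hr)))
  obtain ⟨k, hk1, hk0⟩ := Nat.chineseRemainder hcop 1 0
  have key : ∀ a b : G, Commute a b → orderOf a ∣ Nat.lcm (orderOf a) (orderOf a') ∨ True → k % orderOf a = 1 % orderOf a →
      orderOf b ∣ k → (a * b) ^ k = a := by
    intro a b hc _ h1 h0
    rw [hc.mul_pow, orderOf_dvd_iff_pow_eq_one.mp h0, mul_one, ← pow_mod_orderOf, h1, pow_mod_orderOf,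
      pow_one]
  have hd := Nat.modEq_zero_iff_dvd.mp hk0
  have e1 := key a b hab (Or.inr trivial) (hk1.of_dvd (Nat.dvd_lcm_left _ _))
    ((Nat.dvd_lcm_left _ _).trans hd)
  have e2 := key a' b' hab' (Or.inr trivial) (hk1.of_dvd (Nat.dvd_lcm_right _ _))
    ((Nat.dvd_lcm_right _ _).trans hd)
  rw [← e1, ← e2, h]

theorem centralizer_conj (g x : G) :
    centralizer ({g * x * g⁻¹} : Set G) = conjMap g (centralizer ({x} : Set G)) := by
  ext a
  rw [mem_conjMap, mem_centralizer_singleton_iff, mem_centralizer_singleton_iff]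
  constructor
  · intro h
    calc g⁻¹ * a * g * x = g⁻¹ * (a * (g * x * g⁻¹)) * g := by group
      _ = g⁻¹ * (g * x * g⁻¹ * a) * g := by rw [h]
      _ = _ := by group
  · intro h
    calc a * (g * x * g⁻¹) = g * (g⁻¹ * a * g * x) * g⁻¹ := by group
      _ = g * (x * (g⁻¹ * a * g)) * g⁻¹ := by rw [h]
      _ = _ := by group

variable (hG : Cfsg.IsMinSimpleOddOrder G)
include hG

theorem fittingHallOf_le_sigmaCore {M : Subgroup G} (hM : IsCoatom M) :
    Cfsg.fittingHallOf M ≤ Cfsg.sigmaCore M := by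
  set F := Cfsg.fittingHallOf M with hF
  have hFM : F ≤ M := fittingHallOf_le M
  refine le_sigmaCore_of_pi hG hM hFM fun q hq hd => ?_
  haveI := Fact.mk hq
  obtain ⟨T, hT, -⟩ := exists_sylowIn_le (IsPGroup.of_bot (p := q) (G := G)) (bot_le (a := F))
  have hcop := fittingHallOf_coprime_relIndex M
  have hTM : SylowIn q T M := by
    refine ⟨hT.1.trans hFM, hT.2.1, ?_⟩
    rw [← relIndex_mul_relIndex _ _ _ hT.1 hFM]
    exact fun h => (hq.dvd_mul.mp h).elim hT.2.2
      (fun h' => hq.ne_one (Nat.eq_one_of_dvd_coprimes hcop hd h'))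
  have hFn : F ≤ normalizer (T : Set G) := le_normalizer_of_hall_nilpotent hG (fittingHallOf_isNilpotent M)
    (π := {q}) ⟨hT.1, fun r hr hrd => prime_dvd_pgroup_card hT.2.1 hr hrd, fun r hr hrq => by
      rw [Set.mem_singleton_iff] at hrq; subst hrq; exact hT.2.2⟩
  have hn : M ≤ normalizer (T : Set G) := by
    intro m hm
    rw [← conjMap_eq_self_iff]
    refine Subgroup.eq_of_le_of_card_ge (fun x hx => ?_) (by rw [card_conjMap])
    have hxF : x ∈ F := by
      have h := conjMap_mono (g := m) hT.1 hx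
      rwa [conjMap_eq_self_iff.mpr (le_normalizer_fittingHallOf M hm)] at h
    refine CfsgLib.Solvable.mem_of_coprime_relIndex
      ((normal_subgroupOf_iff_le_normalizer hT.1).mpr hFn) hxF (coprime_of_forall fun r hr h1 h2 => ?_)
    obtain rfl : r = q := prime_dvd_pgroup_card (hT.2.1.map (MulAut.conj m).toMonoidHom) hr
      (h1.trans ((conjMap m T).orderOf_dvd_natCard hx))
    exact hT.2.2 h2
  refine mem_sigma_of_normalizer_le (hd.trans (card_dvd_of_le hFM)) hTM
    (normalizer_eq_max hG hM (fun h => hT.2.2 ?_) hTM.1 hn).le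
  rw [h, relIndex_bot_left]; exact hd

theorem fittingHallOf_eq_sigmaCore {M : Subgroup G} (hM : IsCoatom M)
    (hn : Group.IsNilpotent (Cfsg.sigmaCore M)) : Cfsg.fittingHallOf M = Cfsg.sigmaCore M :=
  le_antisymm (fittingHallOf_le_sigmaCore hG hM) (le_fittingHallOf M _ (sigmaCore_le M)
    (le_normalizer_sigmaCore M) hn (CfsgLib.Coprime.coprime_of_pi
      (fun _ hp hd => mem_sigma_of_dvd_sigmaCore hp hd) (sigmaCore_hall hG hM).2.2))

omit hG in
theorem supportR_of_le {M : Subgroup G} {x : G} (h : centralizer ({x} : Set G) ≤ M) :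
    Cfsg.supportR M x = ⊥ := by
  unfold Cfsg.supportR
  rw [dif_neg fun h' => h'.1 h]

omit hG in
theorem supportR_of_unique {M L : Subgroup G} {x : G} (hM : ¬ centralizer ({x} : Set G) ≤ M)
    (hL : IsCoatom L) (hle : centralizer ({x} : Set G) ≤ L)
    (hu : ∀ L' : Subgroup G, IsCoatom L' → centralizer ({x} : Set G) ≤ L' → L' = L) :
    Cfsg.supportR M x = Cfsg.fittingHallOf L ⊓ centralizer ({x} : Set G) := by
  have h : ¬ centralizer ({x} : Set G) ≤ M ∧
      ∃! L : Subgroup G, IsCoatom L ∧ centralizer ({x} : Set G) ≤ L :=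
    ⟨hM, L, ⟨hL, hle⟩, fun L' h' => hu L' h'.1 h'.2⟩
  unfold Cfsg.supportR
  rw [dif_pos h]
  obtain ⟨h1, h2⟩ := Classical.choose_spec h.2.exists
  rw [hu _ h1 h2]

theorem IsSupport.not_le {M L : Subgroup G} {x : G} (s : IsSupport M L x) :
    ¬ centralizer ({x} : Set G) ≤ M := fun h =>
  s.ne_bot (le_bot_iff.mp (s.disj ▸ le_inf inf_le_left (inf_le_right.trans h)))

theorem IsSupport.supportR_eq {M L : Subgroup G} {x : G} (s : IsSupport M L x) :
    Cfsg.supportR M x = Cfsg.sigmaCore L ⊓ centralizer ({x} : Set G) := by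
  rw [supportR_of_unique (s.not_le hG) s.hL s.le s.unique, fittingHallOf_eq_sigmaCore hG s.hL s.nilpotent]

/-- The two cases for `R(x)`. -/
theorem supportR_cases {M : Subgroup G} (hM : IsCoatom M) {x : G} (hx : x ∈ Cfsg.sigmaCore M)
    (hx1 : x ≠ 1) : (centralizer ({x} : Set G) ≤ M ∧ Cfsg.supportR M x = ⊥) ∨
      ∃ L, IsSupport M L x ∧ Cfsg.supportR M x = Cfsg.sigmaCore L ⊓ centralizer ({x} : Set G) := by
  by_cases h : centralizer ({x} : Set G) ≤ M
  · exact Or.inl ⟨h, supportR_of_le h⟩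
  · obtain ⟨L, hL⟩ := exists_support hG hM hx hx1 h
    exact Or.inr ⟨L, hL, hL.supportR_eq hG⟩

/-- A nontrivial element of `R(x)`. -/
theorem mem_supportR {M : Subgroup G} (hM : IsCoatom M) {x : G} (hx : x ∈ Cfsg.sigmaCore M)
    (hx1 : x ≠ 1) {r : G} (hr : r ∈ Cfsg.supportR M x) : r = 1 ∨
      ∃ L, IsSupport M L x ∧ r ∈ Cfsg.sigmaCore L ∧ r ∈ centralizer ({x} : Set G) := by
  rcases supportR_cases hG hM hx hx1 with ⟨-, h⟩ | ⟨L, hL, h⟩
  · rw [h, mem_bot] at hr; exact Or.inl hr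
  · rw [h] at hr; exact Or.inr ⟨L, hL, hr.1, hr.2⟩

/-- `R(x)` depends on the class of `M` only. -/
theorem supportR_eq_of_conj {M : Subgroup G} (hM : IsCoatom M) {x : G} (hx : x ∈ Cfsg.sigmaCore M)
    (hx1 : x ≠ 1) {g : G} (hg : x ∈ conjMap g M) : Cfsg.supportR (conjMap g M) x = Cfsg.supportR M x := by
  obtain ⟨c, hc, hcM⟩ := exists_centralizer_conj_of_mem hG hM hx hx1 hg
  rw [← hcM]
  rcases supportR_cases hG hM hx hx1 with ⟨hle, -⟩ | ⟨L, hL, -⟩
  · rw [conjMap_eq_self_iff.mpr (le_normalizer (hle hc))]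
  · have hnot : ¬ centralizer ({x} : Set G) ≤ conjMap c M := fun h => hL.not_le hG fun a ha => by
      have := h (mul_mem (mul_mem hc ha) (inv_mem hc))
      rw [mem_conjMap] at this
      simpa [mul_assoc] using this
    rw [supportR_of_unique hnot hL.hL hL.le hL.unique,
      supportR_of_unique (hL.not_le hG) hL.hL hL.le hL.unique]

/-- Conjugation of `R(x)`. -/
theorem supportR_conjMap {M : Subgroup G} (hM : IsCoatom M) {x : G} (hx : x ∈ Cfsg.sigmaCore M)
    (hx1 : x ≠ 1) (g : G) :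
    Cfsg.supportR (conjMap g M) (g * x * g⁻¹) = conjMap g (Cfsg.supportR M x) := by
  rcases supportR_cases hG hM hx hx1 with ⟨hle, h⟩ | ⟨L, hL, h⟩
  · rw [h, supportR_of_le (by rw [centralizer_conj]; exact conjMap_mono hle)]
    exact (Subgroup.map_bot _).symm
  · have hu : ∀ L' : Subgroup G, IsCoatom L' → centralizer ({g * x * g⁻¹} : Set G) ≤ L' →
        L' = conjMap g L := by
      intro L' h1 h2
      rw [centralizer_conj] at h2
      have h3 := conjMap_mono (g := g⁻¹) h2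
      rw [conjMap_inv_conjMap] at h3
      rw [← hL.unique _ (isCoatom_conjMap' hG h1 g⁻¹) h3, conjMap_conjMap_inv]
    have hnot : ¬ centralizer ({g * x * g⁻¹} : Set G) ≤ conjMap g M := fun h' => hL.not_le hG (by
      rw [centralizer_conj] at h'
      have h3 := conjMap_mono (g := g⁻¹) h'
      rwa [conjMap_inv_conjMap, conjMap_inv_conjMap] at h3)
    have hcore := sigmaCore_conjMap (M := L) g
    haveI := hL.nilpotent
    have hnil : Group.IsNilpotent ↥(Cfsg.sigmaCore (conjMap g L)) := by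
      rw [hcore]
      exact Group.nilpotent_of_mulEquiv
        ((Cfsg.sigmaCore L).equivMapOfInjective _ (MulAut.conj g).injective)
    rw [supportR_of_unique hnot (isCoatom_conjMap' hG hL.hL g)
      (by rw [centralizer_conj]; exact conjMap_mono hL.le) hu,
      fittingHallOf_eq_sigmaCore hG (isCoatom_conjMap' hG hL.hL g) hnil, hcore, centralizer_conj, h,
      ← conjMap_inf]

theorem IsSupport.sigma_disjoint {M L : Subgroup G} {x : G} (hM : IsCoatom M) (s : IsSupport M L x)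
    {p : ℕ} (h1 : p ∈ Cfsg.sigma M) (h2 : p ∈ Cfsg.sigma L) : False :=
  (exists_conj_of_sigma_inter hG hM s.hL h1 h2).elim fun g hg => s.nonconj g hg

/-- The cosets `x R(x)` are disjoint. -/
theorem coset_separation {M N : Subgroup G} (hM : IsCoatom M) (hN : IsCoatom N) {x y : G}
    (hx : x ∈ Cfsg.sigmaCore M) (hy : y ∈ Cfsg.sigmaCore N) (hx1 : x ≠ 1) (hy1 : y ≠ 1) (hxy : x ≠ y)
    {r s : G} (hr : r ∈ Cfsg.supportR M x) (hs : s ∈ Cfsg.supportR N y) : x * r ≠ y * s := by
  intro h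
  have hpr : ∀ {L : Subgroup G} {z : G}, z ∈ Cfsg.sigmaCore L →
      ∀ p : ℕ, p.Prime → p ∣ orderOf z → p ∈ Cfsg.sigma L := fun {L z} hz p hp hd =>
    mem_sigma_of_dvd_sigmaCore hp (hd.trans ((Cfsg.sigmaCore L).orderOf_dvd_natCard hz))
  have hconj : ∀ {A B : Subgroup G}, IsCoatom A → IsCoatom B → ∀ {p : ℕ}, p ∈ Cfsg.sigma A →
      p ∈ Cfsg.sigma B → Cfsg.sigma B = Cfsg.sigma A := fun hA hB _ h1 h2 =>
    (exists_conj_of_sigma_inter hG hA hB h1 h2).elim fun g hg => hg ▸ sigma_conjMap g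
  -- one trivial factor
  have hone : ∀ {M N : Subgroup G}, IsCoatom M → IsCoatom N → ∀ {x y s : G}, x ∈ Cfsg.sigmaCore M →
      y ∈ Cfsg.sigmaCore N → y ≠ 1 → x ≠ y → s ∈ Cfsg.supportR N y → x ≠ y * s := by
    intro M N hM hN x y s hx hy hy1 hxy hs h
    rcases mem_supportR hG hN hy hy1 hs with rfl | ⟨L, hL, hsL, hsC⟩
    · exact hxy (by rw [h, mul_one])
    have hs1 : s ≠ 1 := fun e => hxy (by rw [h, e, mul_one])
    have hcomm : Commute y s := (mem_centralizer_singleton_iff.mp hsC).symm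
    have hcop : (orderOf y).Coprime (orderOf s) := coprime_of_forall fun p hp h1 h2 =>
      hL.sigma_disjoint hG hN (hpr hy p hp h1) (hpr hsL p hp h2)
    have ho := hcomm.orderOf_mul_eq_mul_orderOf_of_coprime hcop
    obtain ⟨p, hp, hpd⟩ := Nat.exists_prime_and_dvd (fun e => hy1 (orderOf_eq_one_iff.mp e))
    obtain ⟨q, hq, hqd⟩ := Nat.exists_prime_and_dvd (fun e => hs1 (orderOf_eq_one_iff.mp e))
    have e1 := hconj hM hN (hpr hx p hp (by rw [h, ho]; exact hpd.mul_right _)) (hpr hy p hp hpd)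
    exact hL.sigma_disjoint hG hN (e1 ▸ hpr hx q hq (by rw [h, ho]; exact hqd.mul_left _))
      (hpr hsL q hq hqd)
  rcases mem_supportR hG hM hx hx1 hr with rfl | ⟨L, hL, hrL, hrC⟩
  · exact hone hM hN hx hy hy1 hxy hs (by rw [← mul_one x]; exact h)
  rcases mem_supportR hG hN hy hy1 hs with rfl | ⟨L', hL', hsL, hsC⟩
  · exact hone hN hM hy hx hx1 (Ne.symm hxy) hr (by rw [h, mul_one])
  by_cases hr1 : r = 1
  · exact hone hM hN hx hy hy1 hxy hs (by rw [← h, hr1, mul_one])
  by_cases hs1 : s = 1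
  · exact hone hN hM hy hx hx1 (Ne.symm hxy) hr (by rw [h, hs1, mul_one])
  have hc : Commute x r := (mem_centralizer_singleton_iff.mp hrC).symm
  have hc' : Commute y s := (mem_centralizer_singleton_iff.mp hsC).symm
  have hrπ : ∀ p : ℕ, p.Prime → p ∣ orderOf r → p ∉ Cfsg.sigma M := fun p hp hd hσ =>
    hL.sigma_disjoint hG hM hσ (hpr hrL p hp hd)
  obtain ⟨p, hp, hpd⟩ := Nat.exists_prime_and_dvd (fun e => hx1 (orderOf_eq_one_iff.mp e))
  have hord : p ∣ orderOf y * orderOf s := by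
    refine dvd_trans ?_ hc'.orderOf_mul_dvd_mul_orderOf
    rw [← h, hc.orderOf_mul_eq_mul_orderOf_of_coprime (coprime_of_forall fun q hq h1 h2 =>
      hrπ q hq h2 (hpr hx q hq h1))]
    exact hpd.mul_right _
  rcases hp.dvd_mul.mp hord with hd | hd
  · have e := hconj hM hN (hpr hx p hp hpd) (hpr hy p hp hd)
    exact hxy (eq_of_mul_eq_mul hc hc' (hpr hx) (fun q hq h' => e ▸ hpr hy q hq h') hrπ
      (fun q hq h' hσ => hL'.sigma_disjoint hG hN (e ▸ hσ) (hpr hsL q hq h')) h)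
  · obtain ⟨g, hg⟩ := exists_conj_of_sigma_inter hG hL'.hL hM (hpr hsL p hp hd) (hpr hx p hp hpd)
    have e : Cfsg.sigma M = Cfsg.sigma L' := hg ▸ sigma_conjMap g
    have hxs : x = s := eq_of_mul_eq_mul hc hc'.symm (hpr hx) (fun q hq h' => e ▸ hpr hsL q hq h') hrπ
      (fun q hq h' hσ => hL'.sigma_disjoint hG hN (hpr hy q hq h') (e ▸ hσ)) (h.trans hc'.eq)
    have hry : r = y := mul_left_cancel (a := x) (h.trans (by rw [hxs]; exact hc'.eq))
    have hxL' : x ∈ Cfsg.sigmaCore L' := hxs ▸ hsL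
    obtain ⟨c, hc0, hcM⟩ := exists_centralizer_conj_of_mem hG hL'.hL hxL' hx1
      (hg ▸ sigmaCore_le M hx)
    have hnot : ¬ centralizer ({x} : Set G) ≤ L' := fun hle => hL.not_le hG (by
      have : M = L' := by rw [hg, ← hcM, conjMap_eq_self_iff.mpr (le_normalizer (hle hc0))]
      exact this ▸ hle)
    obtain ⟨L'', hL''⟩ := exists_support hG hL'.hL hxL' hx1 hnot
    have hLL : L'' = L := hL.unique L'' hL''.hL hL''.le
    refine hy1 (mem_bot.mp (hL''.disj ▸ ⟨?_, hL'.le (mem_centralizer_singleton_iff.mpr rfl)⟩))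
    rw [hLL, ← hry]; exact hrL

end CfsgLib.BG14
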