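import Cfsg.Agent.S1435

/-!
The primes of `σ(N)`, `N` a support of `M`, which divide `|M|`.
-/

set_option autoImplicit false
set_option linter.style.haveILetI false
set_option linter.unusedSectionVars false

namespace CfsgLib.BG14

open Subgroup CfsgLib.PLocal CfsgLib.OddLocal CfsgLib.BG
open scoped commutatorElement

universe u
variable {G : Type u} [Group G] [Finite G]

variable (hG : Cfsg.IsMinSimpleOddOrder G)
include hG

/-- A square with regular action bounds the prime it acts on. -/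
theorem prime_le_of_square {L : Subgroup G} (hL : IsCoatom L) {t q : ℕ} [ht : Fact t.Prime]
    [hq : Fact q.Prime] (htσ : t ∈ Cfsg.sigma L) (htβ : t ∉ Cfsg.beta L)
    (hn : Group.IsNilpotent (Cfsg.sigmaCore L)) {A : Subgroup G} (hA : IsSq q A) (hAL : A ≤ L)
    (hC : Cfsg.sigmaCore L ⊓ centralizer (A : Set G) = ⊥) : q ≤ t := by
  have htd : t ∣ Nat.card (Cfsg.sigmaCore L) := by
    have h := htσ.2.1
    rw [← CfsgLib.Coprime.card_mul_relIndex (sigmaCore_le L)] at h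
    exact (ht.out.dvd_mul.mp h).resolve_right ((sigmaCore_hall hG hL).2.2 t ht.out htσ)
  obtain ⟨P, hP, -⟩ := exists_sylowIn_le (IsPGroup.of_bot (p := t) (G := G))
    (bot_le (a := Cfsg.sigmaCore L))
  have hP1 : P ≠ ⊥ := fun e => hP.2.2 (by rw [e, relIndex_bot_left]; exact htd)
  have hLP : L ≤ normalizer (P : Set G) := sylow_le_normalizer_of_nilpotent hG hL hn hP
  obtain ⟨-, -, -, -, hlast⟩ := i1414 hG L hL
  set O := (Cfsg.pPrimeCore t ↥L).map L.subtype with hO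
  have hOL : O ≤ L := map_subtype_le _
  have hcore : O.subgroupOf L = Cfsg.pPrimeCore t ↥L := comap_map_eq_self_of_injective L.subtype_injective _
  haveI := CfsgLib.Solvable.pPrimeCore_normal t ↥L
  have hnO : (O.subgroupOf L).Normal := hcore ▸ inferInstance
  have hLO : L ≤ normalizer (O : Set G) := (normal_subgroupOf_iff_le_normalizer hOL).mp hnO
  have hcopO : (Nat.card O).Coprime t := by
    rw [hO, card_map_of_injective L.subtype_injective]
    exact CfsgLib.Solvable.pPrimeCore_coprime t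
  have hOP : O ⊓ P = ⊥ := CfsgLib.Coprime.inf_eq_bot_of_coprime (coprime_of_forall fun r hr h1 h2 => by
    obtain rfl := prime_dvd_pgroup_card hP.2.1 hr h2
    exact hr.not_dvd_one (hcopO ▸ Nat.dvd_gcd h1 dvd_rfl))
  obtain ⟨a, ha, haO⟩ : ∃ a ∈ A, a ∉ O := by
    by_contra hno
    push Not at hno
    refine hP1 (le_bot_iff.mp (hC ▸ le_inf hP.1 fun x hx => mem_centralizer_iff.mpr fun a ha => ?_))
    have hxL : x ∈ L := sigmaCore_le L (hP.1 hx)
    have h : ⁅a, x⁆ ∈ O ⊓ P := by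
      rw [commutatorElement_def]
      refine ⟨?_, Subgroup.mul_mem _ ((mem_normalizer_iff.mp (hLP (hAL ha)) x).mp hx) (Subgroup.inv_mem _ hx)⟩
      rw [show a * x * a⁻¹ * x⁻¹ = a * (x * a⁻¹ * x⁻¹) by group]
      exact Subgroup.mul_mem _ (hno a ha) ((mem_normalizer_iff.mp (hLO hxL) _).mp (Subgroup.inv_mem _ (hno a ha)))
    rw [hOP, mem_bot, commutatorElement_eq_one_iff_mul_comm] at h
    exact h
  refine (hlast t ht.out htσ.2.1 htβ).2.2 q hq.out ?_
  rw [← hcore]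
  by_contra hnd
  refine haO (CfsgLib.Solvable.mem_of_coprime_relIndex hnO (hAL ha) (coprime_of_forall fun r hr h1 h2 => ?_))
  obtain rfl := prime_dvd_pgroup_card hA.isPGroup hr (h1.trans (A.orderOf_dvd_natCard ha))
  exact hnd h2

theorem exists_pdata_compl {M K U E : Subgroup G} (d : PData M K U E) {F : Subgroup G}
    (hF : Cfsg.IsComplIn F (Cfsg.sigmaCore M) M) : ∃ K' U', PData M K' U' F := by
  obtain ⟨c, hc, he⟩ := compl_conj hG d.hM hF d.compl
  exact ⟨_, _, he ▸ d.conj hG (sigmaCore_le M hc)⟩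

/-- A maximal subgroup of type P has no support of type P. -/
theorem PData.support_kappa {M K U E N : Subgroup G} {x : G} (d : PData M K U E)
    (hx : x ∈ Cfsg.sigmaCore M) (hx1 : x ≠ 1) (s : IsSupport M N x) :
    Cfsg.kappa N = ∅ ∧ ∀ {L U₁ E₁ : Subgroup G}, PData L (starOf M K) U₁ E₁ →
      starOf L (starOf M K) = K → ∀ c : G, N ≠ conjMap c L := by
  obtain ⟨L, U₁, E₁, d₁, h2, -, -⟩ := d.exists_dual hG
  have key : ∀ {L U₁ E₁ : Subgroup G}, PData L (starOf M K) U₁ E₁ →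
      starOf L (starOf M K) = K → ∀ c : G, N ≠ conjMap c L := by
    intro L U₁ E₁ d₁ h2 c hc
    obtain ⟨q, hq, hqd⟩ := Nat.exists_prime_and_dvd (mt orderOf_eq_one_iff.mp hx1)
    haveI := Fact.mk hq
    have hqσ : q ∈ Cfsg.sigma M :=
      mem_sigma_of_dvd_sigmaCore hq (hqd.trans ((Cfsg.sigmaCore M).orderOf_dvd_natCard hx))
    have hτ : q ∈ Cfsg.tau2 L := by
      have := tau2_conjMap c⁻¹ (s.tau2 q hq hqd)
      rwa [hc, conjMap_inv_conjMap] at this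
    have hL : q ∣ Nat.card L := by
      obtain ⟨A, hAL, hA⟩ := exists_sq_le_of_not_prankLE le_rfl hτ.2.2.2
      exact (dvd_card_of_pgroup_ne_bot hA.isPGroup hA.ne_bot).trans (card_dvd_of_le hAL)
    have hh := d.star_hall hG d₁ h2
    rw [← CfsgLib.Coprime.card_mul_relIndex hh.1] at hL
    have hκ := (d₁.mem_kappa_iff hG).mpr ⟨hq, (hq.dvd_mul.mp hL).resolve_right (hh.2.2 q hq hqσ)⟩
    rw [d₁.kappa_eq hG] at hκ
    exact hτ.2.2.2 hκ.2.2.2.2
  exact ⟨d.kappa_eq_empty hG d₁ h2 s.hL s.nonconj (key d₁ h2), key⟩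

variable {M N : Subgroup G} {x : G}

theorem IsSupport.exists_square (s : IsSupport M N x) (hM : IsCoatom M) (hx : x ∈ Cfsg.sigmaCore M)
    (hx1 : x ≠ 1) : ∃ (q : ℕ) (A : Subgroup G), ∃ _ : Fact q.Prime, q ∈ Cfsg.tau2 N ∧ q ∈ Cfsg.sigma M ∧
      IsSq q A ∧ A ≤ M ⊓ N ∧ A ≤ Cfsg.sigmaCore M ∧ centralizer (A : Set G) ≤ N := by
  obtain ⟨q, hq, hqd⟩ := Nat.exists_prime_and_dvd (mt orderOf_eq_one_iff.mp hx1)
  haveI := Fact.mk hq
  have hqσ : q ∈ Cfsg.sigma M :=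
    mem_sigma_of_dvd_sigmaCore hq (hqd.trans ((Cfsg.sigmaCore M).orderOf_dvd_natCard hx))
  obtain ⟨A, A₀, hAF, hA⟩ := tau2_square hG s.hL s.compl (s.tau2 q hq hqd)
  exact ⟨q, A, inferInstance, s.tau2 q hq hqd, hqσ, hA.sq, hAF,
    le_sigmaCore_of_pi hG hM (hAF.trans inf_le_left) fun t ht hd =>
      (prime_dvd_pgroup_card hA.sq.isPGroup ht hd) ▸ hqσ,
    hA.centralizer_le⟩

/-- `σ(N) ∩ π(M)` excludes type P. -/
theorem IsSupport.kappa_empty (s : IsSupport M N x) (hM : IsCoatom M) (hx : x ∈ Cfsg.sigmaCore M)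
    (hx1 : x ≠ 1) {p : ℕ} (hp : p ∈ Cfsg.sigma N) (hpM : p ∣ Nat.card M) : Cfsg.kappa M = ∅ := by
  rw [Set.eq_empty_iff_forall_notMem]
  intro p₀ hp₀
  haveI := Fact.mk hp.1
  obtain ⟨K₀, U₀, E₀, d₀⟩ := exists_of_mem_kappa hG hM hp₀
  obtain ⟨L, U₁, E₁, d₁, h2, -, -⟩ := d₀.exists_dual hG
  have hnL := (d₀.support_kappa hG hx hx1 s).2 d₁ h2
  have hσM : p ∉ Cfsg.sigma M := fun h => (exists_conj_of_sigma_inter hG hM s.hL h hp).elim s.nonconj
  have d : PData M K₀ U₀ (U₀ ⊔ K₀) := by rw [d₀.sup_eq hG]; exact d₀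
  have hpU : p ∣ Nat.card U₀ := by
    rw [← CfsgLib.Coprime.card_mul_relIndex (sigmaCore_le M), ← card_compl hG hM d.compl, d.card_E hG] at hpM
    rcases hp.1.dvd_mul.mp hpM with h | h
    · exact absurd (mem_sigma_of_dvd_sigmaCore hp.1 h) hσM
    rcases hp.1.dvd_mul.mp h with h | h
    · exact h
    · exact (exists_conj_of_sigma_inter hG d₁.hM s.hL (mem_sigma_of_dvd_sigmaCore hp.1
        (h.trans (card_dvd_of_le (h2.ge.trans inf_le_left)))) hp).elim fun c hc => absurd hc (hnL c)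
  have hU1 : U₀ ≠ ⊥ := fun e => hp.1.not_dvd_one (by rw [e, Subgroup.card_bot] at hpU; exact hpU)
  obtain ⟨R, hR, -⟩ := exists_sylowIn_le (IsPGroup.of_bot (p := p) (G := G)) (bot_le (a := U₀))
  have hR1 : R ≠ ⊥ := fun e => hR.2.2 (by rw [e, relIndex_bot_left]; exact hpU)
  obtain ⟨H, hH, hNR⟩ := exists_coatom_normalizer hG hR1
    (fun e => hM.1 (top_le_iff.mp (e ▸ hR.1.trans (d.U_le_M hG))))
  obtain ⟨-, hUH, -, -, -, hcompl⟩ := Cfsg.Agent.S1435.main hG d d₁ h2 hU1 hpU hR hH hNR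
  have hpH : p ∈ Cfsg.sigma H := mem_sigma_of_dvd_sigmaCore hp.1 (hpU.trans (card_dvd_of_le hUH))
  obtain ⟨g, hg⟩ := exists_conj_of_sigma_inter hG s.hL hH hp hpH
  obtain ⟨q, A, hqF, hτ, hqσ, -, -, -, -⟩ := s.exists_square hG hM hx hx1
  obtain ⟨B, B₀, hBF, hB⟩ := tau2_square hG hH hcompl (r := q) (by rw [hg]; exact tau2_conjMap g hτ)
  have hBL : B ≤ L := hBF.trans inf_le_right
  have hL : q ∣ Nat.card L :=
    (dvd_card_of_pgroup_ne_bot hB.sq.isPGroup hB.sq.ne_bot).trans (card_dvd_of_le hBL)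
  have hh := d.star_hall hG d₁ h2
  rw [← CfsgLib.Coprime.card_mul_relIndex hh.1] at hL
  have hκ := (d₁.mem_kappa_iff hG).mpr ⟨hqF.out, (hqF.out.dvd_mul.mp hL).resolve_right (hh.2.2 q hqF.out hqσ)⟩
  rw [d₁.kappa_eq hG] at hκ
  exact hB.sq.not_prankLE_one hBL hκ.2.2.2.2

/-- `σ(N) ∩ τ₂(M) = ∅`. -/
theorem IsSupport.no_tau2_sigma (s : IsSupport M N x) (hM : IsCoatom M) (hx : x ∈ Cfsg.sigmaCore M)
    (hx1 : x ≠ 1) {r : ℕ} [hr : Fact r.Prime] (h1 : r ∈ Cfsg.sigma N) (h2 : r ∈ Cfsg.tau2 M) : False := by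
  obtain ⟨q, A, hqF, hτ, hqσ, hA, hAF, -, -⟩ := s.exists_square hG hM hx hx1
  obtain ⟨B, hBM, hB⟩ := exists_sq_le_of_not_prankLE le_rfl h2.2.2.2
  obtain ⟨hn, -, -, hCB, -⟩ := i1417 hG M hM r h2 B ⟨hBM, hB.1, hB.2⟩
  obtain ⟨-, -, -, hCA, -⟩ := i1417 hG N s.hL q hτ A ⟨hAF.trans inf_le_right, hA.1, hA.2⟩
  have e1 : q ≤ r := prime_le_of_square hG s.hL h1
    (fun h => (i1408 hG M hM r h2.2.1 h2.2.2.1 h2.2.2.2).1 h.2) s.nilpotent hA (hAF.trans inf_le_right) hCA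
  have e2 : r ≤ q := prime_le_of_square hG hM hqσ
    (fun h => (i1408 hG N s.hL q hτ.2.1 hτ.2.2.1 hτ.2.2.2).1 h.2) hn hB hBM hCB
  exact h2.2.1 (le_antisymm e1 e2 ▸ hqσ)

/-- `τ₂(M)` primes have rank at most one in `N`. -/
theorem IsSupport.prankLE_of_tau2 (s : IsSupport M N x) (hM : IsCoatom M) (hx : x ∈ Cfsg.sigmaCore M)
    (hx1 : x ≠ 1) {r : ℕ} [hr : Fact r.Prime] (h2 : r ∈ Cfsg.tau2 M) :
    r ∉ Cfsg.sigma N ∧ Cfsg.PRankLE r 1 N := by
  have hσN : r ∉ Cfsg.sigma N := fun h => s.no_tau2_sigma hG hM hx hx1 h h2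
  refine ⟨hσN, by_contra fun hk => ?_⟩
  have hτr : r ∈ Cfsg.tau2 N := ⟨hr.out, hσN, prankLE_two_of_not_sigma hG s.hL hσN, hk⟩
  obtain ⟨q, A₁, hqF, hτ, hqσ, -, -, -, -⟩ := s.exists_square hG hM hx hx1
  obtain ⟨A, A₀, hAF, hA⟩ := tau2_square hG s.hL s.compl hτ
  obtain ⟨B, B₀, hBF, hB⟩ := tau2_square hG s.hL s.compl hτr
  obtain ⟨⟨hnA, -⟩, -, -⟩ := i1418 hG N s.hL _ s.compl q hτ A ⟨hAF, hA.sq.1, hA.sq.2⟩
  obtain ⟨⟨hnB, -⟩, -, -⟩ := i1418 hG N s.hL _ s.compl r hτr B ⟨hBF, hB.sq.1, hB.sq.2⟩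
  have hqr : q ≠ r := fun e => h2.2.1 (e ▸ hqσ)
  have hAB : A ≤ centralizer (B : Set G) := le_centralizer_of_normalize (hAF.trans hnB) (hBF.trans hnA)
    (CfsgLib.Coprime.inf_eq_bot_of_coprime (coprime_pgroup hA.sq.isPGroup hB.sq.isPGroup hqr))
  obtain ⟨-, -, -, hCB, -⟩ := i1417 hG M hM r h2 B ⟨hBF.trans inf_le_left, hB.sq.1, hB.sq.2⟩
  exact hA.sq.ne_bot (le_bot_iff.mp (hCB ▸ le_inf (le_sigmaCore_of_pi hG hM (hAF.trans inf_le_left)
    fun t ht hd => (prime_dvd_pgroup_card hA.sq.isPGroup ht hd) ▸ hqσ) hAB))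

/-- `σ(N) ∩ π(M) ≠ ∅` excludes `τ₂(M)`. -/
theorem IsSupport.tau2_empty (s : IsSupport M N x) (hM : IsCoatom M) (hx : x ∈ Cfsg.sigmaCore M)
    (hx1 : x ≠ 1) {p : ℕ} (hp : p ∈ Cfsg.sigma N) (hpM : p ∣ Nat.card M) : Cfsg.tau2 M = ∅ := by
  rw [Set.eq_empty_iff_forall_notMem]
  intro r h2
  haveI := Fact.mk h2.1
  haveI := Fact.mk hp.1
  obtain ⟨hrN, hrk⟩ := s.prankLE_of_tau2 hG hM hx hx1 h2
  have hκ := s.kappa_empty hG hM hx hx1 hp hpM
  have hσM : p ∉ Cfsg.sigma M := fun h => (exists_conj_of_sigma_inter hG hM s.hL h hp).elim s.nonconj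
  have hpr : Cfsg.PRankLE p 1 M := by
    by_contra h
    exact s.no_tau2_sigma hG hM hx hx1 hp ⟨hp.1, hσM, prankLE_two_of_not_sigma hG hM hσM, h⟩
  obtain ⟨E, hE⟩ := exists_compl hG hM
  have hpE : p ∣ Nat.card E := by
    rw [← CfsgLib.Coprime.card_mul_relIndex (sigmaCore_le M), ← card_compl hG hM hE] at hpM
    exact (hp.1.dvd_mul.mp hpM).resolve_left fun h => hσM (mem_sigma_of_dvd_sigmaCore hp.1 h)
  obtain ⟨⟨y, hyE⟩, hyo⟩ := exists_prime_orderOf_dvd_card' p hpE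
  rw [Subgroup.orderOf_mk] at hyo
  subst hyo
  have hy1 : y ≠ 1 := ne_one_of_prime hp.1
  have hyM : y ∈ M := hE.1 hyE
  have hfpf : Cfsg.sigmaCore M ⊓ centralizer ({y} : Set G) = ⊥ := by
    by_contra h
    have h' := mem_kappa_of_fix hG hM hyM hp.1 hσM hpr h
    rw [hκ] at h'
    exact absurd h' (Set.notMem_empty _)
  obtain ⟨B, B₀, hBE, hB⟩ := tau2_square hG hM hE h2
  obtain ⟨⟨hEB, -⟩, -, -⟩ := i1418 hG M hM E hE r h2 B ⟨hBE, hB.sq.1, hB.sq.2⟩
  obtain ⟨hnilM, -, -, hCB, -⟩ := i1417 hG M hM r h2 B ⟨hB.le, hB.sq.1, hB.sq.2⟩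
  have hyB : zpowers y ≤ normalizer (B : Set G) := zpowers_le.mpr (hEB hyE)
  have hne : r ≠ orderOf y := fun e => hrN (e.symm ▸ hp)
  have hcop : (Nat.card (zpowers y)).Coprime (Nat.card B) :=
    coprime_pgroup (pgroup_zpowers y) hB.sq.isPGroup (Ne.symm hne)
  set X := ⁅B, zpowers y⁆ with hX
  have hXB : X ≤ B := CfsgLib.Comp.commutator_le_of_le_normalizer hyB
  have hXf : X ⊓ centralizer ({y} : Set G) = ⊥ := by
    rw [← centralizer_zpowers_eq]
    exact CfsgLib.Coprime.commutator_inf_centralizer_eq_bot hB.sq.1.1 hyB hcop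
  have hfrob : ∀ W : Subgroup G, W ≤ B → W ≠ ⊥ → zpowers y ≤ normalizer (W : Set G) →
      W ⊓ centralizer ({y} : Set G) = ⊥ → Cfsg.sigmaCore M ≤ centralizer (W : Set G) := by
    intro W hW hW1 hn hf
    refine frobenius_fixed hW1 (zpowers_ne_bot.mpr hy1) hn (fun e he he1 => ?_)
      ((sup_le (hW.trans hBE) (zpowers_le.mpr hyE)).trans (hE.1.trans (le_normalizer_sigmaCore M)))
      (isSolvable_of_le_max hG hM (sigmaCore_le M))
      (coprime_sigmaCore hG hM fun t ht hd => not_sigma_of_dvd_compl hG hM hE ht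
        (hd.trans (card_dvd_of_le (sup_le (hW.trans hBE) (zpowers_le.mpr hyE))))).symm ?_
    · rw [← centralizer_zpowers_eq, zpowers_eq_of_card_prime (p := orderOf y) (card_zpowers_eq rfl) he he1,
        centralizer_zpowers_eq]
      exact hf
    · rw [centralizer_zpowers_eq, hfpf]
      exact bot_le
  set W := B ⊓ centralizer ({y} : Set G) with hWdef
  have hW1 : W ≠ ⊥ := fun hb => sigmaCore_ne_bot hG hM
    (le_bot_iff.mp (hCB ▸ le_inf le_rfl (hfrob B le_rfl hB.sq.ne_bot hyB hb)))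
  obtain ⟨g, hg⟩ := i1425 hG N s.hL (zpowers y) (zpowers_ne_bot.mpr hy1)
    (primes_zpowers hp.1 hp)
  have hgy : g * y * g⁻¹ ∈ Cfsg.sigmaCore N := hg ⟨y, mem_zpowers y, rfl⟩
  set N' := conjMap g⁻¹ N with hN'def
  have hN' : IsCoatom N' := isCoatom_conj hG s.hL g⁻¹
  have hyN' : y ∈ Cfsg.sigmaCore N' := by
    rw [sigmaCore_conjMap (M := N) g⁻¹, mem_conjMap, inv_inv]
    exact hgy
  have hWy : W ≤ centralizer ({y} : Set G) := inf_le_right
  have hWr : IsPGroup r W := hB.sq.isPGroup.to_le inf_le_left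
  obtain ⟨c, hcy, hcW⟩ : ∃ c ∈ centralizer ({y} : Set G), conjMap c W ≤ N' := by
    by_cases hle : centralizer ({y} : Set G) ≤ N'
    · exact ⟨1, one_mem _, by rw [conjMap_one]; exact hWy.trans hle⟩
    obtain ⟨L'', s'⟩ := exists_support hG hN' hyN' hy1 hle
    have hrL : r ∉ Cfsg.sigma L'' := by
      intro hrσ
      obtain ⟨q, A, hqF, hτ, hqσ, hA, hAF, -, -⟩ := s.exists_square hG hM hx hx1
      obtain ⟨-, -, -, hCA, -⟩ := i1417 hG N s.hL q hτ A ⟨hAF.trans inf_le_right, hA.1, hA.2⟩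
      have hpL : orderOf y ∈ Cfsg.tau2 L'' := s'.tau2 _ hp.1 dvd_rfl
      obtain ⟨P₂, hP₂L, hP₂⟩ := exists_sq_le_of_not_prankLE le_rfl hpL.2.2.2
      obtain ⟨-, -, -, hCP, -⟩ := i1417 hG L'' s'.hL _ hpL P₂ ⟨hP₂L, hP₂.1, hP₂.2⟩
      have e1 : q ≤ orderOf y := prime_le_of_square hG s.hL hp
        (fun h => (i1408 hG L'' s'.hL _ hpL.2.1 hpL.2.2.1 hpL.2.2.2).1 h.2) s.nilpotent hA
        (hAF.trans inf_le_right) hCA
      have e2 : orderOf y ≤ r := prime_le_of_square hG s'.hL hrσ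
        (fun h => (i1408 hG M hM r h2.2.1 h2.2.2.1 h2.2.2.2).1 h.2) s'.nilpotent hP₂ hP₂L hCP
      have e3 : r ≤ q := prime_le_of_square hG hM hqσ
        (fun h => (i1408 hG N s.hL q hτ.2.1 hτ.2.2.1 hτ.2.2.2).1 h.2) hnilM hB.sq hB.le hCB
      exact hne (by omega)
    have hn : W ≤ normalizer (zpowers y : Set G) :=
      hWy.trans ((centralizer_zpowers_eq y).ge.trans (centralizer_le_normalizer _))
    have hyN'' : y ∈ L'' := s'.le (mem_centralizer_singleton_iff.mpr rfl)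
    obtain ⟨E'', hE'', hXE⟩ := exists_compl_ge hG s'.hL
      (sup_le (zpowers_le.mpr hyN'') (hWy.trans s'.le) : zpowers y ⊔ W ≤ L'') fun t ht hd => by
        rcases ht.dvd_mul.mp (hd.trans (CfsgLib.BG.card_sup_dvd hn)) with h | h
        · rw [Nat.card_zpowers] at h
          exact ((Nat.prime_dvd_prime_iff_eq ht hp.1).mp h) ▸ (s'.tau2 _ hp.1 dvd_rfl).2.1
        · exact (prime_dvd_pgroup_card hWr ht h).symm ▸ hrL
    obtain ⟨c, hc, he⟩ := compl_conj_centralizer hG s'.hL s'.compl hE''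
      (zpowers_le.mpr ⟨sigmaCore_le N' hyN', hyN''⟩) (le_sup_left.trans hXE)
    rw [centralizer_zpowers_eq] at hc
    exact ⟨c, hc.2, ((conjMap_mono (le_sup_right.trans hXE)).trans he.le).trans inf_le_left⟩
  obtain ⟨w, hw, hwo⟩ := exists_order_p hWr hW1
  have hw'N : g * (c * w * c⁻¹) * g⁻¹ ∈ N := by
    have := mem_conjMap.mp (hcW (conj_mem_conjMap hw))
    rwa [inv_inv] at this
  have hw'o : orderOf (g * (c * w * c⁻¹) * g⁻¹) = r := by rw [orderOf_conj', orderOf_conj', hwo]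
  have hκN : r ∈ Cfsg.kappa N := by
    rw [← hw'o]
    refine mem_kappa_of_fix hG s.hL hw'N (hw'o.symm ▸ h2.1) (hw'o.symm ▸ hrN) (hw'o.symm ▸ hrk) fun hb => ?_
    have hm : g * y * g⁻¹ ∈ centralizer ({g * (c * w * c⁻¹) * g⁻¹} : Set G) := by
      rw [centralizer_conj]
      exact conj_mem_conjMap (mem_centralizer_comm.mp (mul_mem (mul_mem hcy (hWy hw)) (inv_mem hcy)))
    have hm' : g * y * g⁻¹ ∈ Cfsg.sigmaCore N ⊓ centralizer ({g * (c * w * c⁻¹) * g⁻¹} : Set G) :=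
      ⟨hgy, hm⟩
    rw [hb, mem_bot] at hm'
    exact hy1 (conj_eq_one_iff.mp hm')
  -- `B` is not centralized by `y`
  have hX1 : X ≠ ⊥ := by
    intro e
    have hWB : W = B := inf_eq_left.mpr (by
      rw [← centralizer_zpowers_eq]; exact commutator_eq_bot_iff_le_centralizer.mp e)
    have hsq : IsSq r (conjMap g (conjMap c B)) := (hB.sq.conjMap c).conjMap g
    refine hsq.not_prankLE_one ?_ hrk
    refine (conjMap_mono (hWB ▸ hcW)).trans ?_
    rw [hN'def, conjMap_conjMap, mul_inv_cancel, conjMap_one]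
  obtain ⟨q, A₁, hqF, hτ, hqσ, -, -, -, -⟩ := s.exists_square hG hM hx hx1
  obtain ⟨A, A₀, hAF, hA⟩ := tau2_square hG s.hL s.compl hτ
  have hAσ : A ≤ Cfsg.sigmaCore M := le_sigmaCore_of_pi hG hM (hAF.trans inf_le_left) fun t ht hd =>
    (prime_dvd_pgroup_card hA.sq.isPGroup ht hd) ▸ hqσ
  have hXC : X ≤ centralizer (A : Set G) := le_centralizer_iff.mp (hAσ.trans (hfrob X hXB hX1
    (CfsgLib.Comp.FF.le_normalizer_commutator hyB le_normalizer) hXf))
  obtain ⟨x₀, hx₀, hx₀o⟩ := exists_order_p (hB.sq.isPGroup.to_le hXB) hX1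
  have hx₀F : x₀ ∈ M ⊓ N := ⟨hB.le (hXB hx₀), hA.centralizer_le (hXC hx₀)⟩
  obtain ⟨K', U', E', d'⟩ := exists_of_mem_kappa hG s.hL hκN
  obtain ⟨K, U, d⟩ := exists_pdata_compl hG d' s.compl
  obtain ⟨-, hrK⟩ := (d.mem_kappa_iff hG).mp hκN
  obtain ⟨u, hu, k, hk, he⟩ := d.mem_mul x₀ hx₀F
  have hk1 : k ≠ 1 := fun e => by
    rw [e, mul_one] at he
    exact h2.1.ne_one (Nat.eq_one_of_dvd_coprimes d.coprime
      (hx₀o ▸ he ▸ U.orderOf_dvd_natCard hu) hrK)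
  have hAU : A ≤ U := fun a ha => d.mem_U_of hG (hAF ha) fun t ht htd htK => by
    obtain rfl := prime_dvd_pgroup_card hA.sq.isPGroup ht (htd.trans (A.orderOf_dvd_natCard ha))
    have hκq := (d.mem_kappa_iff hG).mpr ⟨ht, htK⟩
    rw [d.kappa_eq hG] at hκq
    exact hτ.2.2.2 hκq.2.2.2.2
  refine hA.sq.ne_bot (le_bot_iff.mp ((d.fpf k hk hk1) ▸ le_inf hAU fun a ha => ?_))
  rw [mem_centralizer_singleton_iff]
  have h1 : Commute a x₀ := mem_centralizer_iff.mp (hXC hx₀) a ha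
  have h3 : Commute a u := (commute_of_isMulCommutative d.comm hu (hAU ha)).symm
  have h4 : Commute a (u⁻¹ * x₀) := h3.inv_right.mul_right h1
  rw [he, inv_mul_cancel_left] at h4
  exact h4.eq

end CfsgLib.BG14

namespace CfsgLib.BG14

open Subgroup CfsgLib.PLocal CfsgLib.OddLocal CfsgLib.BG

universe v
variable {G : Type v} [Group G] [Finite G]
variable (hG : Cfsg.IsMinSimpleOddOrder G)
include hG

/-- A `σ(M)`-square lies in one conjugate of `M` only. -/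
theorem mem_of_common_square {M : Subgroup G} (hM : IsCoatom M) {q : ℕ} [hq : Fact q.Prime]
    (hσ : q ∈ Cfsg.sigma M) {A : Subgroup G} (hA : IsSq q A) (hAM : A ≤ M) {h : G}
    (hAh : A ≤ conjMap h M) : h ∈ M := by
  obtain ⟨P, hP, hAP⟩ := exists_sylowIn_le hA.isPGroup (le_inf hAM hAh)
  have hPc : ¬ IsCyclic P := fun hc => hA.not_isCyclic (Subgroup.isCyclic_of_le hAP)
  have hPM : P ≤ M := hP.1.trans inf_le_left
  have hPh : P ≤ conjMap h M := hP.1.trans inf_le_right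
  have hN1 : normalizer (P : Set G) ≤ M := normalizer_le_of_not_isCyclic hG hM hσ hP.2.1 hPM hPc
  have hN2 : normalizer (P : Set G) ≤ conjMap h M :=
    normalizer_le_of_not_isCyclic hG (isCoatom_conj hG hM h) (by rw [sigma_conjMap]; exact hσ) hP.2.1 hPh hPc
  obtain ⟨S, hS, hPS⟩ := exists_sylowIn_le hP.2.1 hPM
  have hPeq : P = S := by
    by_contra hne
    have hlt := card_lt_card_inf_normalizer hS.2.1 (lt_of_le_of_ne hPS hne)
    have hQ := hS.2.1.to_le (inf_le_left : S ⊓ normalizer (P : Set G) ≤ S)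
    obtain ⟨T, hT, hQT⟩ := exists_sylowIn_le hQ
      (le_inf (inf_le_right.trans hN1) (inf_le_right.trans hN2) :
        S ⊓ normalizer (P : Set G) ≤ M ⊓ conjMap h M)
    obtain ⟨c, -, he⟩ := hP.exists_conj_eq hT
    have h1 := Subgroup.card_le_of_le hQT
    have h2 : Nat.card T = Nat.card P := by
      rw [← card_conjMap c P, ← card_conjMap c T]
      first
        | (rw [he]; exact card_conjMap c T)
        | (rw [he]; exact (card_conjMap c P).symm)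
    omega
  subst hPeq
  have h1 : SylowIn q (conjMap h P) (conjMap h M) := by
    refine ⟨conjMap_mono hPM, hS.2.1.map _, ?_⟩
    rw [show (conjMap h P).relIndex (conjMap h M) = P.relIndex M from
      relIndex_map_map_of_injective _ _ (MulAut.conj h).injective]
    exact hS.2.2
  have h2 : SylowIn q P (conjMap h M) := h1.of_card_le hP.2.1 hPh (card_conjMap h P).le
  obtain ⟨x, hx, hxP⟩ := h1.exists_conj_eq h2
  have hcx : h⁻¹ * x ∈ conjMap h M := hN2 (conjMap_eq_self_iff.mp (by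
    rw [← conjMap_conjMap, hxP, conjMap_inv_conjMap]))
  have h3 := mem_conjMap.mp hcx
  rw [show h⁻¹ * (h⁻¹ * x) * h = h⁻¹ * (h⁻¹ * x * h) by group,
    Subgroup.mul_mem_cancel_right M (mem_conjMap.mp hx)] at h3
  exact inv_mem_iff.mp h3

theorem compl_conjMap_any {M E : Subgroup G} (hE : Cfsg.IsComplIn E (Cfsg.sigmaCore M) M) (g : G) :
    Cfsg.IsComplIn (conjMap g E) (Cfsg.sigmaCore (conjMap g M)) (conjMap g M) := by
  rw [sigmaCore_conjMap (M := M) g]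
  refine ⟨conjMap_mono hE.1, conjMap_mono hE.2.1, ?_, ?_⟩
  · rw [← conjMap_inf, hE.2.2.1]
    exact Subgroup.map_bot _
  · intro x hx
    obtain ⟨e, he, n, hn, he'⟩ := hE.2.2.2 _ (mem_conjMap.mp hx)
    refine ⟨g * e * g⁻¹, conj_mem_conjMap he, g * n * g⁻¹, conj_mem_conjMap hn, ?_⟩
    calc x = g * (g⁻¹ * x * g) * g⁻¹ := by group
      _ = g * (e * n) * g⁻¹ := by rw [he']
      _ = _ := by group

/-- Conjugate supports of `M` are conjugate in `M`. -/
theorem support_conj_in {M N N' : Subgroup G} {x y g : G} (hM : IsCoatom M) (hx : x ∈ Cfsg.sigmaCore M)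
    (hx1 : x ≠ 1) (s : IsSupport M N x) (s' : IsSupport M N' y) (hg : conjMap g N' = N) :
    ∃ m ∈ M, conjMap m N' = N := by
  obtain ⟨q, A, hqF, -, hqσ, hA, hAF, -, -⟩ := s.exists_square hG hM hx hx1
  have h1 := compl_conjMap_any hG s'.compl g
  rw [hg] at h1
  obtain ⟨c, hc, he⟩ := compl_conj hG s.hL s.compl h1
  have hm : c * g ∈ M := mem_of_common_square hG hM hqσ hA (hAF.trans inf_le_left) (by
    refine hAF.trans (he.symm.le.trans ?_)
    rw [← conjMap_conjMap]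
    exact conjMap_mono (conjMap_mono inf_le_left))
  exact ⟨c * g, hm, by
    rw [← conjMap_conjMap, hg, conjMap_eq_self_iff.mpr (le_normalizer (sigmaCore_le N hc))]⟩

theorem exists_support_eq {M N : Subgroup G} {x : G} (hM : IsCoatom M) (hx : x ∈ Cfsg.sigmaCore M)
    (hx1 : x ≠ 1) (hxM : ¬ centralizer ({x} : Set G) ≤ M) (hN : IsCoatom N)
    (hxN : centralizer ({x} : Set G) ≤ N) : IsSupport M N x := by
  obtain ⟨L, s⟩ := exists_support hG hM hx hx1 hxM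
  exact (s.unique N hN hxN) ▸ s

end CfsgLib.BG14
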