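import Cfsg.Agent.Lib.BG14.Interface
import Cfsg.Agent.Lib.BG.Fusion
import Cfsg.Agent.Lib.BG.Tau
import Cfsg.Agent.Lib.OddLocal.FrobeniusModule
import Cfsg.Agent.Lib.Transfer.Frobenius
import Cfsg.Agent.Lib.Coprime.Sylow

/-!
General tools for the maximal subgroups of a minimal simple group of odd order.
-/

set_option autoImplicit false
set_option linter.style.haveILetI false
set_option linter.unusedSectionVars false

namespace CfsgLib.BG14

open Subgroup CfsgLib.PLocal CfsgLib.OddLocal CfsgLib.BG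
open scoped commutatorElement

universe u
variable {G : Type u} [Group G] [Finite G]

theorem card_zpowers_eq {x : G} {p : ℕ} (h : orderOf x = p) : Nat.card (zpowers x) = p := by
  rw [Nat.card_zpowers, h]

theorem centralizer_le_of_mem {X : Subgroup G} {x : G} (hx : x ∈ X) :
    centralizer (X : Set G) ≤ centralizer ({x} : Set G) :=
  Subgroup.centralizer_le (Set.singleton_subset_iff.mpr hx)

theorem centralizer_singleton_le_pow (x : G) (i : ℕ) :
    centralizer ({x} : Set G) ≤ centralizer ({x ^ i} : Set G) := by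
  intro a ha
  rw [mem_centralizer_singleton_iff] at ha ⊢
  exact ((show Commute a x from ha).pow_right i).eq

theorem mem_centralizer_comm {a x : G} :
    a ∈ centralizer ({x} : Set G) ↔ x ∈ centralizer ({a} : Set G) := by
  rw [mem_centralizer_singleton_iff, mem_centralizer_singleton_iff]; exact eq_comm

theorem mem_zpowers_centralizer {a x : G} (h : a ∈ centralizer ({x} : Set G)) :
    zpowers a ≤ centralizer (zpowers x : Set G) := by
  rw [centralizer_zpowers_eq, zpowers_le]; exact h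

theorem exists_pow_orderOf_eq {x : G} {p : ℕ} (h : p ∣ orderOf x) :
    orderOf (x ^ (orderOf x / p)) = p := orderOf_pow_orderOf_div (orderOf_pos x).ne' h

theorem exists_prime_pow {x : G} (hx : x ≠ 1) :
    ∃ p i : ℕ, p.Prime ∧ p ∣ orderOf x ∧ orderOf (x ^ i) = p := by
  obtain ⟨p, hp, hd⟩ := Nat.exists_prime_and_dvd (fun h => hx (orderOf_eq_one_iff.mp h))
  exact ⟨p, _, hp, hd, exists_pow_orderOf_eq hd⟩

theorem exists_prime_element {X : Subgroup G} (hX : X ≠ ⊥) :
    ∃ x ∈ X, (orderOf x).Prime := by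
  obtain ⟨x, hx, hx1⟩ := X.bot_or_exists_ne_one.resolve_left hX
  obtain ⟨p, i, hp, -, hi⟩ := exists_prime_pow hx1
  exact ⟨x ^ i, pow_mem hx i, hi.symm ▸ hp⟩

theorem isMulCommutative_of_le {A B : Subgroup G} (h : A ≤ B) (hB : IsMulCommutative B) :
    IsMulCommutative A :=
  ⟨⟨fun a b => Subtype.ext (congrArg (fun z : B => (z : G)) (hB.is_comm.comm ⟨a, h a.2⟩ ⟨b, h b.2⟩))⟩⟩

theorem le_centralizer_of_isMulCommutative {A : Subgroup G} (h : IsMulCommutative A) :
    A ≤ centralizer (A : Set G) := fun a ha =>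
  mem_centralizer_iff.mpr fun b hb => congrArg Subtype.val (h.is_comm.comm ⟨b, hb⟩ ⟨a, ha⟩)

/-- Two subgroups normalising each other and meeting trivially commute. -/
theorem le_centralizer_of_normalize {A B : Subgroup G} (hA : A ≤ normalizer (B : Set G))
    (hB : B ≤ normalizer (A : Set G)) (h : A ⊓ B = ⊥) : A ≤ centralizer (B : Set G) :=
  commutator_eq_bot_iff_le_centralizer.mp (le_bot_iff.mp (h ▸ le_inf
    (le_normalizer_iff_commutator_le_left.mp hB) (le_normalizer_iff_commutator_le_right.mp hA)))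

theorem eq_of_inUniqueMaximal {X M L : Subgroup G} (h : Cfsg.InUniqueMaximal X) (hM : IsCoatom M)
    (hXM : X ≤ M) (hL : IsCoatom L) (hXL : X ≤ L) : L = M :=
  h.unique ⟨hL, hXL⟩ ⟨hM, hXM⟩

variable (hG : Cfsg.IsMinSimpleOddOrder G)
include hG

theorem exists_coatom_normalizer {X : Subgroup G} (h1 : X ≠ ⊥) (h2 : X ≠ ⊤) :
    ∃ L, IsCoatom L ∧ normalizer (X : Set G) ≤ L := by
  obtain ⟨L, hL, h⟩ := (eq_top_or_exists_le_coatom _).resolve_left (minSimple_normalizer_ne_top hG h1 h2)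
  exact ⟨L, hL, h⟩

theorem exists_coatom_centralizer {x : G} (h1 : x ≠ 1) :
    ∃ L, IsCoatom L ∧ centralizer ({x} : Set G) ≤ L := by
  obtain ⟨L, hL, h⟩ :=
    (eq_top_or_exists_le_coatom _).resolve_left (minSimple_centralizer_singleton_ne_top hG h1)
  exact ⟨L, hL, h⟩

theorem two_lt_of_dvd {p : ℕ} (hp : p.Prime) (h : p ∣ Nat.card G) : 2 < p :=
  lt_of_le_of_ne hp.two_le (prime_ne_two hG h).symm

omit hG in
/-- A Frobenius group acting coprimely: if the kernel fixes the fixed points of a complement, it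
fixes everything. -/
theorem frobenius_fixed {U E H : Subgroup G} (hU1 : U ≠ ⊥) (hE1 : E ≠ ⊥)
    (hEU : E ≤ normalizer (U : Set G))
    (hfpf : ∀ e ∈ E, e ≠ 1 → U ⊓ centralizer ({e} : Set G) = ⊥)
    (hH : U ⊔ E ≤ normalizer (H : Set G)) (hs : Group.IsSolvable H)
    (hcop : (Nat.card H).Coprime (Nat.card ↥(U ⊔ E)))
    (hfix : H ⊓ centralizer (E : Set G) ≤ centralizer (U : Set G)) :
    H ≤ centralizer (U : Set G) := by
  have hUE : U ⊓ E = ⊥ := by
    by_contra hne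
    obtain ⟨x, hx, hx1⟩ := (U ⊓ E).bot_or_exists_ne_one.resolve_left hne
    exact hx1 (mem_bot.mp ((hfpf x hx.2 hx1) ▸ ⟨hx.1, mem_centralizer_singleton_iff.mpr rfl⟩))
  have h := Cfsg.Agent.S1545.result U E H hU1 hE1 hUE
    (fun e he u hu => (mem_normalizer_iff.1 (hEU he) u).1 hu)
    (fun e he he1 u hu heu => mem_bot.1
      (hfpf e he he1 ▸ ⟨hu, mem_centralizer_singleton_iff.2 heu.symm⟩))
    (fun x hx h hh => (mem_normalizer_iff.1 (hH hx) h).1 hh)
    (CfsgLib.Coprime.inf_eq_bot_of_coprime hcop) hs hcop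
  have heq : H ⊓ centralizer (E : Set G) = H ⊓ centralizer ((U ⊔ E : Subgroup G) : Set G) := by
    refine le_antisymm (le_inf inf_le_left ?_) (inf_le_inf_left H (Subgroup.centralizer_le
      (SetLike.coe_subset_coe.2 le_sup_right)))
    rw [le_centralizer_iff, sup_le_iff]
    exact ⟨le_centralizer_iff.mp hfix, le_centralizer_iff.mp inf_le_right⟩
  rw [heq] at h
  have h2 := Nat.eq_of_mul_eq_mul_left (pow_pos Nat.card_pos _) h
  exact (eq_of_le_of_card_ge inf_le_left h2.le).ge.trans inf_le_right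

omit hG in
/-- Two different complements with equal fixed points force the kernel to act trivially. -/
theorem frobenius_two {U A B H : Subgroup G} (hU1 : U ≠ ⊥) (hB1 : B ≠ ⊥) (hBA : B ≤ A) (hne : B ≠ A)
    (hAU : A ≤ normalizer (U : Set G))
    (hfpf : ∀ a ∈ A, a ≠ 1 → U ⊓ centralizer ({a} : Set G) = ⊥)
    (hH : U ⊔ A ≤ normalizer (H : Set G)) (hs : Group.IsSolvable H)
    (hcop : (Nat.card H).Coprime (Nat.card ↥(U ⊔ A)))
    (hfix : H ⊓ centralizer (B : Set G) ≤ centralizer (A : Set G)) :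
    H ≤ centralizer (U : Set G) := by
  have hA1 : A ≠ ⊥ := fun h => hB1 (le_bot_iff.mp (h ▸ hBA))
  have hdisj : ∀ E : Subgroup G, E ≤ A → U ⊓ E = ⊥ := fun E hE => by
    by_contra hne
    obtain ⟨x, hx, hx1⟩ := (U ⊓ E).bot_or_exists_ne_one.resolve_left hne
    exact hx1 (mem_bot.mp ((hfpf x (hE hx.2) hx1) ▸ ⟨hx.1, mem_centralizer_singleton_iff.mpr rfl⟩))
  have hform : ∀ E : Subgroup G, E ≤ A → E ≠ ⊥ → _ := fun E hE hE1 =>
    Cfsg.Agent.S1545.result U E H hU1 hE1 (hdisj E hE)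
      (fun e he u hu => (mem_normalizer_iff.1 (hAU (hE he)) u).1 hu)
      (fun e he he1 u hu heu => mem_bot.1
        (hfpf e (hE he) he1 ▸ ⟨hu, mem_centralizer_singleton_iff.2 heu.symm⟩))
      (fun x hx h hh => (mem_normalizer_iff.1 (hH (sup_le_sup_left hE U hx)) h).1 hh)
      (CfsgLib.Coprime.inf_eq_bot_of_coprime
        (hcop.coprime_dvd_right (card_dvd_of_le (sup_le_sup_left hE U)))) hs
      (hcop.coprime_dvd_right (card_dvd_of_le (sup_le_sup_left hE U)))
  have hA := hform A le_rfl hA1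
  have hB := hform B hBA hB1
  have hc : H ⊓ centralizer (B : Set G) = H ⊓ centralizer (A : Set G) :=
    le_antisymm (le_inf inf_le_left hfix)
      (inf_le_inf_left H (Subgroup.centralizer_le (SetLike.coe_subset_coe.2 hBA)))
  have hd : H ⊓ centralizer ((U ⊔ B : Subgroup G) : Set G) =
      H ⊓ centralizer ((U ⊔ A : Subgroup G) : Set G) := by
    refine le_antisymm (le_inf inf_le_left ?_) (inf_le_inf_left H (Subgroup.centralizer_le
      (SetLike.coe_subset_coe.2 (sup_le_sup_left hBA U))))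
    rw [le_centralizer_iff, sup_le_iff]
    refine ⟨le_centralizer_iff.mp (inf_le_right.trans (Subgroup.centralizer_le
      (SetLike.coe_subset_coe.2 le_sup_left))), le_centralizer_iff.mp ?_⟩
    exact le_trans (le_trans (inf_le_inf_left H (Subgroup.centralizer_le
      (SetLike.coe_subset_coe.2 le_sup_right))) hc.le) inf_le_right
  rw [hd, hc] at hB
  set c := Nat.card ↥(H ⊓ centralizer (A : Set G))
  set d := Nat.card ↥(H ⊓ centralizer ((U ⊔ A : Subgroup G) : Set G))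
  set t := Nat.card ↥(H ⊓ centralizer (U : Set G))
  have hc0 : 0 < c := Nat.card_pos
  have hd0 : 0 < d := Nat.card_pos
  have hlt : Nat.card B < Nat.card A :=
    lt_of_le_of_ne (card_le_of_le hBA) fun h => hne (eq_of_le_of_card_ge hBA h.ge)
  obtain ⟨k, hk⟩ := Nat.exists_eq_add_of_lt hlt
  have hcd : c ^ (k + 1) = d ^ (k + 1) := by
    have hpos : 0 < c ^ Nat.card B * t := Nat.mul_pos (pow_pos hc0 _) Nat.card_pos
    refine Nat.eq_of_mul_eq_mul_left hpos ?_
    calc c ^ Nat.card B * t * c ^ (k + 1) = c ^ Nat.card A * t := by rw [hk]; ring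
      _ = d ^ Nat.card A * Nat.card H := hA.symm
      _ = d ^ (k + 1) * (d ^ Nat.card B * Nat.card H) := by rw [hk]; ring
      _ = c ^ Nat.card B * t * d ^ (k + 1) := by rw [hB]; ring
  have hcd' : c = d := Nat.pow_left_injective (Nat.succ_ne_zero k) hcd
  rw [← hcd'] at hA
  exact (eq_of_le_of_card_ge inf_le_left
    (Nat.eq_of_mul_eq_mul_left (pow_pos hc0 _) hA).le).ge.trans inf_le_right

variable {M : Subgroup G} (hM : IsCoatom M)
include hM

theorem mem_sigmaCore_of {x : G} (hx : x ∈ M)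
    (h : ∀ p : ℕ, p.Prime → p ∣ orderOf x → p ∈ Cfsg.sigma M) : x ∈ Cfsg.sigmaCore M := by
  have hle : zpowers x ≤ M := zpowers_le.mpr hx
  exact le_sigmaCore_of_pi hG hM hle (fun p hp hd => h p hp (by rwa [Nat.card_zpowers] at hd))
    (mem_zpowers x)

theorem not_sigma_of_mem_compl {E : Subgroup G} (hE : Cfsg.IsComplIn E (Cfsg.sigmaCore M) M) {x : G}
    (hx : x ∈ E) {p : ℕ} (hp : p.Prime) (hd : p ∣ orderOf x) : p ∉ Cfsg.sigma M :=
  not_sigma_of_dvd_compl hG hM hE hp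
    (hd.trans (by rw [← Nat.card_zpowers]; exact card_dvd_of_le (zpowers_le.mpr hx)))

/-- Complements containing `X` are conjugate by the centralizer of `X` in `M_σ`. -/
theorem compl_conj_centralizer {E E' X : Subgroup G} (hE : Cfsg.IsComplIn E (Cfsg.sigmaCore M) M)
    (hE' : Cfsg.IsComplIn E' (Cfsg.sigmaCore M) M) (hX : X ≤ E) (hX' : X ≤ E') :
    ∃ c ∈ Cfsg.sigmaCore M ⊓ centralizer (X : Set G), conjMap c E' = E := by
  obtain ⟨c, hc, hce⟩ := compl_conj hG hM hE hE'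
  refine ⟨c, ⟨hc, mem_centralizer_iff.mpr fun x hx => ?_⟩, hce⟩
  have h1 : c * x * c⁻¹ * x⁻¹ ∈ E :=
    mul_mem (hce ▸ conj_mem_conjMap (hX' hx)) (inv_mem (hX hx))
  have h2 : c * x * c⁻¹ * x⁻¹ ∈ Cfsg.sigmaCore M := by
    rw [show c * x * c⁻¹ * x⁻¹ = c * (x * c⁻¹ * x⁻¹) by group]
    exact mul_mem hc ((mem_normalizer_iff.mp
      (le_normalizer_sigmaCore M (hE.1 (hX hx))) _).mp (inv_mem hc))
  have h3 : c * x * c⁻¹ * x⁻¹ ∈ E ⊓ Cfsg.sigmaCore M := ⟨h1, h2⟩
  rw [hE.2.2.1, mem_bot, mul_inv_eq_one, mul_inv_eq_iff_eq_mul] at h3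
  exact h3.symm

theorem derived_ne_top' : ⁅M, M⁆ ≤ M := le_normalizer_iff_commutator_le_left.mp le_normalizer

/-- For a prime outside `β(M)`, elements of `M'` of order prime to `q` normalizing a `q`-subgroup of
`M'` centralize it. -/
theorem nonbeta_centralizes {q : ℕ} [hq : Fact q.Prime] (hβ : q ∉ Cfsg.beta M) {Q : Subgroup G}
    (hQ : IsPGroup q Q) (hQM : Q ≤ ⁅M, M⁆) {y : G} (hy : y ∈ ⁅M, M⁆)
    (hyn : y ∈ normalizer (Q : Set G)) (hyc : (orderOf y).Coprime q) :
    y ∈ centralizer (Q : Set G) := by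
  by_cases hQ1 : Q = ⊥
  · rw [mem_centralizer_iff]
    intro a ha
    have ha1 : a = 1 := mem_bot.mp (hQ1 ▸ ha)
    rw [ha1, one_mul, mul_one]
  have hd : q ∣ Nat.card M := (dvd_card_of_pgroup_ne_bot hQ hQ1).trans
    (card_dvd_of_le (hQM.trans (derived_ne_top' hG hM)))
  obtain ⟨-, -, -, -, h⟩ := i1414 hG M hM
  have hN := (CfsgLib.Transfer.hasNormalPComplement_iff_frobenius.mp (h q hq.out hd hβ).1)
    (Q.subgroupOf ⁅M, M⁆) (hQ.comap_subtype (K := ⁅M, M⁆)) ⟨y, hy⟩ (by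
      rw [mem_normalizer_iff]
      intro a
      simp only [mem_subgroupOf, Subgroup.coe_mul, Subgroup.coe_inv]
      exact mem_normalizer_iff.mp hyn a)
    (by rwa [Subgroup.orderOf_mk])
  rw [mem_centralizer_iff]
  intro a ha
  exact congrArg Subtype.val (mem_centralizer_iff.mp hN ⟨a, hQM ha⟩ ha)

omit hG hM in
theorem beta_subset_alpha {p : ℕ} (h : p ∈ Cfsg.beta M) : p ∈ Cfsg.alpha M := h.1

/-- The primes of a complement fall into `τ₁`, `τ₂`, `τ₃`. -/
theorem tau_cases {p : ℕ} (hp : p.Prime) (hd : p ∣ Nat.card M) (hσ : p ∉ Cfsg.sigma M) :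
    p ∈ Cfsg.tau2 M ∨ p ∈ Cfsg.tau1 M ∨ p ∈ Cfsg.tau3 M := by
  haveI := Fact.mk hp
  by_cases h1 : Cfsg.PRankLE p 1 M
  · by_cases h' : p ∣ Nat.card ↥⁅M, M⁆
    · exact Or.inr (Or.inr ⟨hp, hσ, h', h1⟩)
    · exact Or.inr (Or.inl ⟨hp, hσ, hd, h', h1⟩)
  · exact Or.inl ⟨hp, hσ, prankLE_two_of_not_sigma hG hM hσ, h1⟩

theorem not_tau2_of_prankLE_one {p : ℕ} (h : Cfsg.PRankLE p 1 M) : p ∉ Cfsg.tau2 M :=
  fun h' => h'.2.2.2 h

theorem tau13_prankLE {p : ℕ} (h : p ∈ Cfsg.tau1 M ∨ p ∈ Cfsg.tau3 M) : Cfsg.PRankLE p 1 M :=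
  h.elim (fun h => h.2.2.2.2) (fun h => h.2.2.2)

end CfsgLib.BG14
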