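import Cfsg.Agent.Lib.BG14.Basic
import Cfsg.Agent.Lib.OddLocal.SCNUniqueTools

/-!
Sylow subgroups under coprime action, prime action of the cyclic parts of a complement of `M_σ`.
-/

set_option autoImplicit false
set_option linter.style.haveILetI false
set_option linter.unusedSectionVars false

namespace CfsgLib.BG14

open Subgroup CfsgLib.PLocal CfsgLib.OddLocal CfsgLib.BG
open scoped commutatorElement

universe u
variable {G : Type u} [Group G] [Finite G]

theorem exists_sylow_map {p : ℕ} [Fact p.Prime] {T H : Subgroup G} (h : SylowIn p T H) :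
    ∃ S : Sylow p H, (S : Subgroup H).map H.subtype = T := by
  refine ⟨(h.2.1.comap_subtype (K := H)).toSylow h.2.2, ?_⟩
  show (T.subgroupOf H).map H.subtype = T
  rw [subgroupOf_map_subtype, inf_eq_left.mpr h.1]

theorem exists_conj_invariant {p : ℕ} [Fact p.Prime] {A K T T' : Subgroup G}
    (hA : A ≤ normalizer (K : Set G)) (hcop : (Nat.card A).Coprime (Nat.card K))
    (hs : Group.IsSolvable A ∨ Group.IsSolvable K) (hT : SylowIn p T K) (hT' : SylowIn p T' K)
    (hAT : A ≤ normalizer (T : Set G)) (hAT' : A ≤ normalizer (T' : Set G)) :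
    ∃ c ∈ K ⊓ centralizer (A : Set G), conjMap c T' = T := by
  obtain ⟨S, rfl⟩ := exists_sylow_map hT
  obtain ⟨S', rfl⟩ := exists_sylow_map hT'
  exact CfsgLib.Coprime.exists_conj_invariant_sylow hA hcop hs S' S hAT' hAT

theorem exists_invariant_sylowIn {A K : Subgroup G}
    (hA : A ≤ normalizer (K : Set G)) (hcop : (Nat.card A).Coprime (Nat.card K))
    (hs : Group.IsSolvable A ∨ Group.IsSolvable K) (p : ℕ) [Fact p.Prime] :
    ∃ T, SylowIn p T K ∧ A ≤ normalizer (T : Set G) := by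
  obtain ⟨S, hS⟩ := CfsgLib.Coprime.exists_invariant_sylow hA hcop hs p
  exact ⟨_, sylowIn_map S, hS⟩

/-- A subgroup containing one Sylow subgroup for each prime is everything. -/
theorem le_of_sylows {E K : Subgroup G}
    (h : ∀ r : ℕ, r.Prime → r ∣ Nat.card E → ∃ S, SylowIn r S E ∧ S ≤ K) : E ≤ K := by
  rw [← relIndex_eq_one]
  by_contra hne
  obtain ⟨r, hr, hd⟩ := Nat.exists_prime_and_dvd hne
  rw [← inf_relIndex_right] at hd
  obtain ⟨S, hS, hSK⟩ := h r hr (hd.trans (relIndex_dvd_card _ _))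
  haveI := Fact.mk hr
  exact hS.2.2 (hd.trans (relIndex_dvd_of_le_left E (le_inf hSK hS.1)))

/-- Fixed points of `E` from its Sylow subgroups. -/
theorem mem_centralizer_of_sylows {E : Subgroup G} {y : G}
    (h : ∀ r : ℕ, r.Prime → r ∣ Nat.card E → ∃ S, SylowIn r S E ∧ y ∈ centralizer (S : Set G)) :
    y ∈ centralizer (E : Set G) := by
  have hle : E ≤ centralizer ({y} : Set G) := le_of_sylows fun r hr hd => by
    obtain ⟨S, hS, hyS⟩ := h r hr hd
    exact ⟨S, hS, fun s hs =>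
      mem_centralizer_singleton_iff.mpr (mem_centralizer_iff.mp hyS s hs)⟩
  exact mem_centralizer_iff.mpr fun e he => mem_centralizer_singleton_iff.mp (hle he)

variable (hG : Cfsg.IsMinSimpleOddOrder G) {M : Subgroup G} (hM : IsCoatom M)
include hG hM

/-- A `σ(M)'`-subgroup normalizing a Sylow subgroup of `M_σ` lies in a complement doing so. -/
theorem exists_compl_normalizing {p : ℕ} [Fact p.Prime] {T X : Subgroup G}
    (hT : SylowIn p T (Cfsg.sigmaCore M)) (hX : X ≤ M)
    (hπ : ∀ r : ℕ, r.Prime → r ∣ Nat.card X → r ∉ Cfsg.sigma M)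
    (hXT : X ≤ normalizer (T : Set G)) :
    ∃ E, Cfsg.IsComplIn E (Cfsg.sigmaCore M) M ∧ X ≤ E ∧ E ≤ normalizer (T : Set G) := by
  obtain ⟨E, hE, hXE⟩ := exists_compl_ge hG hM hX hπ
  have hEn : E ≤ normalizer (Cfsg.sigmaCore M : Set G) := hE.1.trans (le_normalizer_sigmaCore M)
  have hcop := coprime_sigmaCore hG hM (X := E) fun r hr h => not_sigma_of_dvd_compl hG hM hE hr h
  have hs : Group.IsSolvable E ∨ Group.IsSolvable (Cfsg.sigmaCore M) :=
    Or.inl (isSolvable_of_le_max hG hM hE.1)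
  obtain ⟨T', hT', hET'⟩ := exists_invariant_sylowIn hEn hcop hs p
  obtain ⟨c, hc, hcT⟩ := exists_conj_invariant (hX.trans (le_normalizer_sigmaCore M))
    (coprime_sigmaCore hG hM hπ) (Or.inl (isSolvable_of_le_max hG hM hX)) hT hT' hXT (hXE.trans hET')
  refine ⟨conjMap c E, compl_conjMap hG hM hE (sigmaCore_le M hc.1), fun x hx => ?_, ?_⟩
  · rw [mem_conjMap]
    have h : x * c = c * x := mem_centralizer_iff.mp hc.2 x hx
    rw [show c⁻¹ * x * c = c⁻¹ * (x * c) by group, h, inv_mul_cancel_left]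
    exact hXE hx
  · rw [← hcT, ← conjMap_normalizer]; exact conjMap_mono hET'

/-- `τ₁`-elements: fixed points grow along commuting prime elements. -/
theorem tau1_fix {E : Subgroup G} (hE : Cfsg.IsComplIn E (Cfsg.sigmaCore M) M) {e f : G}
    (he : e ∈ E) (hf : f ∈ E) (hcomm : e * f = f * e) (het : orderOf e ∈ Cfsg.tau1 M)
    (hfp : (orderOf f).Prime) :
    Cfsg.sigmaCore M ⊓ centralizer ({e} : Set G) ≤ centralizer ({f} : Set G) := by
  have h := i1428 hG M hM E hE (orderOf e) het (zpowers e) (zpowers_le.mpr he) (card_zpowers_eq rfl)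
    (zpowers f) (le_inf (zpowers_le.mpr hf)
      (mem_zpowers_centralizer (mem_centralizer_singleton_iff.mpr hcomm.symm)))
    (by rwa [card_zpowers_eq rfl])
  rw [centralizer_zpowers_eq, centralizer_zpowers_eq] at h
  exact h.trans inf_le_right

/-- In a cyclic Sylow subgroup of a complement all non-identity elements fix the same points. -/
theorem cyclic_sylow_fix {E S : Subgroup G} (hE : Cfsg.IsComplIn E (Cfsg.sigmaCore M) M) {r : ℕ}
    [Fact r.Prime] (hS : SylowIn r S E) (hc : IsCyclic S) {x : G} (hx : x ∈ S) (hx1 : x ≠ 1) :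
    Cfsg.sigmaCore M ⊓ centralizer ({x} : Set G) ≤ centralizer (S : Set G) := by
  obtain ⟨P, rfl⟩ := exists_sylow_map hS
  have hP1 : (P : Subgroup E) ≠ ⊥ := fun h => hx1 (by
    rw [h, Subgroup.map_bot] at hx; exact mem_bot.mp hx)
  exact (i1427 hG M hM E hE r P hP1
    (((P : Subgroup E).equivMapOfInjective _ E.subtype_injective).isCyclic.mpr hc) x hx hx1).le.trans
    inf_le_right

omit hM in
theorem isCyclic_of_prankLE_one {r : ℕ} [Fact r.Prime] {S H : Subgroup G} (hS : IsPGroup r S)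
    (hSH : S ≤ H) (hr : Cfsg.PRankLE r 1 H) : IsCyclic S :=
  isCyclic_pgroup_of_prankLE_one hG hS hSH hr

/-- Sylow subgroups of `E` at `τ₃` primes lie in `E'`. -/
theorem sylow_tau3_le_derived {E S : Subgroup G} (hE : Cfsg.IsComplIn E (Cfsg.sigmaCore M) M) {r : ℕ}
    [Fact r.Prime] (hS : IsPGroup r S) (hSE : S ≤ E) (hr : r ∈ Cfsg.tau3 M) : S ≤ ⁅E, E⁆ :=
  tau3_le_derived hG hM hE hSE fun p hp hd => prime_dvd_pgroup_card hS hp hd ▸ hr

/-- A point fixed by a prime `τ₁`-element is fixed by the Sylow subgroups of a `τ₁`-Hall subgroup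
around it. -/
theorem tau1_sylow_fix {E : Subgroup G} (hE : Cfsg.IsComplIn E (Cfsg.sigmaCore M) M) {e : G}
    (he : e ∈ E) (het : orderOf e ∈ Cfsg.tau1 M) {r : ℕ} (hr : r ∈ Cfsg.tau1 M) :
    ∃ S, SylowIn r S E ∧
      Cfsg.sigmaCore M ⊓ centralizer ({e} : Set G) ≤ centralizer (S : Set G) := by
  haveI := Fact.mk hr.1
  obtain ⟨E₁, hE₁, -, heE₁⟩ := CfsgLib.Coprime.exists_invariant_hall_ge (A := (⊥ : Subgroup G))
    (G := E) (U := zpowers e) (π := Cfsg.tau1 M) bot_le (by simp) (isSolvable_of_le_max hG hM hE.1)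
    (zpowers_le.mpr he) bot_le (fun p hp hd => by
      rw [Nat.card_zpowers] at hd
      rwa [(Nat.prime_dvd_prime_iff_eq hp het.1).mp hd])
  obtain ⟨-, hcyc, -⟩ := i1415 hG M hM E hE
  haveI : IsCyclic E₁ := hcyc E₁ hE₁
  obtain ⟨S, hS, -⟩ := exists_sylowIn_le (IsPGroup.of_bot (p := r) (G := G)) (bot_le (a := E₁))
  have hSE : SylowIn r S E := by
    refine ⟨hS.1.trans hE₁.1, hS.2.1, ?_⟩
    rw [← relIndex_mul_relIndex _ _ _ hS.1 hE₁.1]
    exact fun hd => (hr.1.dvd_mul.mp hd).elim hS.2.2 (hE₁.2.2 r hr.1 hr)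
  refine ⟨S, hSE, ?_⟩
  by_cases hS1 : S = ⊥
  · intro y _
    rw [mem_centralizer_iff]
    intro s hs
    rw [hS1] at hs
    rw [mem_bot.mp hs, one_mul, mul_one]
  obtain ⟨f, hf, hfp⟩ := exists_prime_element hS1
  have hcom : e * f = f * e := congrArg (fun z : E₁ => (z : G))
    ((IsCyclic.commGroup (α := E₁)).mul_comm ⟨e, heE₁ (mem_zpowers e)⟩ ⟨f, hS.1 hf⟩)
  exact (le_inf inf_le_left (tau1_fix hG hM hE he (hSE.1 hf) hcom het hfp)).trans
    (cyclic_sylow_fix hG hM hE hSE (isCyclic_of_prankLE_one hG hSE.2.1 (hSE.1.trans hE.1) hr.2.2.2.2)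
      hf (fun h => hfp.ne_one (by rw [h, orderOf_one])))

end CfsgLib.BG14
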