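import Cfsg.Agent.Lib.BG14.KappaBase
import Cfsg.Agent.Lib.BG14.Tilde

/-!
Maximal subgroups all of whose complement elements of prime order fix the same points of `M_σ`.
-/

set_option autoImplicit false
set_option linter.style.haveILetI false
set_option linter.unusedSectionVars false

namespace CfsgLib.BG14

open Subgroup CfsgLib.PLocal CfsgLib.OddLocal CfsgLib.BG
open scoped commutatorElement

universe u
variable {G : Type u} [Group G] [Finite G]

/-- All elements of prime order of the complement `E` fix exactly the points fixed by `E`. -/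
structure AllFix (M E : Subgroup G) : Prop where
  hM : IsCoatom M
  compl : Cfsg.IsComplIn E (Cfsg.sigmaCore M) M
  ne_bot : Cfsg.sigmaCore M ⊓ centralizer (E : Set G) ≠ ⊥
  nontriv : E ≠ ⊥
  tau : ∀ g ∈ E, (orderOf g).Prime → orderOf g ∈ Cfsg.tau1 M ∨ orderOf g ∈ Cfsg.tau3 M
  fix : ∀ g ∈ E, (orderOf g).Prime →
    Cfsg.sigmaCore M ⊓ centralizer ({g} : Set G) ≤ centralizer (E : Set G)
  normal : ∀ g ∈ E, (orderOf g).Prime → E ≤ normalizer (zpowers g : Set G)

variable (hG : Cfsg.IsMinSimpleOddOrder G)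
include hG

theorem AllFix.conj {M E : Subgroup G} (a : AllFix M E) {c : G} (hc : c ∈ M) :
    AllFix M (conjMap c E) := by
  have hσ : conjMap c (Cfsg.sigmaCore M) = Cfsg.sigmaCore M :=
    conjMap_eq_self_iff.mpr (le_normalizer_sigmaCore M hc)
  have hcent : ∀ {X : Subgroup G}, ∀ {y : G}, y ∈ centralizer (X : Set G) →
      c * y * c⁻¹ ∈ centralizer (conjMap c X : Set G) := by
    intro X y hy
    rw [mem_centralizer_iff]
    intro x hx
    have h := mem_centralizer_iff.mp hy _ (mem_conjMap.mp hx)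
    calc x * (c * y * c⁻¹) = c * ((c⁻¹ * x * c) * y) * c⁻¹ := by group
      _ = c * (y * (c⁻¹ * x * c)) * c⁻¹ := by rw [h]
      _ = _ := by group
  have hord : ∀ g ∈ conjMap c E, orderOf (c⁻¹ * g * c) = orderOf g := fun g _ => by
    have := orderOf_conj' c⁻¹ g
    rwa [inv_inv] at this
  refine ⟨a.hM, compl_conjMap hG a.hM a.compl hc, ?_, conjMap_ne_bot a.nontriv,
    fun g hg hp => hord g hg ▸ a.tau _ (mem_conjMap.mp hg) ((hord g hg).symm ▸ hp), ?_, ?_⟩
  · obtain ⟨y, hy, hy1⟩ := (Cfsg.sigmaCore M ⊓ centralizer (E : Set G)).bot_or_exists_ne_one.resolve_left a.ne_bot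
    intro h
    have hm : c * y * c⁻¹ ∈ Cfsg.sigmaCore M ⊓ centralizer (conjMap c E : Set G) :=
      ⟨hσ ▸ conj_mem_conjMap hy.1, hcent hy.2⟩
    rw [h, mem_bot] at hm
    exact hy1 (conj_eq_one_iff.mp hm)
  · intro g hg hp y hy
    have h := a.fix _ (mem_conjMap.mp hg) ((hord g hg).symm ▸ hp) (x := c⁻¹ * y * c) ⟨?_, ?_⟩
    · have := hcent h
      rwa [show c * (c⁻¹ * y * c) * c⁻¹ = y by group] at this
    · exact mem_conjMap.mp (hσ.symm ▸ hy.1)
    · have hgy := mem_centralizer_singleton_iff.mp hy.2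
      show c⁻¹ * y * c ∈ centralizer ({c⁻¹ * g * c} : Set G)
      rw [mem_centralizer_singleton_iff]
      calc c⁻¹ * y * c * (c⁻¹ * g * c) = c⁻¹ * (y * g) * c := by group
        _ = c⁻¹ * (g * y) * c := by rw [hgy]
        _ = _ := by group
  · intro g hg hp
    have hz : zpowers g = conjMap c (zpowers (c⁻¹ * g * c)) := by
      show _ = (zpowers _).map _
      rw [MonoidHom.map_zpowers]
      congr 1
      show g = c * (c⁻¹ * g * c) * c⁻¹
      group
    rw [hz, ← conjMap_normalizer]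
    exact conjMap_mono (a.normal _ (mem_conjMap.mp hg) ((hord g hg).symm ▸ hp))

theorem AllFix.exists_fixed {M E : Subgroup G} (a : AllFix M E) :
    ∃ z ∈ Cfsg.sigmaCore M, (orderOf z).Prime ∧ z ∈ centralizer (E : Set G) := by
  obtain ⟨z, hz, hzp⟩ := exists_prime_element a.ne_bot
  exact ⟨z, hz.1, hzp, hz.2⟩

theorem AllFix.exists_prime {M E : Subgroup G} (a : AllFix M E) : ∃ g ∈ E, (orderOf g).Prime :=
  exists_prime_element a.nontriv

/-- Points of `C_{M_σ}(E)` have centralizer in `M`. -/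
theorem AllFix.point_le {M E : Subgroup G} (a : AllFix M E) {x : G}
    (hx : x ∈ Cfsg.sigmaCore M) (hxp : (orderOf x).Prime) (hxE : x ∈ centralizer (E : Set G)) :
    centralizer ({x} : Set G) ≤ M := by
  obtain ⟨g, hg, hgp⟩ := a.exists_prime hG
  exact CfsgLib.BG14.point_le hG a.hM (a.compl.1 hg) hgp (a.tau g hg hgp) hx hxp
    (mem_centralizer_iff.mp hxE g hg)

/-- `C_M(g) ≤ E C_{M_σ}(E)` for `g ∈ E` of prime order. -/
theorem AllFix.centralizer_le {M E : Subgroup G} (a : AllFix M E) {g : G} (hg : g ∈ E)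
    (hgp : (orderOf g).Prime) :
    M ⊓ centralizer ({g} : Set G) ≤ (Cfsg.sigmaCore M ⊓ centralizer (E : Set G)) ⊔ E := by
  intro x hx
  obtain ⟨e, he, n, hn, rfl⟩ := a.compl.2.2.2 x hx.1
  obtain ⟨-, h2⟩ := factors_centralize (a.compl.1.trans (le_normalizer_sigmaCore M)) a.compl.2.2.1
    he hn hg hx.2
  exact mul_mem (mem_sup_right he) (mem_sup_left ⟨hn, a.fix g hg hgp ⟨hn, h2⟩⟩)

end CfsgLib.BG14
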