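import Cfsg.Agent.Lib.BG14.Tau3
import Cfsg.Agent.Lib.BG.TauOne
import Cfsg.Agent.Lib.BG.SigmaOfFixed

/-!
The maximal subgroups with point-fixing complement elements.
-/

set_option autoImplicit false
set_option linter.style.haveILetI false
set_option linter.unusedSectionVars false

namespace CfsgLib.BG14

open Subgroup CfsgLib.PLocal CfsgLib.OddLocal CfsgLib.BG
open scoped commutatorElement

universe u
variable {G : Type u} [Group G] [Finite G]

/-- A complement `E = K U` of `M_σ` in which `K` acts alike on `M_σ` and regularly on `U`. -/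
structure PData (M K U E : Subgroup G) : Prop where
  hM : IsCoatom M
  compl : Cfsg.IsComplIn E (Cfsg.sigmaCore M) M
  K_le : K ≤ E
  U_le : U ≤ E
  mem_mul : ∀ x ∈ E, ∃ u ∈ U, ∃ k ∈ K, x = u * k
  coprime : (Nat.card U).Coprime (Nat.card K)
  ne : K ≠ ⊥
  fix_ne : Cfsg.sigmaCore M ⊓ centralizer (K : Set G) ≠ ⊥
  normal : E ≤ normalizer (U : Set G)
  comm : IsMulCommutative U
  tau : ∀ g ∈ K, (orderOf g).Prime → orderOf g ∈ Cfsg.tau1 M ∨ orderOf g ∈ Cfsg.tau3 M
  fix : ∀ g ∈ K, g ≠ 1 → Cfsg.sigmaCore M ⊓ centralizer ({g} : Set G) ≤ centralizer (K : Set G)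
  fpf : ∀ g ∈ K, g ≠ 1 → U ⊓ centralizer ({g} : Set G) = ⊥
  line : ∀ g ∈ K, (orderOf g).Prime → K ≤ normalizer (zpowers g : Set G)
  reg : ∀ u ∈ U, (orderOf u).Prime → Cfsg.PRankLE (orderOf u) 1 M →
    Cfsg.sigmaCore M ⊓ centralizer ({u} : Set G) = ⊥
  tau1_or : (IsCyclic K ∧ ∀ g ∈ K, (orderOf g).Prime → orderOf g ∈ Cfsg.tau1 M) ∨ U = ⊥

variable (hG : Cfsg.IsMinSimpleOddOrder G)
include hG

theorem pdata_of_allFix {M E : Subgroup G} (a : AllFix M E) : PData M E ⊥ E where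
  hM := a.hM
  compl := a.compl
  K_le := le_rfl
  U_le := bot_le
  mem_mul x hx := ⟨1, one_mem _, x, hx, (one_mul x).symm⟩
  coprime := by rw [Subgroup.card_bot]; exact Nat.coprime_one_left _
  ne := a.nontriv
  fix_ne := a.ne_bot
  normal := fun x hx => by
    rw [mem_normalizer_iff]
    intro y
    simp only [mem_bot]
    exact ⟨fun h => by rw [h, mul_one, mul_inv_cancel], fun h => conj_eq_one_iff.mp h⟩
  comm := ⟨⟨fun x y => Subtype.ext (by simp [mem_bot.mp x.2, mem_bot.mp y.2])⟩⟩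
  tau := a.tau
  fix g hg hg1 := by
    obtain ⟨p, i, hp, -, hi⟩ := exists_prime_pow hg1
    exact (inf_le_inf_left _ (centralizer_singleton_le_pow g i)).trans
      (a.fix (g ^ i) (pow_mem hg i) (hi.symm ▸ hp))
  fpf _ _ _ := bot_inf_eq _
  line := a.normal
  reg u hu hup _ := absurd (mem_bot.mp hu) (ne_one_of_prime hup)
  tau1_or := Or.inr rfl

/-- A `τ₁`-line with fixed points commutes in `E` only with `τ₁`-lines and fixing `τ₃`-lines. -/
theorem commuting_tau1 {M E : Subgroup G} (hM : IsCoatom M)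
    (hE : Cfsg.IsComplIn E (Cfsg.sigmaCore M) M) {k u : G} (hk : k ∈ E) (hkp : (orderOf k).Prime)
    (hkτ : orderOf k ∈ Cfsg.tau1 M) (hfix : Cfsg.sigmaCore M ⊓ centralizer ({k} : Set G) ≠ ⊥)
    (hu : u ∈ E) (hup : (orderOf u).Prime) (hc : Commute u k) :
    orderOf u ∈ Cfsg.tau1 M ∨
      (orderOf u ∈ Cfsg.tau3 M ∧ Cfsg.sigmaCore M ⊓ centralizer ({u} : Set G) ≠ ⊥) := by
  haveI := Fact.mk hkp
  haveI := Fact.mk hup
  have hσ : orderOf u ∉ Cfsg.sigma M := not_sigma_of_mem_compl hG hM hE hu hup dvd_rfl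
  rcases tau_cases hG hM hup (((M).orderOf_dvd_natCard (hE.1 hu))) hσ with h2 | h1 | h3
  · refine absurd ?_ hfix
    obtain ⟨A, A₀, hAE, h⟩ := tau2_square hG hM hE h2
    obtain ⟨⟨hEA, hΩ⟩, -, -⟩ := i1418 hG M hM E hE (orderOf u) h2 A ⟨hAE, h.sq.1, h.sq.2⟩
    have huA : zpowers u ≤ A := hΩ _ (zpowers_le.mpr hu) (card_zpowers_eq rfl)
    rw [← centralizer_zpowers_eq]
    exact tau12_regular hG hM h2 hkτ h.sq h.le ⟨huA, card_zpowers_eq rfl⟩
      (zpowers_le.mpr (hE.1 hk)) (card_zpowers_eq rfl) (zpowers_le.mpr (hEA hk))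
      (mem_zpowers_centralizer (mem_centralizer_singleton_iff.mpr hc.symm.eq))
  · exact Or.inl h1
  · refine Or.inr ⟨h3, fun h => hfix (eq_bot_iff.mpr ?_)⟩
    rw [← h]
    refine le_inf inf_le_left ?_
    rw [← centralizer_zpowers_eq u, ← centralizer_zpowers_eq k]
    exact centralizer_tau1_le hG hM hkτ (zpowers_le.mpr (hE.1 hk)) (card_zpowers_eq rfl)
      (zpowers_le.mpr (hE.1 hu)) (card_zpowers_eq rfl)
      (mem_zpowers_centralizer (mem_centralizer_singleton_iff.mpr hc.eq)) hσ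

/-- The `τ₁` case. -/
theorem pdata_of_tau1 {M : Subgroup G} (hM : IsCoatom M) {k : G} (hk : k ∈ M) (hkp : (orderOf k).Prime)
    (hkτ : orderOf k ∈ Cfsg.tau1 M) (hfix : Cfsg.sigmaCore M ⊓ centralizer ({k} : Set G) ≠ ⊥)
    (hreg : ∀ g ∈ M, (orderOf g).Prime → orderOf g ∈ Cfsg.tau3 M →
      Cfsg.sigmaCore M ⊓ centralizer ({g} : Set G) = ⊥) :
    ∃ K U E, PData M K U E := by
  haveI := Fact.mk hkp
  obtain ⟨E, hE, hkE'⟩ := exists_compl_ge hG hM (zpowers_le.mpr hk)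
    (primes_zpowers hkp (π := {r | r ∉ Cfsg.sigma M}) hkτ.2.1)
  have hkE : k ∈ E := hkE' (mem_zpowers k)
  obtain ⟨K, hK, -, hkK'⟩ := CfsgLib.Coprime.exists_invariant_hall_ge (A := (⊥ : Subgroup G)) bot_le
    (by rw [Subgroup.card_bot]; exact Nat.coprime_one_left _) (isSolvable_of_le_max hG hM hE.1)
    (zpowers_le.mpr hkE) bot_le (primes_zpowers hkp (π := Cfsg.tau1 M) hkτ)
  have hkK : k ∈ K := hkK' (mem_zpowers k)
  have hKM : K ≤ M := hK.1.trans hE.1
  have hcyc : IsCyclic K := isCyclic_tau1 hG hKM hK.2.1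
  have hKcomm : ∀ a ∈ K, ∀ b ∈ K, Commute a b := fun a ha b hb =>
    congrArg Subtype.val ((IsCyclic.isMulCommutative (α := K)).is_comm.comm ⟨a, ha⟩ ⟨b, hb⟩)
  have hpa : ∀ g ∈ K, g ≠ 1 →
      Cfsg.sigmaCore M ⊓ centralizer ({g} : Set G) = Cfsg.sigmaCore M ⊓ centralizer (K : Set G) :=
    fun g hg hg1 => prime_action_tau1 hG hM hKM hK.2.1 hg hg1
  have hK1 : Cfsg.sigmaCore M ⊓ centralizer (K : Set G) ≠ ⊥ := by
    rw [← hpa k hkK (ne_one_of_prime hkp)]; exact hfix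
  -- the centralizer of a nontrivial element of `K` in `E`
  have hCE : ∀ g ∈ K, (orderOf g).Prime → ∀ u ∈ E, u ∈ centralizer ({g} : Set G) → u ∈ K := by
    intro g hg hgp u hu huc
    have hgfix : Cfsg.sigmaCore M ⊓ centralizer ({g} : Set G) ≠ ⊥ := by
      rw [hpa g hg (ne_one_of_prime hgp)]; exact hK1
    set C := E ⊓ centralizer ({g} : Set G) with hC
    have hCτ : ∀ r : ℕ, r.Prime → r ∣ Nat.card C → r ∈ Cfsg.tau1 M := by
      intro r hr hd
      haveI := Fact.mk hr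
      obtain ⟨⟨w, hw⟩, hwo⟩ := exists_prime_orderOf_dvd_card' r hd
      rw [Subgroup.orderOf_mk] at hwo
      subst hwo
      exact (commuting_tau1 hG hM hE (hK.1 hg) hgp
        (hK.2.1 _ hgp (K.orderOf_dvd_natCard hg)) hgfix hw.1 hr
        (mem_centralizer_singleton_iff.mp hw.2)).resolve_right
        fun h => h.2 (hreg w (hE.1 hw.1) hr h.1)
    have hKC : K ≤ C := le_inf hK.1 fun a ha => mem_centralizer_singleton_iff.mpr (hKcomm a ha g hg).eq
    have hidx : K.relIndex C = 1 := by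
      by_contra hne
      obtain ⟨r, hr, hrd⟩ := Nat.exists_prime_and_dvd hne
      exact hK.2.2 r hr (hCτ r hr (hrd.trans (relIndex_dvd_card _ _)))
        (hrd.trans ⟨_, (relIndex_mul_relIndex _ _ _ hKC inf_le_left).symm⟩)
    exact relIndex_eq_one.mp hidx ⟨hu, huc⟩
  have hfpf : ∀ g ∈ K, g ≠ 1 → ⁅E, E⁆ ⊓ centralizer ({g} : Set G) = ⊥ := by
    intro g hg hg1
    obtain ⟨p, i, hp, -, hi⟩ := exists_prime_pow hg1
    refine eq_bot_iff.mpr fun u hu => ?_
    have huK := hCE (g ^ i) (pow_mem hg i) (hi.symm ▸ hp) u (derived_le_compl hG hM hu.1)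
      (centralizer_singleton_le_pow g i hu.2)
    rw [← inf_derived_eq_bot hG hKM hK.2.1]
    exact ⟨huK, commutator_mono hE.1 hE.1 hu.1⟩
  refine ⟨K, ⁅E, E⁆, E,
    { hM := hM
      compl := hE
      K_le := hK.1
      U_le := derived_le_compl hG hM
      mem_mul := ?_
      coprime := ?_
      ne := fun h => ne_one_of_prime hkp (mem_bot.mp (h ▸ hkK))
      fix_ne := hK1
      normal := ?_
      comm := ?_
      tau := fun g hg hgp => Or.inl (hK.2.1 _ hgp (K.orderOf_dvd_natCard hg))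
      fix := fun g hg hg1 => (hpa g hg hg1).le.trans inf_le_right
      fpf := hfpf
      line := fun g hg _ a ha => centralizer_le_normalizer _ (by
        rw [centralizer_zpowers_eq]
        exact mem_centralizer_singleton_iff.mpr (hKcomm a ha g hg).eq)
      reg := ?_
      tau1_or := Or.inl ⟨hcyc, fun g hg hgp => hK.2.1 _ hgp (K.orderOf_dvd_natCard hg)⟩ }⟩
  · intro x hx
    obtain ⟨u, hu, c, hc, rfl⟩ := exists_derived_mul_centralizer hG hM hkτ (card_zpowers_eq rfl)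
      (zpowers_le.mpr hkE) hE.1 hx
    exact ⟨u, hu, c, hCE k hkK hkp c hc.1 (by rw [← centralizer_zpowers_eq]; exact hc.2), rfl⟩
  · exact coprime_of_forall fun r hr h1 h2 => (hK.2.1 r hr h2).2.2.2.1
      (h1.trans (card_dvd_of_le (commutator_mono hE.1 hE.1)))
  · intro a ha
    rw [← conjMap_eq_self_iff]
    show Subgroup.map _ _ = _
    rw [map_commutator]
    exact congrArg₂ _ (conjMap_eq_self_iff.mpr (le_normalizer ha))
      (conjMap_eq_self_iff.mpr (le_normalizer ha))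
  · exact isMulCommutative_of_nilpotent hG hM ((derived_le_compl hG hM).trans hE.1)
      (derived_compl_nilpotent hG hM hE) fun r hr hd =>
        not_sigma_of_dvd_compl hG hM hE hr (hd.trans (card_dvd_of_le (derived_le_compl hG hM)))
  · intro u hu hup hr
    have huE : u ∈ E := derived_le_compl hG hM hu
    rcases tau_cases hG hM hup (M.orderOf_dvd_natCard (hE.1 huE))
      (not_sigma_of_mem_compl hG hM hE huE hup dvd_rfl) with h2 | h1 | h3
    · exact absurd hr h2.2.2.2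
    · exact absurd ((⁅E, E⁆ : Subgroup G).orderOf_dvd_natCard hu |>.trans
        (card_dvd_of_le (commutator_mono hE.1 hE.1))) h1.2.2.2.1
    · exact hreg u (hE.1 huE) hup h3

/-- Existence of the data. -/
theorem exists_pdata {M : Subgroup G} (hM : IsCoatom M) {k : G} (hk : k ∈ M) (hkp : (orderOf k).Prime)
    (hσ : orderOf k ∉ Cfsg.sigma M) (hr : Cfsg.PRankLE (orderOf k) 1 M)
    (hfix : Cfsg.sigmaCore M ⊓ centralizer ({k} : Set G) ≠ ⊥) : ∃ K U E, PData M K U E := by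
  by_cases h : ∃ g ∈ M, (orderOf g).Prime ∧ orderOf g ∈ Cfsg.tau3 M ∧
      Cfsg.sigmaCore M ⊓ centralizer ({g} : Set G) ≠ ⊥
  · obtain ⟨g, hg, hgp, hτ, hgf⟩ := h
    obtain ⟨E, a⟩ := allFix_of_tau3 hG hM hg hgp hτ hgf
    exact ⟨E, ⊥, E, pdata_of_allFix hG a⟩
  push Not at h
  rcases tau_cases hG hM hkp (M.orderOf_dvd_natCard hk) hσ with h2 | h1 | h3
  · exact absurd hr h2.2.2.2
  · exact pdata_of_tau1 hG hM hk hkp h1 hfix h
  · exact absurd (h k hk hkp h3) hfix

end CfsgLib.BG14
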