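import Cfsg.Agent.Lib.BG14.Zhat
import Cfsg.Agent.S1432

/-!
Every nontrivial element lies in some `M̃` or is conjugate into some `Ẑ`, exclusively.
-/

set_option autoImplicit false
set_option linter.style.haveILetI false
set_option linter.unusedSectionVars false

namespace CfsgLib.BG14

open Subgroup CfsgLib.PLocal CfsgLib.OddLocal CfsgLib.BG

universe u
variable {G : Type u} [Group G] [Finite G]

theorem exists_split (g : G) (π : Set ℕ) : ∃ a ∈ zpowers g, ∃ b ∈ zpowers g, g = a * b ∧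
    (∀ p : ℕ, p.Prime → p ∣ orderOf a → p ∈ π) ∧ (∀ p : ℕ, p.Prime → p ∣ orderOf b → p ∉ π) := by
  have hsol : Group.IsSolvable (zpowers g) := inferInstance
  obtain ⟨H, hH, -, -⟩ := CfsgLib.Coprime.exists_invariant_hall_ge (A := (⊥ : Subgroup G)) (U := ⊥)
    (π := π) bot_le (by rw [Subgroup.card_bot]; exact Nat.coprime_one_left _) hsol bot_le bot_le
    fun p hp hd => absurd (by rwa [Subgroup.card_bot] at hd) hp.not_dvd_one
  obtain ⟨J, hJ, -, -⟩ := CfsgLib.Coprime.exists_invariant_hall_ge (A := (⊥ : Subgroup G)) (U := ⊥)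
    (π := {p | p ∉ π}) bot_le (by rw [Subgroup.card_bot]; exact Nat.coprime_one_left _) hsol bot_le bot_le
    fun p hp hd => absurd (by rwa [Subgroup.card_bot] at hd) hp.not_dvd_one
  have hle : H ⊔ J ≤ zpowers g := sup_le hH.1 hJ.1
  have hidx : (H ⊔ J).relIndex (zpowers g) = 1 := by
    by_contra hne
    obtain ⟨p, hp, hpd⟩ := Nat.exists_prime_and_dvd hne
    by_cases hπ : p ∈ π
    · exact hH.2.2 p hp hπ (hpd.trans
        ⟨_, by rw [mul_comm]; exact (relIndex_mul_relIndex _ _ _ le_sup_left hle).symm⟩)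
    · exact hJ.2.2 p hp hπ (hpd.trans
        ⟨_, by rw [mul_comm]; exact (relIndex_mul_relIndex _ _ _ le_sup_right hle).symm⟩)
  have hn : J ≤ normalizer (H : Set G) := fun j hj => centralizer_le_normalizer _
    (mem_centralizer_iff.mpr fun h hh => by
      obtain ⟨i, rfl⟩ := mem_zpowers_iff.mp (hJ.1 hj)
      obtain ⟨k, rfl⟩ := mem_zpowers_iff.mp (hH.1 hh)
      exact (Commute.zpow_zpow_self g k i).eq)
  obtain ⟨a, ha, b, hb, hab⟩ :=
    (CfsgLib.Coprime.mem_sup_of_le_normalizer hn).mp (relIndex_eq_one.mp hidx (mem_zpowers g))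
  exact ⟨a, hH.1 ha, b, hJ.1 hb, hab.symm, fun p hp hd => hH.2.1 p hp (hd.trans (H.orderOf_dvd_natCard ha)),
    fun p hp hd => hJ.2.1 p hp (hd.trans (J.orderOf_dvd_natCard hb))⟩

/-- `M̃_σ^#`. -/
abbrev tilde (M : Subgroup G) : Set G := Cfsg.tildeOf M ((Cfsg.sigmaCore M : Set G) \ {1})

theorem conj_mem_tilde {M : Subgroup G} {g : G} (c : G) (h : g ∈ tilde M) : c * g * c⁻¹ ∈ tilde M := by
  obtain ⟨a, ha, r, hr, y, rfl⟩ := h
  exact ⟨a, ha, r, hr, c * y, by group⟩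

theorem commute_of_mem_zpowers {g a b : G} (ha : a ∈ zpowers g) (hb : b ∈ zpowers g) : Commute a b := by
  obtain ⟨i, rfl⟩ := mem_zpowers_iff.mp ha
  obtain ⟨j, rfl⟩ := mem_zpowers_iff.mp hb
  exact Commute.zpow_zpow_self g i j

variable (hG : Cfsg.IsMinSimpleOddOrder G)
include hG

theorem exists_coatom_sigma {p : ℕ} [hp : Fact p.Prime] (hd : p ∣ Nat.card G) :
    ∃ M : Subgroup G, IsCoatom M ∧ p ∈ Cfsg.sigma M := by
  obtain ⟨S⟩ : Nonempty (Sylow p G) := inferInstance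
  have hS1 : (S : Subgroup G) ≠ ⊥ := fun e => by
    have h1 := S.not_dvd_index
    rw [e, Subgroup.index_bot] at h1
    exact h1 hd
  have hST : (S : Subgroup G) ≠ ⊤ := fun e => by
    haveI := hG.2.1
    have hp' : IsPGroup p G := S.2.of_surjective (S : Subgroup G).subtype fun x =>
      ⟨⟨x, e ▸ mem_top x⟩, rfl⟩
    haveI := hp'.center_nontrivial
    rcases Subgroup.Normal.eq_bot_or_eq_top (inferInstance : (center G).Normal) with h | h
    · exact (nontrivial_iff_ne_bot _).mp inferInstance h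
    · exact hG.2.2.1 ⟨⟨fun x y => (mem_center_iff.mp (h ▸ mem_top y) x)⟩⟩
  obtain ⟨M, hM, hNM⟩ := exists_coatom_normalizer hG hS1 hST
  have hSM : (S : Subgroup G) ≤ M := le_normalizer.trans hNM
  refine ⟨M, hM, hp.out, ?_, ⟨S.subtype hSM, ?_⟩⟩
  · exact (Sylow.dvd_card_of_dvd_card S hd).trans (card_dvd_of_le hSM)
  · rw [Sylow.coe_subtype, map_subgroupOf_eq_of_le hSM]
    exact hNM

/-- The two cases for `a b`. -/
theorem cover_commuting {M : Subgroup G} (hM : IsCoatom M) {a b : G} (ha : a ∈ Cfsg.sigmaCore M)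
    (ha1 : a ≠ 1) (hbM : b ∈ M) (hc : Commute a b) (hb1 : b ≠ 1)
    (hb : ∀ p : ℕ, p.Prime → p ∣ orderOf b → p ∉ Cfsg.sigma M) :
    (∃ N : Subgroup G, IsCoatom N ∧ a * b ∈ tilde N) ∨
      ∃ K U E : Subgroup G, PData M K U E ∧ ∃ y : G, y * (a * b) * y⁻¹ ∈ hatZ M K := by
  rcases Cfsg.Agent.S1432.main hG hM ha ha1 hbM hc.symm.eq hb1 hb with
    ⟨hκ, -⟩ | ⟨h2, ⟨L, hL, hσL⟩, hCb, hu⟩
  · refine Or.inr ?_
    obtain ⟨p, hp, hd⟩ := Nat.exists_prime_and_dvd (mt orderOf_eq_one_iff.mp hb1)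
    obtain ⟨K, U, E, d⟩ := exists_of_mem_kappa hG hM (hκ p hp hd)
    obtain ⟨K₂, hK₂, -, hbK⟩ := CfsgLib.Coprime.exists_invariant_hall_ge (A := (⊥ : Subgroup G)) bot_le
      (by rw [Subgroup.card_bot]; exact Nat.coprime_one_left _) (isSolvable_of_le_max hG hM le_rfl)
      (zpowers_le.mpr hbM) bot_le (π := Cfsg.kappa M)
      fun q hq hqd => hκ q hq (by rwa [Nat.card_zpowers] at hqd)
    obtain ⟨c, hcM, hcK⟩ :=
      CfsgLib.Coprime.exists_conj_of_isPiHallOf (isSolvable_of_le_max hG hM le_rfl) hK₂ (d.hall hG)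
    have hbK' : c * b * c⁻¹ ∈ K := hcK ▸ conj_mem_conjMap (hbK (mem_zpowers b))
    have hb1' : c * b * c⁻¹ ≠ 1 := fun e => hb1 (conj_eq_one_iff.mp e)
    have ha1' : c * a * c⁻¹ ≠ 1 := fun e => ha1 (conj_eq_one_iff.mp e)
    have haσ : c * a * c⁻¹ ∈ Cfsg.sigmaCore M :=
      (mem_normalizer_iff.mp (le_normalizer_sigmaCore M hcM) a).mp ha
    have haS : c * a * c⁻¹ ∈ starOf M K := ⟨haσ, d.fix _ hbK' hb1' ⟨haσ,
      mem_centralizer_singleton_iff.mpr (by
        calc c * a * c⁻¹ * (c * b * c⁻¹) = c * (a * b) * c⁻¹ := by group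
          _ = c * (b * a) * c⁻¹ := by rw [hc.eq]
          _ = _ := by group)⟩⟩
    refine ⟨K, U, E, d, c, ?_, ?_⟩
    · rw [show c * (a * b) * c⁻¹ = (c * a * c⁻¹) * (c * b * c⁻¹) by group]
      exact mul_mem (mem_sup_right haS) (mem_sup_left hbK')
    · rw [show c * (a * b) * c⁻¹ = (c * a * c⁻¹) * (c * b * c⁻¹) by group]
      rintro (h | h)
      · have h' : c * a * c⁻¹ ∈ K ⊓ starOf M K := ⟨(Subgroup.mul_mem_cancel_right K hbK').mp h, haS⟩
        rw [d.inf_star hG, mem_bot] at h'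
        exact ha1' h'
      · have h' : c * b * c⁻¹ ∈ K ⊓ starOf M K := ⟨hbK', (Subgroup.mul_mem_cancel_left _ haS).mp h⟩
        rw [d.inf_star hG, mem_bot] at h'
        exact hb1' h'
  · refine Or.inl ⟨L, hL, ?_⟩
    obtain ⟨g, hg⟩ := i1425 hG L hL (zpowers b) (zpowers_ne_bot.mpr hb1)
      fun q hq hqd => hσL q hq (by rwa [Nat.card_zpowers] at hqd)
    have hb' : g * b * g⁻¹ ∈ Cfsg.sigmaCore L := hg ⟨b, mem_zpowers b, rfl⟩
    obtain ⟨q, hq, hqd⟩ := Nat.exists_prime_and_dvd (mt orderOf_eq_one_iff.mp hb1)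
    haveI := Fact.mk hq
    have hne : conjMap g M ≠ L := fun e => hb q hq hqd (by
      rw [← sigma_conjMap (M := M) g, e]
      exact hσL q hq hqd)
    have hC' : centralizer ({g * b * g⁻¹} : Set G) ≤ conjMap g M := centralizer_conj_le hCb
    have hu' : ∀ L' : Subgroup G, IsCoatom L' → centralizer ({g * b * g⁻¹} : Set G) ≤ L' →
        L' = conjMap g M := by
      intro L' hL' hle
      rw [centralizer_conj] at hle
      have h := hu (conjMap g⁻¹ L') (isCoatom_conj hG hL' g⁻¹) (by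
        intro x hx
        rw [mem_conjMap, inv_inv]
        exact hle (conj_mem_conjMap hx))
      rw [← h, conjMap_conjMap, mul_inv_cancel, conjMap_one]
    have hR : Cfsg.supportR L (g * b * g⁻¹) =
        Cfsg.fittingHallOf (conjMap g M) ⊓ centralizer ({g * b * g⁻¹} : Set G) :=
      supportR_of_unique (fun h => hne (hu' L hL h).symm) (isCoatom_conj hG hM g) hC' hu'
    obtain ⟨E, hE⟩ := exists_compl hG hM
    obtain ⟨A, A₀, -, hA⟩ := tau2_square hG hM hE (h2 q hq hqd)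
    have hn : Group.IsNilpotent (Cfsg.sigmaCore (conjMap g M)) :=
      (hA.conj g).nilpotent hG (isCoatom_conj hG hM g)
    refine ⟨g * b * g⁻¹, ⟨hb', fun e => hb1 (conj_eq_one_iff.mp e)⟩, g * a * g⁻¹, ?_, g⁻¹, ?_⟩
    · rw [hR, fittingHallOf_eq_sigmaCore hG (isCoatom_conj hG hM g) hn]
      refine ⟨?_, mem_centralizer_singleton_iff.mpr ?_⟩
      · rw [sigmaCore_conjMap (M := M) g]
        exact conj_mem_conjMap ha
      · calc g * a * g⁻¹ * (g * b * g⁻¹) = g * (a * b) * g⁻¹ := by group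
          _ = g * (b * a) * g⁻¹ := by rw [hc.eq]
          _ = _ := by group
    · rw [hc.eq]
      group

/-- Every nontrivial element is covered. -/
theorem cover {g : G} (hg : g ≠ 1) :
    (∃ N : Subgroup G, IsCoatom N ∧ g ∈ tilde N) ∨
      ∃ M K U E : Subgroup G, PData M K U E ∧ ∃ y : G, y * g * y⁻¹ ∈ hatZ M K := by
  obtain ⟨p, i, hp, -, hi⟩ := exists_prime_pow hg
  haveI := Fact.mk hp
  obtain ⟨M, hM, hpM⟩ := exists_coatom_sigma hG (hi ▸ orderOf_dvd_natCard (g ^ i))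
  obtain ⟨a, haz, b, hbz, hgab, haπ, hbπ⟩ := exists_split g (Cfsg.sigma M)
  have hab : Commute a b := commute_of_mem_zpowers haz hbz
  have ha1 : a ≠ 1 := by
    rintro rfl
    rw [one_mul] at hgab
    subst hgab
    exact hbπ p hp (hi ▸ orderOf_pow_dvd i) hpM
  obtain ⟨c, hc⟩ := i1425 hG M hM (zpowers a) (zpowers_ne_bot.mpr ha1)
    fun q hq hd => haπ q hq (by rwa [Nat.card_zpowers] at hd)
  have haσ : c * a * c⁻¹ ∈ Cfsg.sigmaCore M := hc ⟨a, mem_zpowers a, rfl⟩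
  suffices key : (∃ N : Subgroup G, IsCoatom N ∧ c * a * c⁻¹ * (c * b * c⁻¹) ∈ tilde N) ∨
      ∃ K U E : Subgroup G, PData M K U E ∧ ∃ y : G, y * (c * a * c⁻¹ * (c * b * c⁻¹)) * y⁻¹ ∈ hatZ M K by
    have hcg : c * a * c⁻¹ * (c * b * c⁻¹) = c * g * c⁻¹ := by rw [hgab]; group
    rw [hcg] at key
    rcases key with ⟨N, hN, h⟩ | ⟨K, U, E, d, y, hy⟩
    · refine Or.inl ⟨N, hN, ?_⟩
      have := conj_mem_tilde c⁻¹ h
      rwa [show c⁻¹ * (c * g * c⁻¹) * c⁻¹⁻¹ = g by group] at this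
    · exact Or.inr ⟨M, K, U, E, d, y * c, by rwa [show y * c * g * (y * c)⁻¹ = y * (c * g * c⁻¹) * y⁻¹ by group]⟩
  set a' := c * a * c⁻¹
  set b' := c * b * c⁻¹
  have hc' : Commute a' b' := by
    show _ = _
    calc c * a * c⁻¹ * (c * b * c⁻¹) = c * (a * b) * c⁻¹ := by group
      _ = c * (b * a) * c⁻¹ := by rw [hab.eq]
      _ = c * b * c⁻¹ * (c * a * c⁻¹) := by group
  have ha1' : a' ≠ 1 := fun e => ha1 (conj_eq_one_iff.mp e)
  have hb' : ∀ q : ℕ, q.Prime → q ∣ orderOf b' → q ∉ Cfsg.sigma M := fun q hq hd =>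
    hbπ q hq (by rwa [orderOf_conj'] at hd)
  have htriv : ∀ r ∈ Cfsg.supportR M a', (∃ N : Subgroup G, IsCoatom N ∧ a' * r ∈ tilde N) :=
    fun r hr => ⟨M, hM, a', ⟨haσ, ha1'⟩, r, hr, 1, by group⟩
  by_cases hb1 : b' = 1
  · rw [hb1]
    exact Or.inl (htriv 1 (one_mem _))
  have hbC : b' ∈ centralizer ({a'} : Set G) := mem_centralizer_singleton_iff.mpr hc'.symm.eq
  rcases supportR_cases hG hM haσ ha1' with ⟨hle, -⟩ | ⟨N, s, hR⟩
  · exact cover_commuting hG hM haσ ha1' (hle hbC) hc' hb1 hb'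
  obtain ⟨e, hez, f, hfz, hbef, heπ, hfπ⟩ := exists_split b' (Cfsg.sigma N)
  have heC : e ∈ centralizer ({a'} : Set G) := zpowers_le.mpr hbC hez
  have hfC : f ∈ centralizer ({a'} : Set G) := zpowers_le.mpr hbC hfz
  have heσ : e ∈ Cfsg.sigmaCore N := mem_sigmaCore_of hG s.hL (s.le heC) heπ
  by_cases hf : f = 1
  · rw [hbef, hf, mul_one]
    exact Or.inl (htriv e (by rw [hR]; exact ⟨heσ, heC⟩))
  -- move `f` into `M`
  have hnσ : ∀ q : ℕ, q.Prime → q ∣ orderOf a' → q ∉ Cfsg.sigma N := fun q hq hd h =>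
    s.sigma_disjoint hG hM
      (mem_sigma_of_dvd_sigmaCore hq (hd.trans ((Cfsg.sigmaCore M).orderOf_dvd_natCard haσ))) h
  have haf : Commute a' f := (mem_centralizer_singleton_iff.mp hfC).symm
  have hnorm : zpowers f ≤ normalizer (zpowers a' : Set G) :=
    (mem_zpowers_centralizer hfC).trans (centralizer_le_normalizer _)
  have haN : a' ∈ N := s.le (mem_centralizer_singleton_iff.mpr rfl)
  obtain ⟨E', hE', hXE⟩ := exists_compl_ge hG s.hL (sup_le (zpowers_le.mpr haN)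
    (zpowers_le.mpr (s.le hfC)) : zpowers a' ⊔ zpowers f ≤ N) fun q hq hd => by
      rcases hq.dvd_mul.mp (hd.trans (CfsgLib.BG.card_sup_dvd hnorm)) with h | h
      · exact hnσ q hq (by rwa [Nat.card_zpowers] at h)
      · exact hfπ q hq (by rwa [Nat.card_zpowers] at h)
  obtain ⟨t, ht, htE⟩ := compl_conj_centralizer hG s.hL s.compl hE'
    (zpowers_le.mpr ⟨sigmaCore_le M haσ, haN⟩) (le_sup_left.trans hXE)
  obtain ⟨htσ, htC⟩ := mem_inf.mp ht
  have hta : Commute t a' := by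
    rw [centralizer_zpowers_eq] at htC
    exact mem_centralizer_singleton_iff.mp htC
  set f' := t * f * t⁻¹
  set e' := t * e * t⁻¹
  have hf'M : f' ∈ M := (htE ▸ conj_mem_conjMap (hXE (mem_sup_right (mem_zpowers f))) : f' ∈ M ⊓ N).1
  have haf' : Commute a' f' := (hta.symm.mul_right haf).mul_right hta.symm.inv_right
  have hf'1 : f' ≠ 1 := fun h => hf (conj_eq_one_iff.mp h)
  have hf'σ : ∀ q : ℕ, q.Prime → q ∣ orderOf f' → q ∉ Cfsg.sigma M := fun q hq hd => by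
    rw [orderOf_conj'] at hd
    exact hb' q hq (hd.trans (Nat.card_zpowers b' ▸ (zpowers b').orderOf_dvd_natCard hfz))
  have hprod : t * (a' * b') * t⁻¹ = a' * (e' * f') := by
    rw [hbef]
    calc t * (a' * (e * f)) * t⁻¹ = t * a' * t⁻¹ * (t * e * t⁻¹ * (t * f * t⁻¹)) := by group
      _ = _ := by rw [hta.eq, mul_inv_cancel_right]
  have he'σ : e' ∈ Cfsg.sigmaCore N :=
    mul_mem (mul_mem htσ heσ) (inv_mem htσ)
  have he' : e' = 1 := by
    rcases Cfsg.Agent.S1432.main hG hM haσ ha1' hf'M haf'.symm.eq hf'1 hf'σ with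
      ⟨-, hle⟩ | ⟨-, -, hCf, -⟩
    · exact absurd hle (s.not_le hG)
    · have hm : e' ∈ Cfsg.sigmaCore N ⊓ M := by
        refine ⟨he'σ, hCf (mem_centralizer_singleton_iff.mpr ?_)⟩
        calc t * e * t⁻¹ * (t * f * t⁻¹) = t * (e * f) * t⁻¹ := by group
          _ = t * (f * e) * t⁻¹ := by rw [(commute_of_mem_zpowers hez hfz).eq]
          _ = t * f * t⁻¹ * (t * e * t⁻¹) := by group
      rwa [s.disj, mem_bot] at hm
  rw [he', one_mul] at hprod
  rcases cover_commuting hG hM haσ ha1' hf'M haf' hf'1 hf'σ with ⟨N', hN', h⟩ | ⟨K, U, E, d, y, hy⟩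
  · refine Or.inl ⟨N', hN', ?_⟩
    have := conj_mem_tilde t⁻¹ (hprod ▸ h)
    rwa [show t⁻¹ * (t * (a' * b') * t⁻¹) * t⁻¹⁻¹ = a' * b' by group] at this
  · refine Or.inr ⟨K, U, E, d, y * t, ?_⟩
    rw [show y * t * (a' * b') * (y * t)⁻¹ = y * (t * (a' * b') * t⁻¹) * y⁻¹ by group, hprod]
    exact hy

end CfsgLib.BG14
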