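import Cfsg.Agent.Lib.BG14.Action

/-!
Cyclic Sylow subgroups: uniqueness of subgroups of prime order, fusion, normal complements.
-/

set_option autoImplicit false
set_option linter.style.haveILetI false
set_option linter.unusedSectionVars false

namespace CfsgLib.BG14

open Subgroup CfsgLib.PLocal CfsgLib.OddLocal CfsgLib.BG
open scoped commutatorElement

universe u
variable {G : Type u} [Group G] [Finite G]

/-- A cyclic group has at most one subgroup of each order. -/
theorem eq_of_card_eq_of_cyclic {C A B : Subgroup G} (hC : IsCyclic C) (hA : A ≤ C) (hB : B ≤ C)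
    (h : Nat.card A = Nat.card B) : A = B := by
  haveI := Fintype.ofFinite C
  classical
  have key : ∀ A : Subgroup G, A ≤ C →
      ((A.subgroupOf C : Subgroup C) : Set C) = {x : C | x ^ Nat.card A = 1} := by
    intro A hA
    refine Set.eq_of_subset_of_ncard_le (fun x hx => ?_) ?_ (Set.toFinite _)
    · show x ^ Nat.card A = 1
      rw [← CfsgLib.Coprime.card_subgroupOf hA]
      exact orderOf_dvd_iff_pow_eq_one.mp ((A.subgroupOf C).orderOf_dvd_natCard hx)
    · have h1 := IsCyclic.card_pow_eq_one_le (α := C) (n := Nat.card A) Nat.card_pos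
      refine le_trans ?_ (CfsgLib.Coprime.card_subgroupOf hA).ge
      calc Set.ncard {x : C | x ^ Nat.card A = 1}
          = (Finset.univ.filter fun x : C => x ^ Nat.card A = 1).card := by
            rw [Set.ncard_eq_toFinset_card', Set.toFinset_ofPred]
        _ ≤ Nat.card A := h1
        _ = _ := rfl
  have h' : A.subgroupOf C = B.subgroupOf C := SetLike.coe_injective (by rw [key A hA, key B hB, h])
  rw [← inf_eq_left.mpr hA, ← inf_eq_left.mpr hB, ← subgroupOf_map_subtype, h', subgroupOf_map_subtype]

theorem normalizer_le_of_cyclic {C A : Subgroup G} (hC : IsCyclic C) (hA : A ≤ C) :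
    normalizer (C : Set G) ≤ normalizer (A : Set G) := by
  intro x hx
  refine conjMap_eq_self_iff.mp (eq_of_card_eq_of_cyclic hC ?_ hA (card_conjMap x A))
  have h := conjMap_mono (g := x) hA
  rwa [conjMap_eq_self_iff.mpr hx] at h

/-- With cyclic Sylow `r`-subgroups the subgroups of order `r` form one class. -/
theorem exists_conj_of_cyclic_sylow {r : ℕ} [hr : Fact r.Prime] {K : Subgroup G}
    (hcyc : ∀ S : Subgroup G, IsPGroup r S → S ≤ K → IsCyclic S) {A B : Subgroup G}
    (hA : A ≤ K) (hB : B ≤ K) (hAc : Nat.card A = r) (hBc : Nat.card B = r) :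
    ∃ c ∈ K, conjMap c A = B := by
  obtain ⟨T, hT, hBT⟩ := exists_sylowIn_le (isPGroup_of_card_prime hBc) hB
  obtain ⟨k, hk, hkA⟩ := hT.exists_conj_le (isPGroup_of_card_prime hAc) hA
  exact ⟨k, hk, eq_of_card_eq_of_cyclic (hcyc T hT.2.1 hT.1) hkA hBT (by rw [card_conjMap, hAc, hBc])⟩

/-- Two primes, cyclic Sylow subgroups: the larger one gives a normal subgroup. -/
theorem le_normalizer_of_two_primes {q r : ℕ} [hq : Fact q.Prime] [hr : Fact r.Prime] (hrq : r < q)
    {D : Subgroup G} (hD : ∀ s : ℕ, s.Prime → s ∣ Nat.card D → s = q ∨ s = r)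
    (hrD : r ∣ Nat.card D)
    (hcq : ∀ S : Subgroup G, IsPGroup q S → S ≤ D → IsCyclic S)
    (hcr : ∀ S : Subgroup G, IsPGroup r S → S ≤ D → IsCyclic S)
    {U : Subgroup G} (hU : U ≤ D) (hUq : IsPGroup q U) : D ≤ normalizer (U : Set G) := by
  have hmin : (Nat.card D).minFac = r := by
    refine le_antisymm (Nat.minFac_le_of_dvd hr.out.two_le hrD) ?_
    have hne : Nat.card D ≠ 1 := fun h => hr.out.ne_one (Nat.dvd_one.mp (h ▸ hrD))
    rcases hD _ (Nat.minFac_prime hne) (Nat.minFac_dvd _) with h | h <;> omega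
  obtain ⟨P⟩ : Nonempty (Sylow r D) := inferInstance
  have hPc : IsCyclic (P : Subgroup D) :=
    ((P : Subgroup D).equivMapOfInjective _ D.subtype_injective).isCyclic.mpr
      (hcr _ (P.2.map _) (map_subtype_le _))
  have hcompl := IsCyclic.isComplement' hmin hPc
  set N := (MonoidHom.transferSylow P (IsCyclic.normalizer_le_centralizer hmin hPc)).ker
  have hNidx : N.index = Nat.card P := hcompl.symm.index_eq_card
  obtain ⟨k, hk⟩ := IsPGroup.iff_card.mp P.2
  have hUN : U ≤ N.map D.subtype := by
    intro u hu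
    refine ⟨⟨u, hU hu⟩, CfsgLib.Solvable.mem_of_coprime_relIndex (N := ⊤) inferInstance (mem_top _) ?_, rfl⟩
    rw [relIndex_top_right, hNidx, hk, Subgroup.orderOf_mk]
    obtain ⟨j, hj⟩ := IsPGroup.iff_orderOf.mp hUq ⟨u, hu⟩
    rw [Subgroup.orderOf_mk] at hj
    rw [hj]
    exact ((Nat.coprime_primes hq.out hr.out).mpr hrq.ne').pow j k
  have hNq : IsPGroup q ↥(N.map D.subtype) := isPGroup_of_prime_dvd fun s hs hsd => by
    rw [card_map_of_injective D.subtype_injective] at hsd
    refine (hD s hs (hsd.trans (card_subgroup_dvd_card N))).resolve_right fun h => ?_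
    subst h
    refine P.not_dvd_index ?_
    rwa [hcompl.index_eq_card]
  have hn : D ≤ normalizer ((N.map D.subtype : Subgroup G) : Set G) := by
    have h := le_normalizer_map (H := N) D.subtype
    rwa [normalizer_eq_top, ← MonoidHom.range_eq_map, range_subtype] at h
  exact hn.trans (normalizer_le_of_cyclic (hcq _ hNq (map_subtype_le _)) hUN)

/-- `[T, e] = T` and a cyclic group normalised by both is centralized by `T`. -/
theorem le_centralizer_of_cyclic {T C : Subgroup G} {e : G} (hC : IsCyclic C)
    (hT : T ≤ normalizer (C : Set G)) (he : e ∈ normalizer (C : Set G))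
    (hTe : ⁅T, zpowers e⁆ = T) : T ≤ centralizer (C : Set G) := by
  rw [← hTe]
  exact commutator_le_centralizer_of_isCyclic hT (zpowers_le.mpr he)

end CfsgLib.BG14
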