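import Mathlib.Tactic.Common
import Cfsg.Agent.S1411
import Cfsg.Agent.S1414
import Cfsg.Agent.S1416
import Cfsg.Agent.S1417
import Cfsg.Agent.S1418
import Cfsg.Agent.S1419
import Cfsg.Agent.S1420
import Cfsg.Agent.S1422
import Cfsg.Agent.S1423
import Cfsg.Agent.S1424
import Cfsg.Agent.S1425
import Cfsg.Agent.S1426
import Cfsg.Agent.S1427
import Cfsg.Agent.S1428
import Cfsg.Agent.S1404
import Cfsg.Agent.S1405
import Cfsg.Agent.S1406
import Cfsg.Agent.S1408
import Cfsg.Agent.S1409
import Cfsg.Agent.S1415

/-! Names for the results of sections 10-13 used in sections 14-15. -/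

namespace CfsgLib.BG14

alias i1404 := Cfsg.Agent.S1404.result
alias i1405 := Cfsg.Agent.S1405.result
alias i1406 := Cfsg.Agent.S1406.result
alias i1408 := Cfsg.Agent.S1408.result
alias i1409 := Cfsg.Agent.S1409.result
alias i1415 := Cfsg.Agent.S1415.result
alias i1411 := Cfsg.Agent.S1411.result
alias i1414 := Cfsg.Agent.S1414.result
alias i1416 := Cfsg.Agent.S1416.result
alias i1417 := Cfsg.Agent.S1417.result
alias i1418 := Cfsg.Agent.S1418.result
alias i1419 := Cfsg.Agent.S1419.result
alias i1420 := Cfsg.Agent.S1420.result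
alias i1422 := Cfsg.Agent.S1422.result
alias i1423 := Cfsg.Agent.S1423.result
alias i1424 := Cfsg.Agent.S1424.result
alias i1425 := Cfsg.Agent.S1425.result
alias i1426 := Cfsg.Agent.S1426.result
alias i1427 := Cfsg.Agent.S1427.result
alias i1428 := Cfsg.Agent.S1428.result

end CfsgLib.BG14
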