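import Cfsg.Agent.Lib.BG14.Outside
import Cfsg.Agent.Lib.Comp.FFBasic

/-!
`k` moves no subgroup of a complement of `H_σ`.
-/

set_option autoImplicit false
set_option linter.style.haveILetI false
set_option linter.unusedSectionVars false

namespace CfsgLib.BG14

open Subgroup CfsgLib.PLocal CfsgLib.OddLocal CfsgLib.BG
open scoped commutatorElement

universe u
variable {G : Type u} [Group G] [Finite G]

theorem prankLE_conjMap_back {p n : ℕ} (g : G) {H : Subgroup G}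
    (h : Cfsg.PRankLE p n ↥(conjMap g H)) : Cfsg.PRankLE p n H := by
  have := prankLE_conjMap g⁻¹ h
  rwa [conjMap_inv_conjMap] at this

theorem exists_central_prime {r : ℕ} [hr : Fact r.Prime] {S : Subgroup G} (hS : IsPGroup r S)
    (hS1 : S ≠ ⊥) : ∃ v ∈ S ⊓ centralizer (S : Set G), orderOf v = r := by
  haveI : Nontrivial S := (nontrivial_iff_ne_bot S).mpr hS1
  haveI := hS.center_nontrivial
  have h1 : (center S).map S.subtype ≠ ⊥ := by
    rw [Ne, map_eq_bot_iff_of_injective _ S.subtype_injective]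
    exact (nontrivial_iff_ne_bot _).mp inferInstance
  obtain ⟨v, hv, hvo⟩ := exists_order_p ((hS.to_subgroup (center S)).map S.subtype) h1
  obtain ⟨w, hw, rfl⟩ := hv
  exact ⟨_, mem_inf.mpr ⟨w.2, mem_centralizer_iff.mpr fun a ha =>
    congrArg Subtype.val (mem_center_iff.mp hw ⟨a, ha⟩)⟩, hvo⟩

variable (hG : Cfsg.IsMinSimpleOddOrder G)
include hG

variable {M K U E L U₁ E₁ H : Subgroup G} {k : G}

/-- Conjugates of `M` through `k` have `U ≠ 1`. -/
theorem PData.U_ne_of_conj (d : PData M K U E) (hU : U ≠ ⊥) {c : G} {K₃ U₃ E₃ : Subgroup G}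
    (d₃ : PData (conjMap c M) K₃ U₃ E₃) : U₃ ≠ ⊥ := by
  intro hU3
  obtain ⟨u, hu, hup⟩ := exists_prime_element hU
  haveI := Fact.mk hup
  have hE3 : E₃ = K₃ := by rw [← d₃.sup_eq hG, hU3, bot_sup_eq]
  have hσ : orderOf u ∉ Cfsg.sigma M := d.not_sigma hG (d.U_le hu) hup dvd_rfl
  have hσ' : orderOf u ∉ Cfsg.sigma (conjMap c M) := by rw [sigma_conjMap]; exact hσ
  have ho : orderOf (c * u * c⁻¹) = orderOf u := orderOf_conj' c u
  have hu' : c * u * c⁻¹ ∈ conjMap c M := conj_mem_conjMap (d.U_le_M hG hu)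
  obtain ⟨t, ht, htE⟩ := exists_conj_le_compl hG d₃.hM d₃.compl (zpowers_le.mpr hu') fun q hq hd => by
    rw [Nat.card_zpowers, ho] at hd
    exact (Nat.prime_dvd_prime_iff_eq hq hup).mp hd ▸ hσ'
  set g' := t * (c * u * c⁻¹) * t⁻¹
  have hg' : g' ∈ K₃ := hE3 ▸ htE (conj_mem_conjMap (mem_zpowers _))
  have hgo : orderOf g' = orderOf u := by rw [orderOf_conj', ho]
  have hfix : Cfsg.sigmaCore (conjMap c M) ⊓ centralizer ({g'} : Set G) ≠ ⊥ := by
    rw [d₃.fix_eq hG hg' (ne_one_of_prime (hgo.symm ▸ hup))]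
    exact d₃.fix_ne
  have hg0 : c⁻¹ * g' * c ∈ M := mem_conjMap.mp (d₃.K_le_M hG hg')
  have hg0o : orderOf (c⁻¹ * g' * c) = orderOf u := by rw [orderOf_conj_inv, hgo]
  have hr : Cfsg.PRankLE (orderOf u) 1 M := prankLE_conjMap_back c
    (hgo ▸ tau13_prankLE hG d₃.hM (d₃.tau g' hg' (hgo.symm ▸ hup)))
  have hk := mem_kappa_of_fix hG d.hM hg0 (hg0o.symm ▸ hup) (hg0o.symm ▸ hσ) (hg0o.symm ▸ hr) (by
    intro hb
    refine hfix ?_
    rw [show g' = c * (c⁻¹ * g' * c) * c⁻¹ by group, centralizer_conj,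
      sigmaCore_conjMap (M := M) c, ← conjMap_inf, hb]
    exact Subgroup.map_bot _)
  exact hup.ne_one (Nat.eq_one_of_dvd_coprimes d.coprime (U.orderOf_dvd_natCard hu)
    (hg0o ▸ ((d.mem_kappa_iff hG).mp hk).2))

namespace Outside

variable (o : Outside M K U E L U₁ E₁ H k)
include o

/-- The conjugate of `M` case. -/
theorem false_of_sigma_M {F A M' : Subgroup G} {r : ℕ} [hr : Fact r.Prime]
    (hF : Cfsg.IsComplIn F (Cfsg.sigmaCore H) H) (hτ : r ∈ Cfsg.tau2 H) (hA : IsSq r A) (hAF : A ≤ F)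
    (hkA : zpowers k ≤ normalizer (A : Set G))
    (hnc : ¬ A ≤ centralizer ({k} : Set G)) (hcore : Cfsg.sigmaCore H ≤ centralizer ((⁅A, zpowers k⁆ : Subgroup G) : Set G))
    {c : G} (hM' : M' = conjMap c M) (hrσ : r ∈ Cfsg.sigma M') (hkM' : k ∈ M') (hAM' : A ≤ M')
    {y : G} (hy : y ∈ A) (hyo : orderOf y = r) (hyk : Commute y k) : False := by
  haveI := o.fact
  have hMc : IsCoatom M' := hM' ▸ isCoatom_conj hG o.d.hM c
  have hAσ : A ≤ Cfsg.sigmaCore M' := le_sigmaCore_of_pi hG hMc hAM'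
    fun t ht hd => (prime_dvd_pgroup_card hA.isPGroup ht hd) ▸ hrσ
  have hpσ : orderOf k ∉ Cfsg.sigma M' := by
    rw [hM', sigma_conjMap]
    exact o.d.not_sigma hG (o.d.K_le o.hk) o.hkp dvd_rfl
  have hpr : Cfsg.PRankLE (orderOf k) 1 M' := hM' ▸ prankLE_conjMap c
    (tau13_prankLE hG o.d.hM (o.d.tau k o.hk o.hkp))
  have hy1 : y ≠ 1 := fun e => hr.out.ne_one (by rw [← hyo, e, orderOf_one])
  have hκ : orderOf k ∈ Cfsg.kappa M' := mem_kappa_of_fix hG hMc hkM' o.hkp hpσ hpr fun hb =>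
    hy1 (mem_bot.mp (hb ▸ (⟨hAσ hy, mem_centralizer_singleton_iff.mpr hyk.eq⟩ :
      y ∈ Cfsg.sigmaCore M' ⊓ centralizer ({k} : Set G))))
  obtain ⟨K₃, hK₃, -, hkK₃⟩ := CfsgLib.Coprime.exists_invariant_hall_ge (A := (⊥ : Subgroup G)) bot_le
    (by rw [Subgroup.card_bot]; exact Nat.coprime_one_left _) (isSolvable_of_le_max hG hMc le_rfl)
    (zpowers_le.mpr hkM') bot_le (primes_zpowers o.hkp hκ)
  have hk3 : k ∈ K₃ := hkK₃ (mem_zpowers k)
  obtain ⟨U₃, E₃, d₃⟩ := exists_pdata_of_hall hG hMc hK₃ fun e =>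
    ne_one_of_prime o.hkp (mem_bot.mp (e ▸ hk3))
  have hU3 : U₃ ≠ ⊥ := by
    subst hM'
    exact o.d.U_ne_of_conj hG o.hU d₃
  obtain ⟨hnil, -⟩ := d₃.of_U_ne hG hU3
  obtain ⟨S, hS, hAS⟩ := exists_sylowIn_le hA.isPGroup hAσ
  have hMS : M' ≤ normalizer (S : Set G) := sylow_le_normalizer_of_nilpotent hG hMc hnil hS
  -- facts about `A` in `H`
  have hAH : A ≤ H := hAF.trans hF.1
  obtain ⟨-, ⟨hCA, -, -⟩, -⟩ := i1418 hG H o.hH F hF r hτ A ⟨hAF, hA.1, hA.2⟩
  obtain ⟨-, hSy, -, hCσ, -⟩ := i1417 hG H o.hH r hτ A ⟨hAH, hA.1, hA.2⟩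
  have hmemA : ∀ v : G, v ∈ centralizer (A : Set G) → orderOf v = r → v ∈ A := by
    intro v hv hvo
    have hp : IsPGroup r ↥(A ⊔ zpowers v) := hA.isPGroup.to_sup_of_normal_left'
      (isPGroup_of_card_prime (by rw [Nat.card_zpowers, hvo]))
      ((zpowers_le.mpr hv).trans (centralizer_le_normalizer _))
    obtain ⟨P, hP⟩ := (hp.comap_subtype (K := H)).exists_le_sylow
    have hPle : A ⊔ zpowers v ≤ (P : Subgroup H).map H.subtype := by
      rw [← map_subgroupOf_eq_of_le (sup_le hAH (zpowers_le.mpr (hCA hv).1))]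
      exact map_mono hP
    exact (((hSy P).2 (le_sup_left.trans hPle)).1 v (hPle (mem_sup_right (mem_zpowers v)))).mp
      (hvo ▸ pow_orderOf_eq_one v)
  -- central elements of order `r` of `S` are fixed by `k`
  have hZ : ∀ v ∈ S ⊓ centralizer (S : Set G), orderOf v = r → v ∈ A ∧ Commute v k := by
    intro v hv hvo
    have hvA : v ∈ A := hmemA v (Subgroup.centralizer_le hAS hv.2) hvo
    refine ⟨hvA, by_contra fun hvk => ?_⟩
    set w := ⁅v, k⁆ with hw
    have hw1 : w ≠ 1 := fun e => hvk (commutatorElement_eq_one_iff_commute.mp e)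
    have hwA : w ∈ ⁅A, zpowers k⁆ := commutator_mem_commutator hvA (mem_zpowers k)
    have hn : M' ≤ normalizer ((S ⊓ centralizer (S : Set G) : Subgroup G) : Set G) :=
      CfsgLib.Comp.le_normalizer_inf hMS (hMS.trans fun a ha => by
        rw [← conjMap_eq_self_iff, conjMap_centralizer, conjMap_eq_self_iff.mpr ha])
    have hwS : w ∈ S ⊓ centralizer (S : Set G) := by
      rw [hw, commutatorElement_def, show v * k * v⁻¹ * k⁻¹ = v * (k * v⁻¹ * k⁻¹) by group]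
      exact mul_mem hv ((mem_normalizer_iff.mp (hn hkM') _).mp (inv_mem hv))
    have hwle : ⁅A, zpowers k⁆ ≤ A := CfsgLib.Comp.commutator_le_of_le_normalizer hkA
    have hwo : orderOf w = r := orderOf_eq_prime (hA.1.2 w (hwle hwA)) hw1
    obtain ⟨y₀, hy₀, hy₀1⟩ := (Cfsg.sigmaCore H).bot_or_exists_ne_one.resolve_left
      (sigmaCore_ne_bot hG o.hH)
    have hSH : S ≤ H := fun s hs => (centralizer_tau2_element hG o.hH (hAH (hwle hwA)) hw1
      (fun q hq hd => by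
        rw [hwo] at hd
        exact ((Nat.prime_dvd_prime_iff_eq hq hr.out).mp hd) ▸ hτ)
      hy₀ hy₀1 (mem_centralizer_iff.mp (hcore hy₀) w hwA)).1
      (mem_centralizer_singleton_iff.mpr (mem_centralizer_iff.mp hwS.2 s hs))
    obtain ⟨P, hP⟩ := (hS.2.1.comap_subtype (K := H)).exists_le_sylow
    have hSP : S ≤ (P : Subgroup H).map H.subtype := by
      rw [← map_subgroupOf_eq_of_le hSH]
      exact map_mono hP
    haveI := (hSy P).1
    have hSab : IsMulCommutative S := isMulCommutative_of_le hSP (Subgroup.map_isMulCommutative _ _)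
    have hβ : r ∉ Cfsg.beta M' := fun h => (i1408 hG H o.hH r hτ.2.1 hτ.2.2.1 hτ.2.2.2).1 h.2
    have hb := fixed_eq_bot_of_abelian hG hMc (d₃.tau1_all hG hk3 o.hkp) hrσ hβ (zpowers_le.mpr hkM')
      (card_zpowers_eq rfl) hS hSab
    rw [centralizer_zpowers_eq] at hb
    exact hy1 (mem_bot.mp (hb ▸ (⟨hAS hy, mem_centralizer_singleton_iff.mpr hyk.eq⟩ :
      y ∈ S ⊓ centralizer ({k} : Set G))))
  -- so `Ω₁ Z(S) = ⟨y⟩`
  have hline : ∀ v ∈ A, Commute v k → v ∈ zpowers y := by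
    intro v hv hvk
    by_contra hvy
    refine hnc ?_
    have hlt : zpowers y < A ⊓ centralizer ({k} : Set G) := lt_of_le_of_ne
      (zpowers_le.mpr ⟨hy, mem_centralizer_singleton_iff.mpr hyk.eq⟩)
      fun e => hvy (e ▸ ⟨hv, mem_centralizer_singleton_iff.mpr hvk.eq⟩)
    have hd : Nat.card ↥(A ⊓ centralizer ({k} : Set G)) ∣ r ^ 2 := hA.2 ▸ card_dvd_of_le inf_le_left
    obtain ⟨i, hi, he⟩ := (Nat.dvd_prime_pow hr.out).mp hd
    have h1 : r < Nat.card ↥(A ⊓ centralizer ({k} : Set G)) := by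
      rw [← hyo, ← Nat.card_zpowers]
      exact lt_of_le_of_ne (Subgroup.card_le_of_le hlt.le) fun e =>
        hlt.ne (eq_of_le_of_card_ge hlt.le e.ge)
    have hi2 : i = 2 := by
      rw [he] at h1
      rcases i with _ | _ | i
      · have := hr.out.two_le
        rw [pow_zero] at h1
        omega
      · simp at h1
      · omega
    exact (eq_of_le_of_card_ge inf_le_left (by rw [he, hi2, hA.2])).ge.trans inf_le_right
  have hS1 : S ≠ ⊥ := fun e => hA.ne_bot (le_bot_iff.mp (e ▸ hAS))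
  obtain ⟨v, hv, hvo⟩ := exists_central_prime hS.2.1 hS1
  obtain ⟨hvA, hvk⟩ := hZ v hv hvo
  have hv1 : v ≠ 1 := fun e => hr.out.ne_one (by rw [← hvo, e, orderOf_one])
  have hyv : zpowers v = zpowers y := zpowers_eq_of_card_prime (p := r)
    (by rw [Nat.card_zpowers, hyo]) (hline v hvA hvk) hv1
  have hU3n : ∀ u ∈ U₃, u ∈ normalizer (zpowers y : Set G) := by
    intro u hu
    have huM : u ∈ M' := d₃.U_le_M hG hu
    have hn : M' ≤ normalizer ((S ⊓ centralizer (S : Set G) : Subgroup G) : Set G) :=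
      CfsgLib.Comp.le_normalizer_inf hMS (hMS.trans fun a ha => by
        rw [← conjMap_eq_self_iff, conjMap_centralizer, conjMap_eq_self_iff.mpr ha])
    obtain ⟨h1, h2⟩ := hZ (u * v * u⁻¹) ((mem_normalizer_iff.mp (hn huM) v).mp hv)
      (by rw [orderOf_conj', hvo])
    rw [← conjMap_eq_self_iff, ← hyv, ← zpowers_conj_eq]
    rw [hyv]
    exact zpowers_eq_of_card_prime (p := r) (by rw [Nat.card_zpowers, hyo]) (hline _ h1 h2)
      fun e => hv1 (conj_eq_one_iff.mp e)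
  refine hy1 (mem_bot.mp ((d₃.star_U hG hU3).le ⟨hAσ hy, ?_⟩))
  show y ∈ centralizer (U₃ : Set G)
  rw [mem_centralizer_iff]
  intro u hu
  obtain ⟨t, ht, rfl⟩ := d₃.exists_commutator hG hk3 (ne_one_of_prime o.hkp) hu
  have hkC : k ∈ centralizer ({y} : Set G) := mem_centralizer_singleton_iff.mpr hyk.symm.eq
  have htk : t * k * t⁻¹ ∈ centralizer ({y} : Set G) := by
    have h1 : zpowers y = zpowers (t * y * t⁻¹) := by
      rw [zpowers_conj_eq, conjMap_eq_self_iff.mpr (hU3n t ht)]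
    have h2 : t * k * t⁻¹ ∈ centralizer (zpowers (t * y * t⁻¹) : Set G) := by
      rw [centralizer_zpowers_eq, centralizer_conj]
      exact conj_mem_conjMap hkC
    rw [← h1, centralizer_zpowers_eq] at h2
    exact h2
  exact mem_centralizer_singleton_iff.mp (mul_mem htk (inv_mem hkC))

/-- `k` centralizes every square of a complement. -/
theorem no_square {F A : Subgroup G} {r : ℕ} [hr : Fact r.Prime]
    (hF : Cfsg.IsComplIn F (Cfsg.sigmaCore H) H) (hkF : k ∈ F) (hτ : r ∈ Cfsg.tau2 H) (hA : IsSq r A)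
    (hAF : A ≤ F) : A ≤ centralizer ({k} : Set G) := by
  by_contra hnc
  haveI := o.fact
  have hAH : A ≤ H := hAF.trans hF.1
  obtain ⟨⟨hEA, hΩ⟩, -, -⟩ := i1418 hG H o.hH F hF r hτ A ⟨hAF, hA.1, hA.2⟩
  have hkA : zpowers k ≤ normalizer (A : Set G) := zpowers_le.mpr (hEA hkF)
  have hrp : orderOf k ≠ r := by
    intro e
    refine hnc (fun a ha => mem_centralizer_singleton_iff.mpr ?_)
    exact (commute_of_isMulCommutative hA.1.1 ha
      (hΩ _ (zpowers_le.mpr hkF) (card_zpowers_eq e) (mem_zpowers k))).eq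
  have hcop : (Nat.card (zpowers k)).Coprime (Nat.card A) :=
    coprime_pgroup (pgroup_zpowers k) hA.isPGroup hrp
  set A' := ⁅A, zpowers k⁆ with hA'
  have hA'le : A' ≤ A := CfsgLib.Comp.commutator_le_of_le_normalizer hkA
  have hA'1 : A' ≠ ⊥ := fun e => hnc (by
    rw [← centralizer_zpowers_eq]
    exact commutator_eq_bot_iff_le_centralizer.mp e)
  have hA'f : A' ⊓ centralizer ({k} : Set G) = ⊥ := by
    rw [← centralizer_zpowers_eq]
    exact CfsgLib.Coprime.commutator_inf_centralizer_eq_bot hA.1.1 hkA hcop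
  have hcore := o.centralizes_core hG hF hkF (hA'le.trans hAF) hA'1
    (CfsgLib.Comp.FF.le_normalizer_commutator hkA le_normalizer) hA'f
  -- the fixed line
  have hfix : A ⊓ centralizer ({k} : Set G) ≠ ⊥ := by
    intro hb
    obtain ⟨-, -, -, hC, -⟩ := i1417 hG H o.hH r hτ A ⟨hAH, hA.1, hA.2⟩
    exact sigmaCore_ne_bot hG o.hH (le_bot_iff.mp (hC ▸ le_inf le_rfl
      (o.centralizes_core hG hF hkF hAF hA.ne_bot hkA hb)))
  obtain ⟨y, hy, hy1⟩ := (A ⊓ centralizer ({k} : Set G)).bot_or_exists_ne_one.resolve_left hfix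
  have hyo : orderOf y = r := orderOf_eq_prime (hA.1.2 y hy.1) hy1
  have hyk : Commute y k := mem_centralizer_singleton_iff.mp hy.2
  obtain ⟨L₃, hL₃, hNL₃, hrL₃, -⟩ := exists_max_over_square hG o.hH hτ.2.1 hA hAH
  have hAL₃ : A ≤ L₃ := le_normalizer.trans hNL₃
  have hkL₃ : k ∈ L₃ := hNL₃ (hEA hkF)
  by_cases hrL : r ∈ Cfsg.sigma L
  · -- `r` not ideal, so `k` centralizes `A`
    obtain ⟨c, hc⟩ := exists_conj_of_sigma_inter hG o.d₁.hM hL₃ hrL hrL₃
    have hLL : L₃ = L := o.eq_L hG hL₃ hkL₃ (by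
      rw [hc, sigma_conjMap]
      exact o.sigma_L hG)
    refine hnc fun a ha => mem_centralizer_comm.mp ?_
    have hAL : A ≤ L := hLL ▸ hAL₃
    have hAd : A ≤ ⁅L, L⁆ := (le_sigmaCore_of_pi hG o.d₁.hM hAL fun t ht hd =>
      (prime_dvd_pgroup_card hA.isPGroup ht hd) ▸ hrL).trans (sigmaCore_le_derived hG o.d₁.hM)
    have h := nonbeta_centralizes hG o.d₁.hM
      (fun h => (i1408 hG H o.hH r hτ.2.1 hτ.2.2.1 hτ.2.2.2).1 h.2) hA.isPGroup hAd
      (sigmaCore_le_derived hG o.d₁.hM (o.k_star hG).1) (hEA hkF)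
      ((Nat.coprime_primes o.hkp hr.out).mpr hrp)
    exact centralizer_le_of_mem ha h
  have hyL : y ∈ L := o.centralizer_le hG hy.2
  rcases Cfsg.Agent.S1432.main hG o.d₁.hM (o.k_star hG).1 (ne_one_of_prime o.hkp) hyL hyk.eq hy1
    (fun q hq hd => by
      rw [hyo] at hd
      exact (Nat.prime_dvd_prime_iff_eq hq hr.out).mp hd ▸ hrL) with ⟨hκ, -⟩ | ⟨-, -, hCy, -⟩
  · obtain ⟨-, hd⟩ := (o.d₁.mem_kappa_iff hG).mp (hκ r hr.out (hyo ▸ dvd_rfl))
    obtain ⟨c, hc⟩ := exists_conj_of_sigma_inter hG o.d.hM hL₃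
      (mem_sigma_of_dvd_sigmaCore hr.out (hd.trans (card_dvd_of_le inf_le_left))) hrL₃
    exact o.false_of_sigma_M hG hF hτ hA hAF hkA hnc hcore hc hrL₃ hkL₃ hAL₃ hy.1 hyo hyk
  · have hAL : A ≤ L := fun a ha => hCy (mem_centralizer_singleton_iff.mpr
      (commute_of_isMulCommutative hA.1.1 ha hy.1).eq)
    obtain ⟨w, hw, hw1⟩ := A'.bot_or_exists_ne_one.resolve_left hA'1
    have hwL : w ∈ Cfsg.sigmaCore L := by
      have hle : A' ≤ Cfsg.sigmaCore L := by
        rw [hA', commutator_le]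
        intro a ha b hb
        rw [commutatorElement_def]
        exact mul_mem ((mem_normalizer_iff.mp (le_normalizer_sigmaCore L (hAL ha)) _).mp
          (zpowers_le.mpr (o.k_star hG).1 hb)) (inv_mem (zpowers_le.mpr (o.k_star hG).1 hb))
      exact hle hw
    exact hrL (mem_sigma_of_dvd_sigmaCore hr.out
      ((orderOf_eq_prime (hA.1.2 w (hA'le hw)) hw1) ▸ (Cfsg.sigmaCore L).orderOf_dvd_natCard hwL))

/-- `k` moves no abelian `r`-subgroup of a complement. -/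
theorem moved_false {F W : Subgroup G} {r : ℕ} [hr : Fact r.Prime]
    (hF : Cfsg.IsComplIn F (Cfsg.sigmaCore H) H) (hkF : k ∈ F) (hW : W ≤ F) (hWr : IsPGroup r W)
    (hW1 : W ≠ ⊥) (hn : zpowers k ≤ normalizer (W : Set G))
    (hfpf : W ⊓ centralizer ({k} : Set G) = ⊥) : False := by
  obtain ⟨x, hx, hxo⟩ := exists_order_p hWr hW1
  have hx1 : x ≠ 1 := fun e => hr.out.ne_one (by rw [← hxo, e, orderOf_one])
  have hxH : x ∈ H := hF.1 (hW hx)
  have hσ : r ∉ Cfsg.sigma H := not_sigma_of_mem_compl hG o.hH hF (hW hx) hr.out (hxo ▸ dvd_rfl)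
  by_cases hrk : Cfsg.PRankLE r 1 H
  · have hb := o.no_fixer hG hxH (hxo.symm ▸ hr.out) (hxo.symm ▸ hσ) (hxo.symm ▸ hrk)
    exact sigmaCore_ne_bot hG o.hH (le_bot_iff.mp (hb ▸ le_inf le_rfl
      ((o.centralizes_core hG hF hkF hW hW1 hn hfpf).trans (centralizer_le_of_mem hx))))
  · have hτ : r ∈ Cfsg.tau2 H := ⟨hr.out, hσ, prankLE_two_of_not_sigma hG o.hH hσ, hrk⟩
    obtain ⟨A, A₀, hAF, hA⟩ := tau2_square hG o.hH hF hτ
    obtain ⟨⟨-, hΩ⟩, -, -⟩ := i1418 hG H o.hH F hF r hτ A ⟨hAF, hA.sq.1, hA.sq.2⟩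
    have hxA : x ∈ A := hΩ _ (zpowers_le.mpr (hW hx)) (card_zpowers_eq hxo) (mem_zpowers x)
    exact hx1 (mem_bot.mp (hfpf ▸ (⟨hx, o.no_square hG hF hkF hτ hA.sq hAF hxA⟩ :
      x ∈ W ⊓ centralizer ({k} : Set G))))

end Outside

end CfsgLib.BG14
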