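import Cfsg.Agent.Lib.BG14.KappaBase
import Cfsg.Agent.Lib.PGroup.CyclicIndex
import Cfsg.Agent.Lib.BG.SquareLines

/-!
A cyclic group acting on a narrow `p`-group with small fixed points forces order `p ^ 3`.
-/

set_option autoImplicit false
set_option linter.style.haveILetI false
set_option linter.unusedSectionVars false

namespace CfsgLib.BG14

open Subgroup CfsgLib.PLocal CfsgLib.OddLocal CfsgLib.BG
open scoped commutatorElement

universe u
variable {G : Type u} [Group G] [Finite G] {p : ℕ} [hp : Fact p.Prime]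

theorem commutator_mul_left_of_commute {a b w : G} (h1 : Commute a ⁅b, w⁆)
    (h2 : Commute ⁅b, w⁆ ⁅a, w⁆) : ⁅a * b, w⁆ = ⁅a, w⁆ * ⁅b, w⁆ := by
  calc ⁅a * b, w⁆ = a * ⁅b, w⁆ * a⁻¹ * ⁅a, w⁆ := by simp only [commutatorElement_def]; group
    _ = ⁅a, w⁆ * ⁅b, w⁆ := by rw [h1.eq, mul_inv_cancel_right, h2.eq]

theorem commutator_mul_right_of_commute {a b w : G} (h : Commute a ⁅w, b⁆) :
    ⁅w, a * b⁆ = ⁅w, a⁆ * ⁅w, b⁆ := by
  calc ⁅w, a * b⁆ = ⁅w, a⁆ * (a * ⁅w, b⁆ * a⁻¹) := by simp only [commutatorElement_def]; group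
    _ = ⁅w, a⁆ * ⁅w, b⁆ := by rw [h.eq, mul_inv_cancel_right]

theorem card_lt_of_lt {A B : Subgroup G} (h : A < B) : Nat.card A < Nat.card B := by
  by_contra hle
  exact h.ne (eq_of_le_of_card_ge h.le (not_lt.mp hle))

/-- Iterating `k x k⁻¹ ∈ x ^ j Z`. -/
theorem conj_pow_mod {Z : Subgroup G} {k x : G} {j : ℕ} (hk : k ∈ normalizer (Z : Set G))
    (hxZ : ∀ c ∈ Z, Commute x c) (hZc : ∀ a ∈ Z, ∀ b ∈ Z, Commute a b)
    (h : (x ^ j)⁻¹ * (k * x * k⁻¹) ∈ Z) (n : ℕ) :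
    (x ^ j ^ n)⁻¹ * (k ^ n * x * (k ^ n)⁻¹) ∈ Z := by
  induction n with
  | zero => simp
  | succ n ih =>
    set c := (x ^ j ^ n)⁻¹ * (k ^ n * x * (k ^ n)⁻¹) with hc
    set c0 := (x ^ j)⁻¹ * (k * x * k⁻¹) with hc0
    have e1 : k ^ n * x * (k ^ n)⁻¹ = x ^ j ^ n * c := by rw [hc]; group
    have e2 : k ^ (n + 1) * x * (k ^ (n + 1))⁻¹ = (k * x * k⁻¹) ^ j ^ n * (k * c * k⁻¹) := by
      calc k ^ (n + 1) * x * (k ^ (n + 1))⁻¹ = k * (k ^ n * x * (k ^ n)⁻¹) * k⁻¹ := by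
            rw [pow_succ']; group
        _ = (k * x ^ j ^ n * k⁻¹) * (k * c * k⁻¹) := by rw [e1]; group
        _ = (k * x * k⁻¹) ^ j ^ n * (k * c * k⁻¹) := by rw [conj_pow]
    have e3 : k * x * k⁻¹ = x ^ j * c0 := by rw [hc0]; group
    have hcc : Commute (x ^ j) c0 := (hxZ c0 h).pow_left j
    rw [e2, e3, hcc.mul_pow, ← pow_mul, ← pow_succ', ← mul_assoc (x ^ j ^ (n + 1))⁻¹,
      ← mul_assoc (x ^ j ^ (n + 1))⁻¹, inv_mul_cancel, one_mul]
    exact Subgroup.mul_mem _ (pow_mem h _) ((mem_normalizer_iff.mp hk c).mp ih)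

/-- An element stabilizing `1 < Z < ⟨x⟩ Z` of coprime order centralizes `x`. -/
theorem commute_of_stab {e x c : G} (hec : Commute e c) (hxc : Commute x c) (hcp : c ^ p = 1)
    (hcop : (orderOf e).Coprime p) (h : e * x * e⁻¹ = x * c) : Commute e x := by
  have hn : ∀ n : ℕ, e ^ n * x * (e ^ n)⁻¹ = x * c ^ n := by
    intro n
    induction n with
    | zero => simp
    | succ n ih =>
      calc e ^ (n + 1) * x * (e ^ (n + 1))⁻¹ = e * (e ^ n * x * (e ^ n)⁻¹) * e⁻¹ := by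
            rw [pow_succ']; group
        _ = (e * x * e⁻¹) * (e * c ^ n * e⁻¹) := by rw [ih]; group
        _ = x * c * c ^ n := by rw [h, (hec.pow_right n).eq, mul_inv_cancel_right]
        _ = x * c ^ (n + 1) := by rw [pow_succ', mul_assoc]
  have h1 := hn (orderOf e)
  rw [pow_orderOf_eq_one, one_mul, inv_one, mul_one, left_eq_mul] at h1
  have h2 : orderOf c = 1 := Nat.eq_one_of_dvd_one (hcop ▸
    Nat.dvd_gcd (orderOf_dvd_of_pow_eq_one h1) (orderOf_dvd_of_pow_eq_one hcp))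
  rw [orderOf_eq_one_iff] at h2
  rw [h2, mul_one] at h
  exact mul_inv_eq_iff_eq_mul.mp h

/-- `k ^ (p - 1)` fixes every line of a `k`-invariant chain of lines modulo `Z`. -/
theorem conj_pred_mod {Z : Subgroup G} {k x : G} {j : ℕ} (hk : k ∈ normalizer (Z : Set G))
    (hxZ : ∀ c ∈ Z, Commute x c) (hZc : ∀ a ∈ Z, ∀ b ∈ Z, Commute a b) (hxp : x ^ p = 1)
    (hx : x ∉ Z) (h : (x ^ j)⁻¹ * (k * x * k⁻¹) ∈ Z) :
    x⁻¹ * (k ^ (p - 1) * x * (k ^ (p - 1))⁻¹) ∈ Z := by
  have hj : ¬ p ∣ j := by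
    rintro ⟨i, rfl⟩
    rw [pow_mul, hxp, one_pow, inv_one, one_mul] at h
    exact hx ((mem_normalizer_iff.mp hk x).mpr h)
  have hm : j ^ (p - 1) ≡ 1 [MOD p] := by
    have := Nat.ModEq.pow_totient ((Nat.Prime.coprime_iff_not_dvd hp.out).mpr hj).symm
    rwa [Nat.totient_prime hp.out] at this
  have hx1 : x ≠ 1 := fun e => hx (e ▸ one_mem Z)
  have he : x ^ j ^ (p - 1) = x := by
    conv_rhs => rw [← pow_one x]
    rw [pow_eq_pow_iff_modEq, orderOf_eq_prime hxp hx1]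
    exact hm
  have := conj_pow_mod hk hxZ hZc h (p - 1)
  rwa [he] at this

theorem commute_pow_pred {X : Subgroup G} (hX : Nat.card X = p) {k : G}
    (hk : k ∈ normalizer (X : Set G)) {x : G} (hx : x ∈ X) : Commute (k ^ (p - 1)) x := by
  rcases eq_or_ne x 1 with rfl | hx1
  · exact Commute.one_right _
  have hz := zpowers_eq_of_card_prime hX hx hx1
  have hkx : k * x * k⁻¹ ∈ zpowers x := by rw [hz]; exact (mem_normalizer_iff.mp hk x).mp hx
  obtain ⟨j, hj : x ^ j = k * x * k⁻¹⟩ := (mem_powers_iff_mem_zpowers (x := x)).mpr hkx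
  have h := conj_pred_mod (p := p) (Z := ⊥) (k := k) (x := x) (j := j) (mem_normalizer_iff.mpr fun a => by
      simp) (fun c hc => by rw [mem_bot.mp hc]; exact Commute.one_right x)
    (fun a ha b _ => by rw [mem_bot.mp ha]; exact Commute.one_left b)
    (by
      rw [← zpowers_eq_of_card_prime hX hx hx1, Nat.card_zpowers] at hX
      rw [← hX]
      exact pow_orderOf_eq_one x) (fun h => hx1 (mem_bot.mp h))
    (by rw [hj, inv_mul_cancel, mem_bot])
  rw [mem_bot, inv_mul_eq_one] at h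
  exact mul_inv_eq_iff_eq_mul.mp h.symm

section

variable {P K A Z : Subgroup G} {z : G}

/-- The setting of the theorem. -/
structure CubeData (p : ℕ) (P K A Z : Subgroup G) (z : G) : Prop where
  odd : p ≠ 2
  pgroup : IsPGroup p P
  sq : IsSq p A
  A_le : A ≤ P
  line : IsLine p A Z
  central : P ≤ centralizer (Z : Set G)
  z_mem : z ∈ A
  not_central : ¬ P ≤ centralizer ({z} : Set G)
  omega : ∀ x ∈ P, Commute x z → x ^ p = 1 → x ∈ A
  cyclic : IsCyclic K
  normal : K ≤ normalizer (P : Set G)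
  oddK : Odd (Nat.card K)
  coprime : (Nat.card K).Coprime (Nat.card P)
  prime_act : ∀ k ∈ K, k ≠ 1 → P ⊓ centralizer ({k} : Set G) = P ⊓ centralizer (K : Set G)
  fix_le : P ⊓ centralizer (K : Set G) ≤ ⁅P, P⁆
  not_dvd : ¬ Monoid.exponent K ∣ p - 1

namespace CubeData

variable (c : CubeData p P K A Z z)
include c

theorem z_pow : z ^ p = 1 := c.sq.1.2 z c.z_mem

theorem z_not_mem : z ∉ Z := fun h => c.not_central fun y hy =>
  mem_centralizer_singleton_iff.mpr (mem_centralizer_iff.mp (c.central hy) z h).symm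

theorem z_mem_P : z ∈ P := c.A_le c.z_mem

theorem Z_le : Z ≤ P := c.line.1.trans c.A_le

theorem comm_Z {x y : G} (hx : x ∈ P) (hy : y ∈ Z) : Commute x y :=
  (mem_centralizer_iff.mp (c.central hx) y hy).symm

theorem comm_Z' : ∀ a ∈ Z, ∀ b ∈ Z, Commute a b := fun _ ha _ hb => c.comm_Z (c.Z_le ha) hb

theorem mem_Z_of_central {x : G} (hx : x ∈ P) (hxP : ∀ y ∈ P, Commute x y) (hxp : x ^ p = 1) :
    x ∈ Z := by
  have hxA := c.omega x hx (hxP z c.z_mem_P) hxp
  by_contra hxZ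
  have hl := c.sq.card_zpowers hxA fun e => hxZ (e ▸ one_mem Z)
  obtain ⟨a, ha, b, hb, hab⟩ := c.sq.exists_decomp c.line hl
    (fun e => hxZ (e.ge (mem_zpowers x))) c.z_mem
  refine c.not_central fun y hy => mem_centralizer_singleton_iff.mpr ?_
  obtain ⟨i, rfl⟩ := mem_zpowers_iff.mp hb
  rw [← hab]
  exact ((c.comm_Z hy ha).mul_right ((hxP y hy).symm.zpow_right i)).eq

theorem normalizer_Z : K ≤ normalizer (Z : Set G) := by
  intro k hk
  rw [← conjMap_eq_self_iff]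
  refine eq_of_le_of_card_ge ?_ (card_conjMap k _).ge
  rintro _ ⟨x, hx, rfl⟩
  rw [SetLike.mem_coe] at hx
  have hkP := mem_normalizer_iff.mp (c.normal hk)
  refine c.mem_Z_of_central ((hkP x).mp (c.Z_le hx)) (fun y hy => ?_) ?_
  · have hy' : k⁻¹ * y * k ∈ P := (hkP _).mpr (by simpa [mul_assoc] using hy)
    have h := c.comm_Z hy' hx
    show Commute (k * x * k⁻¹) y
    have h2 := h.symm.map (MulAut.conj k).toMonoidHom
    simpa [mul_assoc] using h2
  · show (k * x * k⁻¹) ^ p = 1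
    rw [conj_pow, c.sq.1.2 x (c.line.1 hx)]
    group

theorem coprime_orderOf {k : G} (hk : k ∈ K) : (orderOf k).Coprime p := by
  refine (c.coprime.coprime_dvd_left (K.orderOf_dvd_natCard hk)).coprime_dvd_right ?_
  exact c.line.2 ▸ card_dvd_of_le c.Z_le

/-- Elements of `T` : order `p`, commutators with `P` in `Z`. -/
def T (_c : CubeData p P K A Z z) : Subgroup G :=
  Subgroup.closure {x : G | x ∈ P ∧ x ^ p = 1 ∧ ∀ y ∈ P, ⁅y, x⁆ ∈ Z}

theorem mem_T_iff {x : G} : x ∈ c.T ↔ x ∈ P ∧ x ^ p = 1 ∧ ∀ y ∈ P, ⁅y, x⁆ ∈ Z := by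
  refine ⟨fun h => ?_, fun h => subset_closure h⟩
  induction h using Subgroup.closure_induction with
  | mem x hx => exact hx
  | one => exact ⟨one_mem P, one_pow p, fun y _ => by rw [commutatorElement_one_right]; exact one_mem Z⟩
  | mul a b _ _ ha hb =>
    have hd : b * a * b⁻¹ * a⁻¹ ∈ Z := ha.2.2 b hb.1
    refine ⟨mul_mem ha.1 hb.1, ?_, fun y hy => ?_⟩
    · exact mul_pow_eq_one_of_class_two (hp.out.odd_of_ne_two c.odd) ha.2.1 hb.2.1
        (c.comm_Z ha.1 hd) (c.comm_Z hb.1 hd)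
    · rw [commutator_mul_right_of_commute (c.comm_Z ha.1 (hb.2.2 y hy))]
      exact mul_mem (ha.2.2 y hy) (hb.2.2 y hy)
  | inv a _ ha =>
    refine ⟨inv_mem ha.1, by rw [inv_pow, ha.2.1, inv_one], fun y hy => ?_⟩
    have h := ha.2.2 y hy
    rw [show ⁅y, a⁻¹⁆ = a⁻¹ * ⁅y, a⁆⁻¹ * a by simp only [commutatorElement_def]; group,
      (c.comm_Z (inv_mem ha.1) (inv_mem h)).eq, inv_mul_cancel_right]
    exact inv_mem h

theorem T_le : c.T ≤ P := fun _ hx => (c.mem_T_iff.mp hx).1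

theorem Z_le_T : Z ≤ c.T := fun x hx => c.mem_T_iff.mpr ⟨c.Z_le hx, c.sq.1.2 x (c.line.1 hx),
  fun y hy => by
    rw [commutatorElement_eq_one_iff_mul_comm.mpr (c.comm_Z hy hx).eq]
    exact one_mem Z⟩

theorem comm_T {y w : G} (hy : y ∈ P) (hw : w ∈ c.T) : ⁅y, w⁆ ∈ Z := (c.mem_T_iff.mp hw).2.2 y hy

theorem T_comm_mem {y w : G} (hy : y ∈ P) (hw : w ∈ c.T) : ⁅w, y⁆ ∈ Z := by
  rw [← commutatorElement_inv]
  exact inv_mem (c.comm_T hy hw)

/-- `y ↦ [y, w]` for `w ∈ T`. -/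
noncomputable def phi {w : G} (hw : w ∈ c.T) : P →* Z :=
  MonoidHom.mk' (fun y => ⟨⁅(y : G), w⁆, c.comm_T y.2 hw⟩) fun a b => Subtype.ext (by
    show ⁅(a : G) * b, w⁆ = _
    exact commutator_mul_left_of_commute (c.comm_Z a.2 (c.comm_T b.2 hw))
      (c.comm_Z' _ (c.comm_T b.2 hw) _ (c.comm_T a.2 hw)))

theorem phi_apply {w : G} (hw : w ∈ c.T) (y : P) : ((c.phi hw y : Z) : G) = ⁅(y : G), w⁆ := rfl

theorem commutator_commute {w : G} (hw : w ∈ c.T) {d : G} (hd : d ∈ ⁅P, P⁆) : Commute d w := by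
  rw [← Subgroup.map_subtype_commutator] at hd
  obtain ⟨d', hd', rfl⟩ := hd
  haveI : IsMulCommutative Z := ⟨⟨fun a b => Subtype.ext (c.comm_Z' a a.2 b b.2).eq⟩⟩
  have h : d' ∈ (c.phi hw).ker := by
    open scoped IsMulCommutative in exact Abelianization.commutator_subset_ker (c.phi hw) hd'
  rw [MonoidHom.mem_ker] at h
  exact commutatorElement_eq_one_iff_mul_comm.mp ((c.phi_apply hw d').symm.trans
    (congrArg Subtype.val h))

theorem exists_mem_T : ∃ x ∈ c.T, x ∉ Z := by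
  have hPc : ¬ IsCyclic P := fun h => c.sq.not_isCyclic
    (@isCyclic_of_injective _ _ _ _ h (Subgroup.inclusion c.A_le) (Subgroup.inclusion_injective _))
  obtain ⟨E, -, hEn, hEe, hEc⟩ := CfsgLib.PGroup.exists_normal_elementary_sq_le c.odd c.pgroup
    (⊤ : Subgroup P) fun h => hPc
      ((topEquiv : (⊤ : Subgroup P) ≃* P).isCyclic.mp h)
  haveI := hEn
  haveI := c.pgroup.isNilpotent
  have hE1 : E ≠ ⊥ := fun e => by
    rw [e, Subgroup.card_bot] at hEc
    exact absurd hEc.symm (Nat.one_lt_pow two_ne_zero hp.out.one_lt).ne'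
  set F := E.map P.subtype with hF
  have hFc : Nat.card F = p ^ 2 := by rw [hF, card_map_of_injective P.subtype_injective, hEc]
  have hFp : ∀ x ∈ F, x ^ p = 1 := by
    rintro _ ⟨x, hx, rfl⟩
    rw [← map_pow, hEe.2 x hx, map_one]
  have hFP : F ≤ P := map_subtype_le _
  -- `Z ≤ F`
  obtain ⟨w, hw, hw1⟩ := (E ⊓ center P).bot_or_exists_ne_one.resolve_left
    (CfsgLib.Solvable.normal_inf_center_ne_bot E hE1)
  have hwF : (w : G) ∈ F := ⟨w, hw.1, rfl⟩
  have hwZ : (w : G) ∈ Z := c.mem_Z_of_central w.2 (fun y hy =>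
    congrArg Subtype.val (mem_center_iff.mp hw.2 ⟨y, hy⟩).symm) (hFp _ hwF)
  have hZF : Z ≤ F := by
    rw [← zpowers_eq_of_card_prime c.line.2 hwZ fun e => hw1 (Subtype.ext e)]
    exact zpowers_le.mpr hwF
  -- `[P, F] ≤ Z`
  haveI hZn : (Z.subgroupOf P).Normal := CfsgLib.Coprime.normal_subgroupOf_of_le_normalizer
    (c.central.trans (centralizer_le_normalizer _))
  set f := QuotientGroup.mk' (Z.subgroupOf P)
  haveI : Group.IsNilpotent (P ⧸ Z.subgroupOf P) := Group.nilpotent_of_surjective f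
    (QuotientGroup.mk'_surjective _)
  haveI : (E.map f).Normal := hEn.map f (QuotientGroup.mk'_surjective _)
  have hZE : Z.subgroupOf P ≤ E := fun a ha => by
    obtain ⟨b, hb, hbe⟩ := hZF (mem_subgroupOf.mp ha)
    rwa [← Subtype.ext hbe]
  have hEf : Nat.card (E.map f) = p := by
    have h := CfsgLib.Coprime.card_mul_relIndex hZE
    have hk : f.ker = Z.subgroupOf P := QuotientGroup.ker_mk' _
    rw [← hk, relIndex_ker] at h
    rw [hk, CfsgLib.Coprime.card_subgroupOf c.Z_le, c.line.2, hEc, pow_two] at h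
    exact Nat.eq_of_mul_eq_mul_left hp.out.pos h
  have hcen : E.map f ≤ center (P ⧸ Z.subgroupOf P) := by
    obtain ⟨u, hu, hu1⟩ := (E.map f ⊓ center (P ⧸ Z.subgroupOf P)).bot_or_exists_ne_one.resolve_left
      (CfsgLib.Solvable.normal_inf_center_ne_bot _ (ne_bot_of_card_prime hEf))
    rw [← zpowers_eq_of_card_prime hEf hu.1 hu1, zpowers_le]
    exact hu.2
  obtain ⟨x, hxF, hxZ⟩ := SetLike.not_le_iff_exists.mp (show ¬ F ≤ Z from fun h => by
    have := card_le_of_le h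
    rw [hFc, c.line.2] at this
    nlinarith [hp.out.one_lt])
  refine ⟨x, c.mem_T_iff.mpr ⟨hFP hxF, hFp x hxF, fun y hy => ?_⟩, hxZ⟩
  obtain ⟨x', hx', rfl⟩ := hxF
  have h1 : f ⁅(⟨y, hy⟩ : P), x'⁆ = 1 := by
    rw [map_commutatorElement, commutatorElement_eq_one_iff_mul_comm]
    exact mem_center_iff.mp (hcen (mem_map_of_mem f hx')) _
  exact mem_subgroupOf.mp ((QuotientGroup.eq_one_iff _).mp h1)

theorem card_T_le : Nat.card c.T ≤ p ^ 3 := by
  set ψ : c.T →* Z := MonoidHom.mk' (fun x => ⟨⁅(x : G), z⁆, c.T_comm_mem c.z_mem_P x.2⟩)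
    fun a b => Subtype.ext (commutator_mul_left_of_commute
      (c.comm_Z (c.T_le a.2) (c.T_comm_mem c.z_mem_P b.2))
      (c.comm_Z' _ (c.T_comm_mem c.z_mem_P b.2) _ (c.T_comm_mem c.z_mem_P a.2))) with hψ
  rw [← ψ.ker.card_mul_index, Subgroup.index_ker, pow_succ]
  refine Nat.mul_le_mul ?_ ((card_le_card_group ψ.range).trans c.line.2.le)
  rw [← card_map_of_injective c.T.subtype_injective, ← c.sq.2]
  refine card_le_of_le ?_
  rintro _ ⟨x, hx, rfl⟩
  exact c.omega _ (c.T_le x.2) (commutatorElement_eq_one_iff_mul_comm.mp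
    (congrArg Subtype.val (MonoidHom.mem_ker.mp hx))) (c.mem_T_iff.mp x.2).2.1

theorem exists_fixer : ∃ e ∈ K, e ≠ 1 ∧ (∀ X : Subgroup G, Nat.card X = p → K ≤ normalizer (X : Set G) →
    X ≤ centralizer ({e} : Set G)) ∧ ∀ x : G, x ^ p = 1 → x ∉ Z → (∀ v ∈ Z, Commute x v) →
      (∀ k ∈ K, ∃ j : ℕ, (x ^ j)⁻¹ * (k * x * k⁻¹) ∈ Z) → Commute e x := by
  obtain ⟨k, hk, hk1⟩ : ∃ k ∈ K, k ^ (p - 1) ≠ 1 := by
    by_contra h
    push Not at h
    exact c.not_dvd (Monoid.exponent_dvd_of_forall_pow_eq_one fun k => Subtype.ext (h k k.2))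
  refine ⟨k ^ (p - 1), pow_mem hk _, hk1, fun X hX hn x hx => mem_centralizer_singleton_iff.mpr
    (commute_pow_pred hX (hn hk) hx).eq.symm, fun x hxp hxZ hxc hl => ?_⟩
  obtain ⟨j, hj⟩ := hl k hk
  have h := conj_pred_mod (c.normalizer_Z hk) hxc c.comm_Z' hxp hxZ hj
  set d := x⁻¹ * (k ^ (p - 1) * x * (k ^ (p - 1))⁻¹) with hd
  refine commute_of_stab (c := d) (commute_pow_pred c.line.2 (c.normalizer_Z hk) h) (hxc d h)
    (c.sq.1.2 d (c.line.1 h)) (c.coprime_orderOf (pow_mem hk _)) ?_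
  rw [hd]; group

theorem Z_fix : Z ≤ P ⊓ centralizer (K : Set G) := by
  obtain ⟨e, he, he1, hX, -⟩ := c.exists_fixer
  rw [← c.prime_act e he he1]
  exact le_inf c.Z_le (hX Z c.line.2 c.normalizer_Z)

theorem normalizer_T : K ≤ normalizer (c.T : Set G) := by
  intro k hk
  rw [← conjMap_eq_self_iff]
  refine eq_of_le_of_card_ge ?_ (card_conjMap k _).ge
  rintro _ ⟨x, hx, rfl⟩
  rw [SetLike.mem_coe, c.mem_T_iff] at hx
  have hkP := mem_normalizer_iff.mp (c.normal hk)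
  refine c.mem_T_iff.mpr ⟨(hkP x).mp hx.1, ?_, fun y hy => ?_⟩
  · show (k * x * k⁻¹) ^ p = 1
    rw [conj_pow, hx.2.1]
    group
  · have hy' : k⁻¹ * y * k ∈ P := (hkP _).mpr (by simpa [mul_assoc] using hy)
    have h := (mem_normalizer_iff.mp (c.normalizer_Z hk) _).mp (hx.2.2 _ hy')
    show ⁅y, k * x * k⁻¹⁆ ∈ Z
    rwa [show ⁅y, k * x * k⁻¹⁆ = k * ⁅k⁻¹ * y * k, x⁆ * k⁻¹ by simp only [commutatorElement_def]; group]

/-- `T` is not of order `p ^ 2`. -/
theorem lt_card_T : p ^ 2 < Nat.card c.T := by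
  by_contra hle
  push Not at hle
  obtain ⟨t, ht, htZ⟩ := c.exists_mem_T
  have htP := c.T_le ht
  have htp := (c.mem_T_iff.mp ht).2.1
  have hlt : Z < c.T := lt_of_le_of_ne c.Z_le_T fun e => htZ (e ▸ ht)
  have hcard : Nat.card c.T = p ^ 2 := by
    obtain ⟨n, hn⟩ := IsPGroup.iff_card.mp (c.pgroup.to_le c.T_le)
    refine le_antisymm hle (hn ▸ Nat.pow_le_pow_right hp.out.pos ?_)
    by_contra h
    have := card_lt_of_lt hlt
    rw [c.line.2, hn] at this
    exact absurd (this.trans_le (Nat.pow_le_pow_right hp.out.pos (by omega : n ≤ 1))) (by simp)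
  have hsq : IsSq p c.T := ⟨⟨IsPGroup.isMulCommutative_of_card_eq_prime_sq hcard,
    fun x hx => (c.mem_T_iff.mp hx).2.1⟩, hcard⟩
  have hZl : IsLine p c.T Z := ⟨c.Z_le_T, c.line.2⟩
  have htl : IsLine p c.T (zpowers t) := hsq.card_zpowers ht fun e => htZ (e ▸ one_mem Z)
  have hne : zpowers t ≠ Z := fun e => htZ (e.le (mem_zpowers t))
  obtain ⟨e, he, he1, -, hline⟩ := c.exists_fixer
  have het : Commute e t := hline t htp htZ (fun v hv => c.comm_Z htP hv) fun k hk => by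
    obtain ⟨a, ha, b, hb, hab⟩ := hsq.exists_decomp htl hZl hne
      ((mem_normalizer_iff.mp (c.normalizer_T hk) t).mp ht)
    obtain ⟨j, hj : t ^ j = a⟩ := (mem_powers_iff_mem_zpowers (x := t)).mpr ha
    exact ⟨j, by rw [hj, ← hab, inv_mul_cancel_left]; exact hb⟩
  set C := P ⊓ centralizer ({t} : Set G) with hC
  have hCP : ¬ P ≤ C := fun h => htZ (c.mem_Z_of_central htP
    (fun y hy => (mem_centralizer_singleton_iff.mp (h hy).2).symm) htp)
  have hKe : zpowers e ≤ normalizer (P : Set G) := (zpowers_le.mpr he).trans c.normal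
  have hcop : (Nat.card (zpowers e)).Coprime (Nat.card P) :=
    c.coprime.coprime_dvd_left (card_dvd_of_le (zpowers_le.mpr he))
  refine hCP ((CfsgLib.Coprime.commutator_sup_centralizer hKe hcop
    (Or.inl (isSolvable_of_comm fun a b => mul_comm' a b))).symm.le.trans (sup_le ?_ ?_))
  · rw [commutator_le]
    intro y hy ε hε
    have hεy : ε * y⁻¹ * ε⁻¹ ∈ P := (mem_normalizer_iff.mp (hKe hε) _).mp (inv_mem hy)
    have hεK : ε ∈ K := zpowers_le.mpr he hε
    obtain ⟨i, rfl⟩ := mem_zpowers_iff.mp hε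
    refine mem_inf.mpr ⟨by
      rw [commutatorElement_def, mul_assoc y, mul_assoc y]
      exact mul_mem hy hεy, ?_⟩
    set φ := c.phi ht
    have hconj : φ ⟨_, hεy⟩ = φ ⟨_, inv_mem hy⟩ := Subtype.ext (by
      show ⁅e ^ i * y⁻¹ * (e ^ i)⁻¹, t⁆ = ⁅y⁻¹, t⁆
      have h1 : e ^ i * t * (e ^ i)⁻¹ = t := by rw [(het.zpow_left i).eq, mul_inv_cancel_right]
      have h2 : Commute (e ^ i) ⁅y⁻¹, t⁆ := (mem_centralizer_iff.mp
        (c.Z_fix (c.comm_T (inv_mem hy) ht)).2 _ hεK)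
      calc ⁅e ^ i * y⁻¹ * (e ^ i)⁻¹, t⁆ = ⁅e ^ i * y⁻¹ * (e ^ i)⁻¹, e ^ i * t * (e ^ i)⁻¹⁆ := by rw [h1]
        _ = e ^ i * ⁅y⁻¹, t⁆ * (e ^ i)⁻¹ := by simp only [commutatorElement_def]; group
        _ = ⁅y⁻¹, t⁆ := by rw [h2.eq, mul_inv_cancel_right])
    have hy' : φ (⟨y, hy⟩ * ⟨_, hεy⟩) = 1 := by
      rw [map_mul, hconj, ← map_mul, show (⟨y, hy⟩ : P) * ⟨y⁻¹, inv_mem hy⟩ = 1 from
        Subtype.ext (mul_inv_cancel y), map_one]
    rw [mem_centralizer_singleton_iff, commutatorElement_def, mul_assoc y, mul_assoc y]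
    have h3 := commutatorElement_eq_one_iff_mul_comm.mp ((c.phi_apply ht _).symm.trans
      (congrArg Subtype.val hy'))
    simpa [mul_assoc] using h3
  · refine le_trans ?_ (le_inf (commutator_le_self P) fun d hd =>
      mem_centralizer_singleton_iff.mpr (c.commutator_commute ht hd).eq)
    rw [centralizer_zpowers_eq, c.prime_act e he he1]
    exact c.fix_le

theorem card_T : Nat.card c.T = p ^ 3 := by
  obtain ⟨n, hn⟩ := IsPGroup.iff_card.mp (c.pgroup.to_le c.T_le)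
  have h1 := c.lt_card_T
  have h2 := c.card_T_le
  rw [hn] at h1 h2 ⊢
  rw [Nat.pow_lt_pow_iff_right hp.out.one_lt] at h1
  rw [Nat.pow_le_pow_iff_right hp.out.one_lt] at h2
  rw [le_antisymm h2 h1]

theorem structure_T : A ≤ c.T ∧ (∃ t ∈ c.T, ¬ Commute t z ∧ c.T = A ⊔ zpowers t) := by
  have hcard := c.card_T
  obtain ⟨t, ht, htz⟩ : ∃ t ∈ c.T, ¬ Commute t z := by
    by_contra h
    push Not at h
    have := card_le_of_le (show c.T ≤ A from fun x hx =>
      c.omega x (c.T_le hx) (h x hx) (c.mem_T_iff.mp hx).2.1)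
    rw [hcard, c.sq.2, Nat.pow_le_pow_iff_right hp.out.one_lt] at this
    omega
  set ψ : c.T →* Z := MonoidHom.mk' (fun x => ⟨⁅(x : G), z⁆, c.T_comm_mem c.z_mem_P x.2⟩)
    fun a b => Subtype.ext (commutator_mul_left_of_commute
      (c.comm_Z (c.T_le a.2) (c.T_comm_mem c.z_mem_P b.2))
      (c.comm_Z' _ (c.T_comm_mem c.z_mem_P b.2) _ (c.T_comm_mem c.z_mem_P a.2))) with hψ
  have hle : ψ.ker.map c.T.subtype ≤ A := by
    rintro _ ⟨x, hx, rfl⟩
    exact c.omega _ (c.T_le x.2) (commutatorElement_eq_one_iff_mul_comm.mp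
      (congrArg Subtype.val (MonoidHom.mem_ker.mp hx))) (c.mem_T_iff.mp x.2).2.1
  have hA : ψ.ker.map c.T.subtype = A := by
    refine eq_of_le_of_card_ge hle ?_
    have hm := ψ.ker.card_mul_index
    rw [Subgroup.index_ker, hcard] at hm
    have hr : Nat.card ψ.range ≤ p := (card_le_card_group ψ.range).trans c.line.2.le
    rw [c.sq.2, card_map_of_injective c.T.subtype_injective]
    refine Nat.le_of_mul_le_mul_right ?_ hp.out.pos
    rw [← pow_succ, ← hm]
    exact Nat.mul_le_mul_left _ hr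
  have hAT : A ≤ c.T := hA.symm.le.trans (map_subtype_le _)
  refine ⟨hAT, t, ht, htz, (eq_of_le_of_card_ge (sup_le hAT (zpowers_le.mpr ht)) ?_).symm⟩
  have htA : t ∉ A := fun h => htz
    (congrArg Subtype.val (c.sq.1.1.is_comm.comm ⟨t, h⟩ ⟨z, c.z_mem⟩))
  have hlt : A < A ⊔ zpowers t := lt_of_le_of_ne le_sup_left fun e =>
    htA (e.symm.le (mem_sup_right (mem_zpowers t)))
  obtain ⟨n, hn⟩ := IsPGroup.iff_card.mp
    (c.pgroup.to_le ((sup_le hAT (zpowers_le.mpr ht)).trans c.T_le))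
  have := card_lt_of_lt hlt
  rw [c.sq.2, hn, Nat.pow_lt_pow_iff_right hp.out.one_lt] at this
  rw [hcard, hn]
  exact Nat.pow_le_pow_right hp.out.pos (this : 2 < n)

theorem mem_Z_of_commute {t x : G} (ht : t ∈ c.T) (htz : ¬ Commute t z) (hx : x ∈ A)
    (hxt : Commute x t) : x ∈ Z := by
  by_contra hxZ
  have hl := c.sq.card_zpowers hx fun e => hxZ (e ▸ one_mem Z)
  obtain ⟨a, ha, b, hb, hab⟩ := c.sq.exists_decomp c.line hl
    (fun e => hxZ (e.ge (mem_zpowers x))) c.z_mem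
  obtain ⟨i, rfl⟩ := mem_zpowers_iff.mp hb
  exact htz (hab ▸ (c.comm_Z (c.T_le ht) ha).mul_right (hxt.symm.zpow_right i))

theorem P_eq_T : P = c.T := by
  obtain ⟨hAT, t, ht, htz, hT⟩ := c.structure_T
  have hzT : z ∈ c.T := hAT c.z_mem
  have htP := c.T_le ht
  set R := P ⊓ centralizer (c.T : Set G) with hR
  -- `P = T R`
  have hd : ⁅t, z⁆ ≠ 1 := fun h => htz (commutatorElement_eq_one_iff_mul_comm.mp h)
  have hdZ : ⁅t, z⁆ ∈ Z := c.comm_T htP hzT
  have hgen := zpowers_eq_of_card_prime c.line.2 hdZ hd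
  have hPTR : ∀ y ∈ P, ∃ u ∈ c.T, ∃ v ∈ R, u * v = y := by
    intro y hy
    obtain ⟨i, hi : ⁅t, z⁆ ^ i = ⁅y, z⁆⟩ := (mem_powers_iff_mem_zpowers (x := ⁅t, z⁆)).mpr
      (hgen.symm ▸ c.comm_T hy hzT)
    obtain ⟨j, hj : ⁅t, z⁆ ^ j = ⁅y, t⁆⟩ := (mem_powers_iff_mem_zpowers (x := ⁅t, z⁆)).mpr
      (hgen.symm ▸ c.comm_T hy ht)
    set y' : P := (⟨t, htP⟩ ^ i)⁻¹ * ⟨z, c.z_mem_P⟩ ^ j * ⟨y, hy⟩
    have h1 : c.phi hzT y' = 1 := Subtype.ext (by
      rw [map_mul, map_mul, map_inv, map_pow, map_pow]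
      simp only [Subgroup.coe_mul, InvMemClass.coe_inv, SubmonoidClass.coe_pow, c.phi_apply,
        commutatorElement_self, one_pow, mul_one, hi, inv_mul_cancel, OneMemClass.coe_one])
    have h2 : c.phi ht y' = 1 := Subtype.ext (by
      rw [map_mul, map_mul, map_inv, map_pow, map_pow]
      simp only [Subgroup.coe_mul, InvMemClass.coe_inv, SubmonoidClass.coe_pow, c.phi_apply,
        commutatorElement_self, one_pow, inv_one, one_mul, OneMemClass.coe_one]
      rw [← commutatorElement_inv t z, inv_pow, hj, inv_mul_cancel])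
    have h1' : Commute (y' : G) z := commutatorElement_eq_one_iff_mul_comm.mp
      ((c.phi_apply hzT y').symm.trans (congrArg Subtype.val h1))
    have h2' : Commute (y' : G) t := commutatorElement_eq_one_iff_mul_comm.mp
      ((c.phi_apply ht y').symm.trans (congrArg Subtype.val h2))
    refine ⟨(z ^ j)⁻¹ * t ^ i, mul_mem (inv_mem (pow_mem hzT j)) (pow_mem ht i), y',
      mem_inf.mpr ⟨y'.2, ?_⟩, ?_⟩
    · suffices h : c.T ≤ centralizer ({(y' : G)} : Set G) from mem_centralizer_iff.mpr fun x hx =>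
        mem_centralizer_singleton_iff.mp (h hx)
      rw [hT, sup_le_iff, zpowers_le, mem_centralizer_singleton_iff]
      refine ⟨fun a ha => mem_centralizer_singleton_iff.mpr ?_, h2'.eq.symm⟩
      have hl := c.sq.card_zpowers c.z_mem fun e => htz (e ▸ Commute.one_right t)
      obtain ⟨u, hu, w, hw, rfl⟩ := c.sq.exists_decomp c.line hl
        (fun e => c.z_not_mem (e.ge (mem_zpowers z))) ha
      obtain ⟨m, rfl⟩ := mem_zpowers_iff.mp hw
      exact ((c.comm_Z y'.2 hu).mul_right (h1'.zpow_right m)).eq.symm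
    · simp only [y', Subgroup.coe_mul, InvMemClass.coe_inv, SubmonoidClass.coe_pow]
      group
  have hRT : ∀ r ∈ R, ∀ w ∈ c.T, Commute r w := fun r hr w hw =>
    (mem_centralizer_iff.mp hr.2 w hw).symm
  -- `R` is cyclic
  have hRp : IsPGroup p R := c.pgroup.to_le inf_le_left
  have hRZ : ∀ x ∈ R, x ^ p = 1 → x ∈ Z := fun x hx hxp =>
    c.mem_Z_of_commute ht htz (c.omega x hx.1 (hRT x hx z hzT) hxp) (hRT x hx t ht)
  have hRc : IsCyclic R := by
    refine CfsgLib.Transfer.isCyclic_of_card_omega_one_le c.odd hRp ?_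
    rw [← card_map_of_injective R.subtype_injective]
    refine (card_le_of_le ?_).trans c.line.2.le
    rw [MonoidHom.map_closure, closure_le]
    rintro _ ⟨x, hx, rfl⟩
    have hx' : x ^ p = 1 := hx
    exact hRZ x x.2 (by rw [← SubmonoidClass.coe_pow, hx', OneMemClass.coe_one])
  have hRab : IsMulCommutative R := IsCyclic.isMulCommutative
  have hRP : ∀ r ∈ R, ∀ y ∈ P, Commute r y := by
    intro r hr y hy
    obtain ⟨u, hu, v, hv, rfl⟩ := hPTR y hy
    exact (hRT r hr u hu).mul_right (congrArg Subtype.val (hRab.is_comm.comm ⟨r, hr⟩ ⟨v, hv⟩))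
  -- `P' ≤ Z`
  have hP' : ⁅P, P⁆ ≤ Z := by
    rw [commutator_le]
    intro a ha b hb
    obtain ⟨u, hu, v, hv, rfl⟩ := hPTR a ha
    rw [show ⁅u * v, b⁆ = u * ⁅v, b⁆ * u⁻¹ * ⁅u, b⁆ by simp only [commutatorElement_def]; group,
      commutatorElement_eq_one_iff_mul_comm.mpr (hRP v hv b hb).eq, mul_one, mul_inv_cancel, one_mul]
    exact c.T_comm_mem hb hu
  -- `K` centralizes `R`
  obtain ⟨e, he, he1, hX, -⟩ := c.exists_fixer
  have heR : zpowers e ≤ normalizer (R : Set G) := (zpowers_le.mpr he).trans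
    (CfsgLib.Comp.le_normalizer_inf c.normal (CfsgLib.Comp.le_normalizer_centralizer c.normalizer_T))
  have hce : R ≤ centralizer (zpowers e : Set G) := by
    rw [← commutator_eq_bot_iff_le_centralizer]
    by_contra hne
    have hle : ⁅R, zpowers e⁆ ≤ R := CfsgLib.Comp.commutator_le_of_le_normalizer heR
    obtain ⟨x, hx, hxo⟩ := exists_order_p (hRp.to_le hle) hne
    have hx1 : x ≠ 1 := fun h => hp.out.ne_one (by rw [← hxo, h, orderOf_one])
    have hxZ := hRZ x (hle hx) (hxo ▸ pow_orderOf_eq_one x)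
    refine hx1 (mem_bot.mp ((CfsgLib.Coprime.commutator_inf_centralizer_eq_bot hRab heR
      ((c.coprime.coprime_dvd_left (card_dvd_of_le (zpowers_le.mpr he))).coprime_dvd_right
        (card_dvd_of_le inf_le_left))).le ⟨hx, ?_⟩))
    exact Subgroup.centralizer_le (zpowers_le.mpr he) ((c.Z_fix hxZ).2)
  refine le_antisymm (fun y hy => ?_) c.T_le
  obtain ⟨u, hu, v, hv, rfl⟩ := hPTR y hy
  refine mul_mem hu (c.Z_le_T (hP' (c.fix_le ?_)))
  rw [← c.prime_act e he he1, ← centralizer_zpowers_eq]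
  exact ⟨hv.1, hce hv⟩

theorem card_P : Nat.card P = p ^ 3 := by rw [c.P_eq_T, c.card_T]

theorem fix_eq : P ⊓ centralizer (K : Set G) = Z := by
  refine le_antisymm (c.fix_le.trans ?_) c.Z_fix
  rw [commutator_le]
  intro a ha b hb
  exact c.T_comm_mem hb (c.P_eq_T ▸ ha)

/-- `|K| ∣ p + 1`. -/
theorem card_dvd : Nat.card K ∣ p + 1 := by
  obtain ⟨hAT, t, ht, htz, hT⟩ := c.structure_T
  set N := normalizer (Z : Set G) with hN
  have hTN : c.T ≤ N := (c.T_le.trans c.central).trans (centralizer_le_normalizer _)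
  have hKN : K ≤ N := c.normalizer_Z
  have hZN : Z ≤ N := c.Z_le_T.trans hTN
  haveI : (Z.subgroupOf N).Normal := CfsgLib.Coprime.normal_subgroupOf_of_le_normalizer le_rfl
  set f := QuotientGroup.mk' (Z.subgroupOf N) with hf
  set A' := (c.T.subgroupOf N).map f with hA'
  have hker : ∀ a : N, f a = 1 ↔ (a : G) ∈ Z := fun a =>
    (QuotientGroup.eq_one_iff a).trans mem_subgroupOf
  have hsq : IsSq p A' := by
    refine ⟨⟨⟨⟨fun a b => Subtype.ext ?_⟩⟩, ?_⟩, ?_⟩
    · obtain ⟨a', ha', ha''⟩ := a.2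
      obtain ⟨b', hb', hb''⟩ := b.2
      show (a : N ⧸ Z.subgroupOf N) * b = b * a
      rw [← ha'', ← hb'', ← commutatorElement_eq_one_iff_mul_comm, ← map_commutatorElement, hker]
      exact c.T_comm_mem (c.T_le (mem_subgroupOf.mp hb')) (mem_subgroupOf.mp ha')
    · rintro _ ⟨a, ha, rfl⟩
      rw [← map_pow, hker]
      show (a : G) ^ p ∈ Z
      rw [(c.mem_T_iff.mp (mem_subgroupOf.mp ha)).2.1]
      exact one_mem Z
    · have h := CfsgLib.Coprime.card_mul_relIndex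
        (show Z.subgroupOf N ≤ c.T.subgroupOf N from fun a ha => c.Z_le_T ha)
      rw [← QuotientGroup.ker_mk' (Z.subgroupOf N), relIndex_ker, QuotientGroup.ker_mk',
        CfsgLib.Coprime.card_subgroupOf hZN, CfsgLib.Coprime.card_subgroupOf hTN, c.line.2,
        c.card_T, pow_succ'] at h
      exact Nat.eq_of_mul_eq_mul_left hp.out.pos h
  set κ : K →* N ⧸ Z.subgroupOf N := f.comp (Subgroup.inclusion hKN) with hκ
  have hnorm : ∀ k : K, κ k ∈ normalizer (A' : Set (N ⧸ Z.subgroupOf N)) := fun k =>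
    le_normalizer_map f ⟨Subgroup.inclusion hKN k, by
      rw [SetLike.mem_coe, mem_normalizer_iff]
      exact fun a => mem_normalizer_iff.mp (c.normalizer_T k.2) (a : G), rfl⟩
  have hmem : ∀ (k : K) (X : {X : Subgroup (N ⧸ Z.subgroupOf N) // IsLine p A' X}),
      IsLine p A' (conjMap (κ k) X.1) := fun k X =>
    ⟨(conjMap_mono X.2.1).trans (conjMap_eq_self_iff.mpr (hnorm k)).le, by rw [card_conjMap, X.2.2]⟩
  letI : MulAction K {X : Subgroup (N ⧸ Z.subgroupOf N) // IsLine p A' X} :=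
    { smul := fun k X => ⟨conjMap (κ k) X.1, hmem k X⟩
      one_smul := fun X => Subtype.ext (by
        show conjMap (κ 1) X.1 = X.1
        rw [map_one, conjMap_one])
      mul_smul := fun k k' X => Subtype.ext (by
        show conjMap (κ (k * k')) X.1 = conjMap (κ k) (conjMap (κ k') X.1)
        rw [map_mul, conjMap_conjMap]) }
  have hfree : ∀ (k : K) (X : {X : Subgroup (N ⧸ Z.subgroupOf N) // IsLine p A' X}),
      k • X = X → k = 1 := by
    intro k X hkX
    obtain ⟨x, hx, hxo⟩ := exists_order_p (isPGroup_of_card_prime X.2.2) (ne_bot_of_card_prime X.2.2)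
    have hx1 : x ≠ 1 := fun h => hp.out.ne_one (by rw [← hxo, h, orderOf_one])
    obtain ⟨⟨l, hlN⟩, hlT, rfl⟩ := X.2.1 hx
    rw [SetLike.mem_coe, mem_subgroupOf] at hlT
    have hlZ : l ∉ Z := fun h => hx1 ((hker _).mpr h)
    have hlP := c.T_le hlT
    have hlp := (c.mem_T_iff.mp hlT).2.1
    have hXz : zpowers (f ⟨l, hlN⟩) = X.1 := zpowers_eq_of_card_prime X.2.2 hx hx1
    have hstab : ∀ g : K, g • X = X → ∃ j : ℕ, (l ^ j)⁻¹ * ((g : G) * l * (g : G)⁻¹) ∈ Z := by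
      intro g hg
      have h : κ g * f ⟨l, hlN⟩ * (κ g)⁻¹ ∈ X.1 := by
        have h1 : κ g * f ⟨l, hlN⟩ * (κ g)⁻¹ ∈ conjMap (κ g) X.1 := conj_mem_conjMap hx
        rwa [show conjMap (κ g) X.1 = X.1 from congrArg Subtype.val hg] at h1
      rw [← hXz] at h
      obtain ⟨j, hj : (f ⟨l, hlN⟩) ^ j = _⟩ := (mem_powers_iff_mem_zpowers (x := f ⟨l, hlN⟩)).mpr h
      refine ⟨j, ?_⟩
      have h2 : f (((⟨l, hlN⟩ : N) ^ j)⁻¹ *
          (Subgroup.inclusion hKN g * ⟨l, hlN⟩ * (Subgroup.inclusion hKN g)⁻¹)) = 1 := by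
        rw [map_mul, map_inv, map_pow, hj, map_mul, map_mul, map_inv]
        exact inv_mul_cancel _
      exact (hker _).mp h2
    have hfixZ : ∀ g : K, g ≠ 1 → Commute (g : G) l → False := fun g hg hcl => hlZ (by
      rw [← c.fix_eq, ← c.prime_act g g.2 fun e => hg (Subtype.ext e)]
      exact ⟨hlP, mem_centralizer_singleton_iff.mpr hcl.eq.symm⟩)
    by_cases hall : ∀ g : K, g • X = X
    · obtain ⟨e, he, he1, -, hline⟩ := c.exists_fixer
      exact (hfixZ ⟨e, he⟩ (fun h => he1 (congrArg Subtype.val h))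
        (hline l hlp hlZ (fun v hv => c.comm_Z hlP hv) fun g hg => hstab ⟨g, hg⟩ (hall _))).elim
    push Not at hall
    obtain ⟨g, hg⟩ := hall
    obtain ⟨j, hj⟩ := hstab k hkX
    set l' := (g : G) * l * (g : G)⁻¹ with hl'
    have hl'T : l' ∈ c.T := (mem_normalizer_iff.mp (c.normalizer_T g.2) l).mp hlT
    have hl'P := c.T_le hl'T
    have hKc : ∀ v ∈ Z, ∀ u ∈ K, Commute u v := fun v hv u hu =>
      mem_centralizer_iff.mp (c.Z_fix hv).2 u hu
    haveI := c.cyclic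
    have hgk : Commute (g : G) k := congrArg Subtype.val
      ((IsCyclic.isMulCommutative (α := K)).is_comm.comm g k)
    -- `l` and `l'` do not commute
    have hne : ¬ Commute l' l := by
      intro hc
      set S := Z ⊔ zpowers l ⊔ zpowers l' with hS
      have hST : S ≤ c.T := sup_le (sup_le c.Z_le_T (zpowers_le.mpr hlT)) (zpowers_le.mpr hl'T)
      have hSl : S ≤ centralizer ({l} : Set G) := sup_le (sup_le
        (fun v hv => mem_centralizer_singleton_iff.mpr (c.comm_Z hlP hv).eq.symm)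
        (zpowers_le.mpr (mem_centralizer_singleton_iff.mpr rfl)))
        (zpowers_le.mpr (mem_centralizer_singleton_iff.mpr hc.eq))
      have hl'N : l' ∈ N := hTN hl'T
      have hXg : zpowers (f ⟨l', hl'N⟩) = (g • X).1 := by
        show _ = conjMap (κ g) X.1
        rw [← hXz, conjMap, MonoidHom.map_zpowers]
        congr 1
      have hl'1 : f ⟨l', hl'N⟩ ≠ 1 := fun e => hlZ
        ((mem_normalizer_iff.mp (hKN g.2) l).mpr ((hker _).mp e))
      have hSA : A' ≤ (S.subgroupOf N).map f := by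
        rw [← IsLine.sup_eq hsq (g • X).2 X.2 fun e => hg (Subtype.ext e), ← hXg, ← hXz,
          sup_le_iff, zpowers_le, zpowers_le]
        exact ⟨⟨⟨l', hl'N⟩, mem_sup_right (mem_zpowers l'), rfl⟩,
          ⟨⟨l, hlN⟩, mem_sup_left (mem_sup_right (mem_zpowers l)), rfl⟩⟩
      have hTS : c.T ≤ S := by
        intro w hw
        obtain ⟨s, hs, hsw⟩ := hSA ⟨⟨w, hTN hw⟩, hw, rfl⟩
        have h2 : f (s⁻¹ * ⟨w, hTN hw⟩) = 1 := by rw [map_mul, map_inv, hsw]; exact inv_mul_cancel _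
        have h3 : (s : G)⁻¹ * w ∈ Z := (hker _).mp h2
        have h4 := mul_mem (show (s : G) ∈ S from hs) (mem_sup_left (mem_sup_left h3))
        rwa [mul_inv_cancel_left] at h4
      have hcl : ∀ w ∈ c.T, Commute l w := fun w hw =>
        (mem_centralizer_singleton_iff.mp (hSl (hTS hw))).symm
      exact hlZ (c.mem_Z_of_commute ht htz (c.omega l hlP (hcl z (hAT c.z_mem)) hlp) (hcl t ht))
    set d := ⁅l', l⁆ with hd
    have hdZ : d ∈ Z := c.comm_T hl'P hlT
    have hd1 : d ≠ 1 := fun h => hne (commutatorElement_eq_one_iff_mul_comm.mp h)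
    have hdo : orderOf d = p := orderOf_eq_prime (c.sq.1.2 d (c.line.1 hdZ)) hd1
    set v := (l ^ j)⁻¹ * ((k : G) * l * (k : G)⁻¹) with hv
    have hkl : (k : G) * l * (k : G)⁻¹ = l ^ j * v := by rw [hv]; group
    have hkl' : (k : G) * l' * (k : G)⁻¹ = l' ^ j * v := by
      calc (k : G) * l' * (k : G)⁻¹ = ((k : G) * g) * l * ((k : G) * g)⁻¹ := by rw [hl']; group
        _ = ((g : G) * k) * l * ((g : G) * k)⁻¹ := by rw [hgk.eq]
        _ = (g : G) * ((k : G) * l * (k : G)⁻¹) * (g : G)⁻¹ := by group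
        _ = ((g : G) * l ^ j * (g : G)⁻¹) * ((g : G) * v * (g : G)⁻¹) := by rw [hkl]; group
        _ = l' ^ j * v := by rw [conj_pow, (hKc v hj g g.2).eq, mul_inv_cancel_right]
    have hd2 : d = d ^ (j * j) := by
      have hjP : l' ^ j * v ∈ P := mul_mem (pow_mem hl'P j) (c.Z_le hj)
      have hjT : l ^ j * v ∈ c.T := mul_mem (pow_mem hlT j) (c.Z_le_T hj)
      have e1 : ⁅l' ^ j * v, l ^ j * v⁆ = d := by
        rw [← hkl, ← hkl']
        calc ⁅(k : G) * l' * (k : G)⁻¹, (k : G) * l * (k : G)⁻¹⁆ = (k : G) * d * (k : G)⁻¹ := by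
              simp only [hd, commutatorElement_def]; group
          _ = d := by rw [(hKc d hdZ k k.2).eq, mul_inv_cancel_right]
      have e2 : ∀ w (hw : w ∈ c.T), c.phi hw (⟨l', hl'P⟩ ^ j * ⟨v, c.Z_le hj⟩) = c.phi hw ⟨l', hl'P⟩ ^ j := by
        intro w hw
        have : c.phi hw ⟨v, c.Z_le hj⟩ = 1 := Subtype.ext
          (commutatorElement_eq_one_iff_mul_comm.mpr (c.comm_Z (c.T_le hw) hj).eq.symm)
        rw [map_mul, map_pow, this, mul_one]
      have e3 : ∀ (b : G) (hb : b ∈ P), ⁅b, l ^ j * v⁆ = ⁅b, l⁆ ^ j := by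
        intro b hb
        have hbv : ⁅b, v⁆ = 1 := commutatorElement_eq_one_iff_mul_comm.mpr (c.comm_Z hb hj).eq
        rw [commutator_mul_right_of_commute (hbv ▸ Commute.one_right _), hbv, mul_one]
        have hpow : ∀ m : ℕ, ⁅b, l ^ m⁆ = ⁅b, l⁆ ^ m := by
          intro m
          induction m with
          | zero => simp
          | succ m ih =>
            rw [pow_succ', pow_succ', commutator_mul_right_of_commute
              (c.comm_Z hlP (c.comm_T hb (pow_mem hlT m))), ih]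
        exact hpow j
      have e4 : ⁅l' ^ j * v, l⁆ = d ^ j := congrArg Subtype.val (e2 l hlT)
      rw [pow_mul, ← e4, ← e3 _ hjP, e1]
    have hmod : j * j ≡ 1 [MOD p] := by
      rw [← hdo, ← pow_eq_pow_iff_modEq, pow_one, ← hd2]
    have h2 := conj_pow_mod (c.normalizer_Z k.2) (fun w hw => c.comm_Z hlP hw) c.comm_Z' hj 2
    have hl2 : l ^ j ^ 2 = l := by
      conv_rhs => rw [← pow_one l]
      rw [pow_eq_pow_iff_modEq, orderOf_eq_prime hlp fun e => hlZ ((show l = 1 from e).symm ▸ one_mem Z), pow_two]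
      exact hmod
    rw [hl2] at h2
    set w := l⁻¹ * ((k : G) ^ 2 * l * ((k : G) ^ 2)⁻¹) with hw
    have hk2 : k ^ 2 = 1 := by
      by_contra hne2
      exact hfixZ (k ^ 2) hne2 (commute_of_stab (c := w)
        (hKc w h2 _ (k ^ 2).2) (c.comm_Z hlP h2) (c.sq.1.2 w (c.line.1 h2))
        (c.coprime_orderOf (k ^ 2).2) (by rw [hw, SubmonoidClass.coe_pow]; group))
    exact orderOf_eq_one_iff.mp (Nat.eq_one_of_dvd_one
      ((c.oddK.coprime_two_right : (Nat.card K).Coprime 2) ▸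
        Nat.dvd_gcd (orderOf_dvd_natCard k) (orderOf_dvd_of_pow_eq_one hk2)))
  have hcard := hsq.card_lines (p := p)
  letI : Fintype (Quotient (MulAction.orbitRel K {X : Subgroup (N ⧸ Z.subgroupOf N) // IsLine p A' X})) :=
    Fintype.ofFinite _
  rw [Nat.card_congr (MulAction.selfEquivSigmaOrbitsQuotientStabilizer K
    {X : Subgroup (N ⧸ Z.subgroupOf N) // IsLine p A' X}), Nat.card_sigma] at hcard
  rw [← hcard]
  refine Finset.dvd_sum fun ω _ => ?_
  rw [show MulAction.stabilizer K ω.out = ⊥ from eq_bot_iff.mpr fun k hk =>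
    mem_bot.mpr (hfree k _ hk)]
  rw [← Subgroup.index_eq_card, Subgroup.index_bot]

end CubeData

end

end CfsgLib.BG14
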