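import Cfsg.Agent.S1439
import Cfsg.Agent.Lib.BG14.NarrowCube
import Cfsg.Agent.Lib.BG14.HallCentralizer
import Cfsg.Agent.Lib.BG14.SupportP
import Cfsg.Agent.Lib.BG14.SupportSigma
import Cfsg.Agent.Lib.BG14.SupportR
import Cfsg.Agent.S1421
import Cfsg.Agent.Lib.BG.FrobeniusType
import Cfsg.Agent.Lib.BG.TauOne

/-!
The structure of a maximal subgroup whose Fitting subgroup is not a TI-subgroup.
-/

set_option autoImplicit false
set_option linter.style.haveILetI false
set_option linter.unusedSectionVars false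

namespace CfsgLib.BG14

open Subgroup CfsgLib.PLocal CfsgLib.OddLocal CfsgLib.BG
open scoped commutatorElement

universe u
variable {G : Type u} [Group G] [Finite G]
variable (hG : Cfsg.IsMinSimpleOddOrder G)
include hG

variable {M : Subgroup G} {g : G}

/-- `X = F(M) ∩ F(M)^g`. -/
local notation "fitInter" M:max g:max =>
  Cfsg.fittingOf M ⊓ Subgroup.map (MulEquiv.toMonoidHom (MulAut.conj g)) (Cfsg.fittingOf M)

theorem fittingOf_sigmaCore_eq (hn : Group.IsNilpotent (Cfsg.sigmaCore M)) :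
    Cfsg.fittingOf (Cfsg.sigmaCore M) = Cfsg.sigmaCore M :=
  le_antisymm (fittingOf_le _) (le_fittingOf_of_normal le_rfl le_normalizer hn)

theorem mem_of_conjMap_eq (hM : IsCoatom M) (h : conjMap g M = M) : g ∈ M := by
  rw [conjMap_eq_self_iff, normalizer_max hG hM] at h
  exact h

theorem fitInter_le_sigmaCore (hM : IsCoatom M) (hg : g ∉ M) :
    fitInter M g ≤ Cfsg.sigmaCore M := by
  intro x hx
  refine mem_sigmaCore_of hG hM (fittingOf_le M hx.1) fun r hr hd => ?_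
  by_contra hσ
  haveI := Fact.mk hr
  have hi := exists_pow_orderOf_eq hd
  set y := x ^ (orderOf x / r) with hy
  have hyX : y ∈ fitInter M g := Subgroup.pow_mem _ hx _
  have hy1 : y ≠ 1 := fun e => hr.ne_one (by rw [← hi, e, orderOf_one])
  obtain ⟨T, hT, hyT⟩ := exists_sylowIn_le (isPGroup_of_card_prime (card_zpowers_eq hi))
    (zpowers_le.mpr hyX.1)
  have hTn : M ≤ normalizer (T : Set G) := (le_normalizer_fittingOf M).trans
    (normalizer_le_normalizer_sylow hG (fittingOf_isNilpotent M) hT)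
  have hTY : T ≤ fittingRest M := le_piCoreOf hT.1 ((fittingOf_le M).trans hTn) fun t ht hd =>
    ⟨ht, (prime_dvd_pgroup_card hT.2.1 ht hd) ▸ hσ⟩
  have hY := isCyclic_fittingRest hG hM
  have hn : M ≤ normalizer (zpowers y : Set G) := (le_normalizer_fittingRest M).trans
    (normalizer_le_of_cyclic hY (hyT.trans hTY))
  have hne := normalizer_eq_of_coatom hG hM (zpowers_ne_bot.mpr hy1)
    (zpowers_le.mpr (fittingOf_le M hyX.1)) hn
  obtain ⟨y', hy', hyy'⟩ := hyX.2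
  obtain ⟨T', hT', hy'T'⟩ := exists_sylowIn_le (isPGroup_of_card_prime
    (card_zpowers_eq (x := y') (p := r) (by
      rw [← hi, ← hyy']
      exact (orderOf_conj' g y').symm))) (zpowers_le.mpr hy')
  have hT'Y : T' ≤ fittingRest M := le_piCoreOf hT'.1 ((fittingOf_le M).trans
    ((le_normalizer_fittingOf M).trans
      (normalizer_le_normalizer_sylow hG (fittingOf_isNilpotent M) hT'))) fun t ht hd =>
    ⟨ht, (prime_dvd_pgroup_card hT'.2.1 ht hd) ▸ hσ⟩
  have hn' : M ≤ normalizer (zpowers y' : Set G) := (le_normalizer_fittingRest M).trans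
    (normalizer_le_of_cyclic hY (hy'T'.trans hT'Y))
  have hgz : conjMap g (zpowers y') = zpowers y := by
    rw [← zpowers_conj_eq]
    exact congrArg zpowers hyy'
  have hle : conjMap g M ≤ M := by
    have h1 := conjMap_mono (g := g) hn'
    rw [conjMap_normalizer, hgz, hne] at h1
    exact h1
  exact hg (mem_of_conjMap_eq hG hM (eq_of_le_of_card_ge hle (card_conjMap g M).ge))

theorem fitInter_le_conj (hM : IsCoatom M) :
    fitInter M g ≤ conjMap g M := inf_le_right.trans (conjMap_mono (fittingOf_le M))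

theorem isCyclic_fitInter (hM : IsCoatom M) (hg : g ∉ M) :
    IsCyclic ↥(fitInter M g) := by
  obtain ⟨E, hE⟩ := exists_compl hG hM
  obtain ⟨hc, -, -⟩ := (i1426 hG M hM E hE).2.2 g hg
  haveI := hc
  exact isCyclic_of_injective _ (Subgroup.inclusion_injective
    (le_inf (fitInter_le_sigmaCore hG hM hg) (fitInter_le_conj hG hM)))

theorem not_beta_of_fitInter (hM : IsCoatom M) (hg : g ∉ M) {p : ℕ} (hp : p.Prime) {x : G}
    (hx : x ∈ fitInter M g) (hd : p ∣ orderOf x) : p ∉ Cfsg.beta M := by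
  obtain ⟨E, hE⟩ := exists_compl hG hM
  obtain ⟨-, hb, -⟩ := (i1426 hG M hM E hE).2.2 g hg
  exact hb p hp (hd.trans (Subgroup.orderOf_dvd_natCard _
    (mem_inf.mpr ⟨fitInter_le_sigmaCore hG hM hg hx, fitInter_le_conj hG hM hx⟩)))

theorem sigmaCore_nilpotent_of_fitInter (hM : IsCoatom M) (hg : g ∉ M) (hX : fitInter M g ≠ ⊥) :
    Group.IsNilpotent (Cfsg.sigmaCore M) := by
  by_contra hn
  obtain ⟨p₀, hp₀⟩ : (Cfsg.kappa M).Nonempty := Set.nonempty_iff_ne_empty.mpr fun h =>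
    hn (nilpotent_of_kappa_empty hG hM h)
  obtain ⟨K, U, E, d⟩ := exists_of_mem_kappa hG hM hp₀
  obtain ⟨Q, D, c⟩ := d.exists_coreData hG hn
  set q := Nat.card (starOf M K)
  haveI := Fact.mk c.q_prime
  obtain ⟨x, hx, hxp⟩ := exists_prime_element hX
  have hqp : orderOf x ≠ q := fun e => not_beta_of_fitInter hG hM hg hxp hx dvd_rfl (e.symm ▸ c.beta)
  haveI := Fact.mk hxp
  have hQF : Q ≤ Cfsg.fittingOf M := le_fittingOf_of_normal (c.Q_le.trans (sigmaCore_le M)) c.Q_normal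
    c.Q_pgroup.isNilpotent
  have hxc : ∀ {y : G}, y ∈ Cfsg.fittingOf M → orderOf y = orderOf x →
      Q ≤ centralizer ({y} : Set G) := by
    intro y hy hyo
    haveI : Fact (orderOf y).Prime := ⟨hyo.symm ▸ hxp⟩
    have h := le_centralizer_of_nilpotent (G := G) (fittingOf_isNilpotent M) hQF (zpowers_le.mpr hy)
      (coprime_pgroup c.Q_pgroup (pgroup_zpowers y) (fun e => hqp (hyo ▸ e.symm)))
    rwa [centralizer_zpowers_eq] at h
  obtain ⟨B, hBM, hB, hlt⟩ := not_prankLE_iff.mp c.beta.1.2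
  have hqσ : q ∈ Cfsg.sigma M := mem_sigma_of_mem_beta hG hM c.beta
  have hBσ : B ≤ Cfsg.sigmaCore M := le_sigmaCore_of_pi hG hM hBM fun t ht hd =>
    (prime_dvd_pgroup_card (elemAb_isPGroup hB) ht hd) ▸ hqσ
  obtain ⟨T, hT, hBT⟩ := exists_sylowIn_le (elemAb_isPGroup hB) hBσ
  have hQT : Q = T := by
    have hQ : SylowIn q Q (Cfsg.sigmaCore M) := ⟨c.Q_le, c.Q_pgroup, c.Q_hall⟩
    obtain ⟨k, hk, hkT⟩ := hQ.exists_conj_eq hT
    have h1 := conjMap_eq_self_iff.mpr (c.Q_normal (sigmaCore_le M (inv_mem hk)))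
    rw [← hkT, conjMap_inv_conjMap] at h1
    exact hkT.symm.trans h1.symm
  have hBQ : B ≤ Q := hBT.trans hQT.ge
  obtain ⟨L, hL, hCL⟩ := exists_coatom_centralizer hG (ne_one_of_prime hxp)
  have hq3 : q ^ 3 ≤ Nat.card B := by
    obtain ⟨j, hj⟩ := IsPGroup.iff_card.mp (elemAb_isPGroup hB)
    rw [hj] at hlt ⊢
    exact Nat.pow_le_pow_right c.q_prime.pos ((Nat.pow_lt_pow_iff_right c.q_prime.one_lt).mp hlt)
  have h1 : L = M := eq_of_rank_three hG hM hB hq3 hBM hL ((hBQ.trans (hxc hx.1 rfl)).trans hCL)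
  obtain ⟨x', hx', hxx'⟩ := hx.2
  have hxo : orderOf x' = orderOf x := by
    rw [← hxx']
    exact (orderOf_conj' g x').symm
  have h2 : L = conjMap g M := eq_of_rank_three hG (isCoatom_conj hG hM g)
    (elemAb_map (MulAut.conj g).toMonoidHom hB) (by
      rw [card_map_of_injective (MulAut.conj g).injective]; exact hq3)
    (conjMap_mono hBM) hL (by
      refine le_trans ?_ hCL
      rw [← hxx']
      exact (conjMap_mono (hBQ.trans (hxc hx' hxo))).trans (centralizer_conj g x').ge)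
  exact hg (mem_of_conjMap_eq hG hM (h2.symm.trans h1))

theorem not_centralizer_le_of_fitInter (hM : IsCoatom M) (hg : g ∉ M) {x : G}
    (hx : x ∈ fitInter M g) (hx1 : x ≠ 1) : ¬ centralizer ({x} : Set G) ≤ M := by
  intro hle
  obtain ⟨c, hc, hcM⟩ := exists_centralizer_conj_of_mem hG hM (fitInter_le_sigmaCore hG hM hg hx) hx1
    (fitInter_le_conj hG hM hx)
  exact hg (mem_of_conjMap_eq hG hM (hcM ▸ conjMap_eq_self_iff.mpr (le_normalizer (hle hc))))

section Point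

variable {N : Subgroup G} {z : G} {p : ℕ} [hp : Fact p.Prime]

/-- `z ∈ M_σ` of order `p` with support `N`, `M_σ` nilpotent. -/
structure Point (p : ℕ) (M N : Subgroup G) (z : G) : Prop where
  hM : IsCoatom M
  nil : Group.IsNilpotent (Cfsg.sigmaCore M)
  mem : z ∈ Cfsg.sigmaCore M
  order : orderOf z = p
  supp : IsSupport M N z

namespace Point

omit hG

variable (o : Point p M N z)
include o

theorem z_ne : z ≠ 1 := fun e => hp.out.ne_one (by rw [← o.order, e, orderOf_one])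

theorem sigma (hG : Cfsg.IsMinSimpleOddOrder G) : p ∈ Cfsg.sigma M :=
  mem_sigma_of_dvd_sigmaCore hp.out (o.order ▸ (Cfsg.sigmaCore M).orderOf_dvd_natCard o.mem)

theorem z_inter : z ∈ M ⊓ N :=
  ⟨sigmaCore_le M o.mem, o.supp.le (mem_centralizer_singleton_iff.mpr rfl)⟩

theorem not_sigma (hG : Cfsg.IsMinSimpleOddOrder G) {q : ℕ} (hq : q ∈ Cfsg.sigma M) :
    q ∉ Cfsg.sigma N :=
  sigma_disjoint hG o.hM o.supp.hL (fun c h => o.supp.nonconj c⁻¹
    (by rw [← h, conjMap_inv_conjMap])) hq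

theorem exists_sylow (hG : Cfsg.IsMinSimpleOddOrder G) {q : ℕ} [Fact q.Prime]
    (hq : q ∈ Cfsg.sigma M) : ∃ T, SylowIn q T (Cfsg.sigmaCore M) ∧ M ≤ normalizer (T : Set G) ∧
      SylowIn q T M ∧ SylowIn q T ⊤ ∧ ∀ E : Subgroup G, IsPGroup q E → E ≤ M → E ≤ T := by
  obtain ⟨T, hT, -⟩ := exists_sylowIn_le (IsPGroup.of_bot (p := q) (G := G))
    (bot_le (a := Cfsg.sigmaCore M))
  have hn := sylow_le_normalizer_of_nilpotent hG o.hM o.nil hT
  have hTM := sylowIn_of_sigmaCore hG o.hM hT hq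
  refine ⟨T, hT, hn, hTM, CfsgLib.BG.sylowIn_top hq hTM, fun E hE hEM => ?_⟩
  obtain ⟨k, hk, hkE⟩ := hTM.exists_conj_le hE hEM
  have h := conjMap_mono (g := k⁻¹) hkE
  rwa [conjMap_inv_conjMap, conjMap_eq_self_iff.mpr (hn (inv_mem hk))] at h

theorem le_centralizer (hG : Cfsg.IsMinSimpleOddOrder G) {q : ℕ} [Fact q.Prime]
    (hq : q ∈ Cfsg.sigma M) {E : Subgroup G} (hE : IsPGroup q E) (hEM : E ≤ M)
    (hab : q = p → ∀ T : Subgroup G, SylowIn q T M → IsMulCommutative T) :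
    E ≤ centralizer ({z} : Set G) := by
  obtain ⟨T, hT, hn, hTM, -, hle⟩ := o.exists_sylow hG hq
  refine (hle E hE hEM).trans ?_
  have hzp : IsPGroup p (zpowers z) := isPGroup_of_card_prime (card_zpowers_eq o.order)
  rcases eq_or_ne q p with rfl | hne
  · rw [← centralizer_zpowers_eq]
    exact ((le_centralizer_of_isMulCommutative (hab rfl T hTM))).trans
      (Subgroup.centralizer_le (hle _ hzp (zpowers_le.mpr o.z_inter.1)))
  · have h := le_centralizer_of_nilpotent (G := G) o.nil hT.1 (zpowers_le.mpr o.mem)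
      (coprime_pgroup hT.2.1 hzp hne)
    rwa [centralizer_zpowers_eq] at h

theorem prankLE (hG : Cfsg.IsMinSimpleOddOrder G) {q : ℕ} [Fact q.Prime] (hq : q ∈ Cfsg.sigma M)
    (hne : q ≠ p) : Cfsg.PRankLE q 2 M := by
  by_contra h
  obtain ⟨B, hBM, hB, hlt⟩ := not_prankLE_iff.mp h
  have hBN : B ≤ N := (o.le_centralizer hG hq (elemAb_isPGroup hB) hBM (fun e => absurd e hne)).trans
    o.supp.le
  exact not_prankLE_iff.mpr ⟨B, hBN, hB, hlt⟩
    (prankLE_two_of_not_sigma hG o.supp.hL (o.not_sigma hG hq))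

theorem exists_exc (hG : Cfsg.IsMinSimpleOddOrder G) :
    ∃ A A₀, A ≤ M ⊓ N ∧ IsExc p N A A₀ := by
  obtain ⟨A, A₀, hAF, hA⟩ := tau2_square hG o.supp.hL o.supp.compl
    (o.supp.tau2 p hp.out o.order.symm.dvd)
  exact ⟨A, A₀, hAF, hA⟩

theorem not_beta (hG : Cfsg.IsMinSimpleOddOrder G) {q : ℕ} (hq : q ∈ Cfsg.sigma M) :
    q ∉ Cfsg.beta M := by
  intro hb
  haveI := Fact.mk hq.1
  rcases eq_or_ne q p with rfl | hne
  · have hτ := o.supp.tau2 q hp.out o.order.symm.dvd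
    exact (i1408 hG N o.supp.hL q hτ.2.1 hτ.2.2.1 hτ.2.2.2).1 hb.2
  · exact hb.1.2 (o.prankLE hG hq hne)

theorem isMulCommutative_of_le (hG : Cfsg.IsMinSimpleOddOrder G) {V : Subgroup G}
    (hV : V ≤ Cfsg.sigmaCore M) (hVN : V ≤ centralizer ({z} : Set G)) : IsMulCommutative V :=
  (i1420 hG N o.supp.hL (M ⊓ N) o.supp.compl).1 V (hVN.trans o.supp.le) (isNilpotent_of_le o.nil hV)
    fun r hr hd => o.not_sigma hG (mem_sigma_of_dvd_sigmaCore hr (hd.trans (card_dvd_of_le hV)))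

theorem sylow_comm (hG : Cfsg.IsMinSimpleOddOrder G) {q : ℕ} [Fact q.Prime] (hne : q ≠ p)
    {T : Subgroup G} (hT : SylowIn q T (Cfsg.sigmaCore M)) (hq : q ∈ Cfsg.sigma M) :
    IsMulCommutative T :=
  o.isMulCommutative_of_le hG hT.1
    (o.le_centralizer hG hq hT.2.1 (hT.1.trans (sigmaCore_le M)) fun e => absurd e hne)

theorem derived_centralizes (hG : Cfsg.IsMinSimpleOddOrder G) {E : Subgroup G}
    (hE : Cfsg.IsComplIn E (Cfsg.sigmaCore M) M) : ⁅E, E⁆ ≤ centralizer (Cfsg.sigmaCore M : Set G) := by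
  rw [le_centralizer_iff]
  refine CfsgLib.BG14.le_of_sylows fun q hq hd => ?_
  haveI := Fact.mk hq
  have hσ := mem_sigma_of_dvd_sigmaCore hq hd
  obtain ⟨T, hT, hn, -, -, -⟩ := o.exists_sylow hG hσ
  exact ⟨T, hT, le_centralizer_iff.mp (derived_compl_centralizes hG o.hM hE hσ (o.not_beta hG hσ)
    hT.2.1 hT.1 (hE.1.trans hn))⟩

theorem derived_le_fitting (hG : Cfsg.IsMinSimpleOddOrder G) : ⁅M, M⁆ ≤ Cfsg.fittingOf M := by
  obtain ⟨E, hE⟩ := exists_compl hG o.hM
  have hc := o.derived_centralizes hG hE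
  set S := Cfsg.sigmaCore M with hS
  have hsup : S ⊔ E = M := by rw [sup_comm]; exact isComplIn_sup hE
  have hdE : ⁅E, E⁆ ≤ E := derived_le_compl hG o.hM
  have hEn : M ≤ normalizer ((⁅E, E⁆ : Subgroup G) : Set G) := by
    rw [← hsup, sup_le_iff]
    exact ⟨(le_centralizer_iff.mp hc).trans (centralizer_le_normalizer _),
      CfsgLib.OddLocal.le_normalizer_commutator le_normalizer le_normalizer⟩
  have hSF : S ≤ Cfsg.fittingOf M := le_fittingOf_of_normal (sigmaCore_le M) (le_normalizer_sigmaCore M) o.nil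
  have hEF : ⁅E, E⁆ ≤ Cfsg.fittingOf M := le_fittingOf_of_normal (hdE.trans hE.1) hEn
    (i1415 hG M o.hM E hE).1
  have hMn := le_normalizer_sigmaCore M
  have hconj : ∀ a ∈ M, ∀ b ∈ Cfsg.fittingOf M, a * b * a⁻¹ ∈ Cfsg.fittingOf M := fun a ha b hb =>
    (mem_normalizer_iff.mp (le_normalizer_fittingOf M ha) b).mp hb
  have hSc : ∀ s ∈ S, ∀ m ∈ M, ⁅s, m⁆ ∈ Cfsg.fittingOf M := fun s hs m hm => hSF (by
    rw [commutatorElement_def, mul_assoc s, mul_assoc s]
    exact mul_mem hs ((mem_normalizer_iff.mp (hMn hm) _).mp (inv_mem hs)))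
  rw [commutator_le]
  intro a ha b hb
  rw [← hsup] at ha hb
  obtain ⟨e, he, s, hs, rfl⟩ :=
    (CfsgLib.Coprime.mem_sup_of_le_normalizer' (hE.1.trans hMn)).mp ha
  obtain ⟨f, hf, t, ht, rfl⟩ :=
    (CfsgLib.Coprime.mem_sup_of_le_normalizer' (hE.1.trans hMn)).mp hb
  have hft : f * t ∈ M := mul_mem (hE.1 hf) (sigmaCore_le M ht)
  have h1 : ⁅e, f * t⁆ ∈ Cfsg.fittingOf M := by
    rw [show ⁅e, f * t⁆ = ⁅e, f⁆ * (f * ⁅e, t⁆ * f⁻¹) by simp only [commutatorElement_def]; group]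
    refine mul_mem (hEF (commutator_mem_commutator he hf)) (hconj f (hE.1 hf) _ ?_)
    rw [← commutatorElement_inv]
    exact inv_mem (hSc t ht e (hE.1 he))
  rw [show ⁅e * s, f * t⁆ = e * ⁅s, f * t⁆ * e⁻¹ * ⁅e, f * t⁆ by simp only [commutatorElement_def]; group]
  exact mul_mem (hconj e (hE.1 he) _ (hSc s hs _ hft)) h1

theorem fittingOf_eq' (hG : Cfsg.IsMinSimpleOddOrder G) : Cfsg.fittingOf M =
    Cfsg.sigmaCore M ⊔ Cfsg.piCoreOf {q | q.Prime ∧ q ∉ Cfsg.sigma M} (Cfsg.fittingOf M) := by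
  have h := fittingOf_eq hG o.hM
  rwa [fittingOf_sigmaCore_eq hG o.nil] at h

/-- `τ₁(M)` has no fixed points on abelian Sylow subgroups. -/
theorem star_pgroup (hG : Cfsg.IsMinSimpleOddOrder G) {K U E : Subgroup G} (d : PData M K U E) :
    (∀ T : Subgroup G, SylowIn p T M → IsMulCommutative T → False) ∧
      IsPGroup p (starOf M K) := by
  obtain ⟨k, hk, hkp⟩ := d.exists_prime hG
  haveI := Fact.mk hkp
  have hkM : zpowers k ≤ M := zpowers_le.mpr (d.K_le_M hG hk)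
  have key : ∀ {q : ℕ} [Fact q.Prime], q ∈ Cfsg.sigma M →
      (∀ T, SylowIn q T (Cfsg.sigmaCore M) → IsMulCommutative T) →
      ∀ y ∈ starOf M K, orderOf y ≠ q := by
    intro q _ hq hab y hy hyo
    obtain ⟨T, hT, -, -, -, hle⟩ := o.exists_sylow hG hq
    have hyT : y ∈ T := hle (zpowers y) (isPGroup_of_card_prime (card_zpowers_eq hyo))
      (zpowers_le.mpr (sigmaCore_le M hy.1)) (mem_zpowers y)
    have h := fixed_eq_bot_of_abelian hG o.hM (d.tau1_all hG hk hkp) hq (o.not_beta hG hq) hkM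
      (card_zpowers_eq rfl) hT (hab T hT)
    have hy' : y ∈ T ⊓ centralizer (zpowers k : Set G) :=
      ⟨hyT, Subgroup.centralizer_le (zpowers_le.mpr hk) hy.2⟩
    rw [h, mem_bot] at hy'
    exact (Fact.out : q.Prime).ne_one (by rw [← hyo, hy', orderOf_one])
  have hother : ∀ y ∈ starOf M K, (orderOf y).Prime → orderOf y = p := fun y hy hyp => by
    by_contra hne
    haveI := Fact.mk hyp
    have hσ := mem_sigma_of_dvd_sigmaCore hyp ((Cfsg.sigmaCore M).orderOf_dvd_natCard hy.1)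
    exact key hσ (fun T hT => o.sylow_comm hG hne hT hσ) y hy rfl
  refine ⟨fun T hTM hab => ?_, isPGroup_of_prime_dvd fun r hr hd => ?_⟩
  · obtain ⟨y, hy, hyp⟩ := d.exists_fixed hG
    refine key (o.sigma hG) (fun T' hT' => ?_) y hy (hother y hy hyp)
    obtain ⟨k', -, e⟩ := hTM.exists_conj_eq (sylowIn_of_sigmaCore hG o.hM hT' (o.sigma hG))
    rw [← conjMap_inv_conjMap k' T', e]
    exact ⟨⟨fun a b => Subtype.ext (by
      obtain ⟨a', ha', ea⟩ := a.2
      obtain ⟨b', hb', eb⟩ := b.2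
      show (a : G) * b = b * a
      rw [← ea, ← eb, ← map_mul, ← map_mul,
        (commute_of_isMulCommutative hab ha' hb').eq])⟩⟩
  · haveI := Fact.mk hr
    obtain ⟨y, hyo⟩ := exists_prime_orderOf_dvd_card' r hd
    rw [← Subgroup.orderOf_coe] at hyo
    rw [← hyo]
    exact hother y y.2 (hyo.symm ▸ hr)

theorem kappa_empty_of_comm (hG : Cfsg.IsMinSimpleOddOrder G) {T : Subgroup G}
    (hT : SylowIn p T M) (hab : IsMulCommutative T) : Cfsg.kappa M = ∅ := by
  rw [Set.eq_empty_iff_forall_notMem]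
  intro r hr
  obtain ⟨K, U, E, d⟩ := exists_of_mem_kappa hG o.hM hr
  exact (o.star_pgroup hG d).1 T hT hab

/-- The abelian case. -/
theorem abelian_case (hG : Cfsg.IsMinSimpleOddOrder G) {T : Subgroup G} (hT : SylowIn p T M)
    (hab : IsMulCommutative T) : IsMulCommutative (Cfsg.sigmaCore M) ∧
      Cfsg.RankLE 2 (Cfsg.sigmaCore M) ∧ ¬ Cfsg.RankLE 1 (Cfsg.sigmaCore M) := by
  have hle : Cfsg.sigmaCore M ≤ centralizer ({z} : Set G) := CfsgLib.BG14.le_of_sylows fun q hq hd => by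
    haveI := Fact.mk hq
    have hσ := mem_sigma_of_dvd_sigmaCore hq hd
    obtain ⟨T', hT', -, -, -, hle'⟩ := o.exists_sylow hG hσ
    refine ⟨T', hT', o.le_centralizer hG hσ hT'.2.1 (hT'.1.trans (sigmaCore_le M)) fun e T'' hT'' => ?_⟩
    subst e
    obtain ⟨k, -, hk⟩ := hT.exists_conj_eq hT''
    rw [← conjMap_inv_conjMap k T'', hk]
    exact ⟨⟨fun a b => Subtype.ext (by
      obtain ⟨a', ha', ea⟩ := a.2
      obtain ⟨b', hb', eb⟩ := b.2
      show (a : G) * b = b * a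
      rw [← ea, ← eb, ← map_mul, ← map_mul,
        (commute_of_isMulCommutative hab ha' hb').eq])⟩⟩
  refine ⟨o.isMulCommutative_of_le hG le_rfl hle, fun q hq => ?_, fun h1 => ?_⟩
  · haveI := Fact.mk hq
    by_contra h
    obtain ⟨B, hB, hBe, hlt⟩ := not_prankLE_iff.mp h
    have hd : q ∣ Nat.card B := dvd_card_of_pgroup_ne_bot (elemAb_isPGroup hBe) fun e => by
      rw [e, Subgroup.card_bot] at hlt
      exact absurd hlt (not_lt.mpr (Nat.one_le_pow _ _ hq.pos))
    have hσ := mem_sigma_of_dvd_sigmaCore hq (hd.trans (card_dvd_of_le hB))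
    exact not_prankLE_iff.mpr ⟨B, hB.trans (hle.trans o.supp.le), hBe, hlt⟩
      (prankLE_two_of_not_sigma hG o.supp.hL (o.not_sigma hG hσ))
  · obtain ⟨A, A₀, hAF, hA⟩ := o.exists_exc hG
    exact hA.sq.not_prankLE_one (le_sigmaCore_of_pi hG o.hM (hAF.trans inf_le_left) fun t ht hd =>
      (prime_dvd_pgroup_card hA.sq.isPGroup ht hd) ▸ o.sigma hG) (h1 p hp.out)

end Point

end Point

end CfsgLib.BG14
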