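import Cfsg.Agent.Lib.BG14.NonTICases
import Cfsg.Agent.S1356

/-!
The equality `M' = F(M)` for a non-TI Fitting subgroup, given the Frobenius property of type I.
-/

set_option autoImplicit false
set_option linter.style.haveILetI false
set_option linter.unusedSectionVars false

namespace CfsgLib.BG14

open Subgroup CfsgLib.PLocal CfsgLib.OddLocal CfsgLib.BG
open scoped commutatorElement

universe u
variable {G : Type u} [Group G] [Finite G]

/-- `M' = F(M)` in the non-TI situation, provided `M` is a Frobenius group when `κ(M)` is empty. -/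
theorem derived_eq_fitting_of_nonTI (hG : Cfsg.IsMinSimpleOddOrder G) (M : Subgroup G)
    (hM : IsCoatom M) (g : G) (hg : g ∉ M)
    (hX : Cfsg.fittingOf M ⊓ (Cfsg.fittingOf M).map (MulAut.conj g).toMonoidHom ≠ ⊥)
    (hfrob : Cfsg.kappa M = ∅ → ∀ x ∈ Cfsg.fittingHallOf M, x ≠ 1 →
      M ⊓ centralizer ({x} : Set G) ≤ Cfsg.fittingHallOf M) :
    ⁅M, M⁆ = Cfsg.fittingOf M := by
  have hnil := sigmaCore_nilpotent_of_fitInter hG hM hg hX
  have hH := fittingHallOf_eq_sigmaCore hG hM hnil
  obtain ⟨z, hz, hzp⟩ := exists_prime_element hX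
  haveI := Fact.mk hzp
  have hz1 := ne_one_of_prime hzp
  have hzσ := fitInter_le_sigmaCore hG hM hg hz
  obtain ⟨N, s⟩ := exists_support hG hM hzσ hz1 (not_centralizer_le_of_fitInter hG hM hg hz hz1)
  have o : Point (orderOf z) M N z := ⟨hM, hnil, hzσ, rfl, s⟩
  refine le_antisymm (o.derived_le_fitting hG) ?_
  rcases Set.eq_empty_or_nonempty (Cfsg.kappa M) with hκ | hκ
  · rw [o.fittingOf_eq' hG]
    refine sup_le (sigmaCore_le_derived hG hM) ?_
    have hY : fittingRest M ≤ Cfsg.fittingHallOf M :=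
      le_trans (le_inf (fittingRest_le M) ((le_centralizer_iff.mp
        (sigmaCore_le_centralizer_fittingRest hG hM)).trans (centralizer_le_of_mem hzσ)))
        (hfrob hκ z (hH ▸ hzσ) hz1)
    exact hY.trans (hH.le.trans (sigmaCore_le_derived hG hM))
  · exact (Cfsg.Agent.S1356.result hG M hM).2.2 hκ

end CfsgLib.BG14
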