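import Cfsg.Agent.Lib.BG14.CoverZ

/-!
Maximal subgroups through an element of `K` other than the conjugates of `M` and `M*`.
-/

set_option autoImplicit false
set_option linter.style.haveILetI false
set_option linter.unusedSectionVars false

namespace CfsgLib.BG14

open Subgroup CfsgLib.PLocal CfsgLib.OddLocal CfsgLib.BG
open scoped commutatorElement

universe u
variable {G : Type u} [Group G] [Finite G]

theorem commute_of_isMulCommutative {A : Subgroup G} (h : IsMulCommutative A) {a b : G} (ha : a ∈ A)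
    (hb : b ∈ A) : Commute a b :=
  congrArg Subtype.val (h.is_comm.comm ⟨a, ha⟩ ⟨b, hb⟩)

variable (hG : Cfsg.IsMinSimpleOddOrder G)
include hG

/-- The Sylow subgroup of a nilpotent group is normalized by the normalizer of the group. -/
theorem normalizer_le_normalizer_sylow {r : ℕ} [Fact r.Prime] {X T : Subgroup G}
    (hX : Group.IsNilpotent X) (hT : SylowIn r T X) : normalizer (X : Set G) ≤ normalizer (T : Set G) := by
  have hhall : Cfsg.IsPiHallOf ({r} : Set ℕ) T X :=
    ⟨hT.1, fun p hp hd => prime_dvd_pgroup_card hT.2.1 hp hd, fun p _ hp hd => hT.2.2 (by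
      rwa [Set.mem_singleton_iff.mp hp] at hd)⟩
  intro g hg
  have hconj : SylowIn r (conjMap g T) X := hT.of_card_le (hT.2.1.map _)
    ((conjMap_mono hT.1).trans (conjMap_eq_self_iff.mpr hg).le) (card_conjMap g T).ge
  obtain ⟨c, hc, he⟩ := hT.exists_conj_eq hconj
  have h := congrArg (conjMap c⁻¹) he
  rw [conjMap_inv_conjMap,
    conjMap_eq_self_iff.mpr (le_normalizer_of_hall_nilpotent hG hX hhall (inv_mem hc))] at h
  exact conjMap_eq_self_iff.mp h

variable {M K U E L U₁ E₁ H : Subgroup G} {k : G}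

/-- `U` is the set of commutators with an element of `K`. -/
theorem PData.exists_commutator (d : PData M K U E) {g : G} (hg : g ∈ K) (hg1 : g ≠ 1) {u : G}
    (hu : u ∈ U) : ∃ v ∈ U, u = ⁅v, g⁆ := by
  have hmem : ∀ v : U, ⁅(v : G), g⁆ ∈ U := fun v => by
    rw [commutatorElement_def, show (v : G) * g * (v : G)⁻¹ * g⁻¹ = (v : G) * (g * (v : G)⁻¹ * g⁻¹) by group]
    exact mul_mem v.2 ((mem_normalizer_iff.mp (d.normal (d.K_le hg)) _).mp (inv_mem v.2))
  have hinj : Function.Injective fun v : U => (⟨_, hmem v⟩ : U) := by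
    intro a b hab
    have h : ⁅(a : G), g⁆ = ⁅(b : G), g⁆ := congrArg Subtype.val hab
    rw [commutatorElement_def, commutatorElement_def] at h
    have h' := mul_right_cancel h
    have hc : (b : G)⁻¹ * a ∈ U ⊓ centralizer ({g} : Set G) := by
      refine ⟨Subgroup.mul_mem _ (Subgroup.inv_mem _ b.2) a.2, mem_centralizer_singleton_iff.mpr ?_⟩
      calc (b : G)⁻¹ * a * g = (b : G)⁻¹ * ((a : G) * g * (a : G)⁻¹) * a := by group
        _ = (b : G)⁻¹ * ((b : G) * g * (b : G)⁻¹) * a := by rw [h']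
        _ = g * ((b : G)⁻¹ * a) := by group
    rw [d.fpf g hg hg1, mem_bot, inv_mul_eq_one] at hc
    exact Subtype.ext hc.symm
  obtain ⟨v, hv⟩ := Finite.surjective_of_injective hinj ⟨u, hu⟩
  exact ⟨v, v.2, (congrArg Subtype.val hv).symm⟩

/-- `C_{M_σ}(U) = 1` for `U ≠ 1`. -/
theorem PData.star_U (d : PData M K U E) (hU : U ≠ ⊥) :
    Cfsg.sigmaCore M ⊓ centralizer (U : Set G) = ⊥ := by
  obtain ⟨u, hu, hup⟩ := exists_prime_element hU
  haveI := Fact.mk hup
  have hσ : orderOf u ∉ Cfsg.sigma M := d.not_sigma hG (d.U_le hu) hup dvd_rfl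
  by_cases hr : Cfsg.PRankLE (orderOf u) 1 M
  · rw [← le_bot_iff, ← d.reg u hu hup hr]
    exact inf_le_inf_left _ (centralizer_le_of_mem hu)
  · have hτ : orderOf u ∈ Cfsg.tau2 M := ⟨hup, hσ, prankLE_two_of_not_sigma hG d.hM hσ, hr⟩
    obtain ⟨A, A₀, hAE, hA⟩ := tau2_square hG d.hM d.compl hτ
    have hAU : A ≤ U := fun a ha => d.mem_U_of hG (hAE ha) fun r hrp hrd hK => by
      haveI := Fact.mk hrp
      have hru : r = orderOf u :=
        prime_dvd_pgroup_card hA.sq.isPGroup hrp (hrd.trans (A.orderOf_dvd_natCard ha))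
      obtain ⟨⟨g, hg⟩, hgo⟩ := exists_prime_orderOf_dvd_card' r hK
      rw [Subgroup.orderOf_mk] at hgo
      exact hr (hru ▸ hgo ▸ tau13_prankLE hG d.hM (d.tau g hg (hgo.symm ▸ hrp)))
    rw [← le_bot_iff, ← hA.centralizer_eq_bot hG d.hM]
    exact inf_le_inf_left _ (Subgroup.centralizer_le hAU)

/-- The setting: `U ≠ 1`, and `H` contains `k ∈ K` and is conjugate neither to `M` nor to `M*`. -/
structure Outside (M K U E L U₁ E₁ H : Subgroup G) (k : G) : Prop where
  d : PData M K U E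
  d₁ : PData L (starOf M K) U₁ E₁
  star : starOf L (starOf M K) = K
  hU : U ≠ ⊥
  hH : IsCoatom H
  hk : k ∈ K
  hkp : (orderOf k).Prime
  hkH : k ∈ H
  nM : ∀ c : G, H ≠ conjMap c M
  nL : ∀ c : G, H ≠ conjMap c L

/-- A maximal subgroup of type P is conjugate to `M` or to its partner. -/
theorem PData.kappa_eq_empty (d : PData M K U E) (d₁ : PData L (starOf M K) U₁ E₁)
    (h2 : starOf L (starOf M K) = K) (hH : IsCoatom H) (nM : ∀ c : G, H ≠ conjMap c M)
    (nL : ∀ c : G, H ≠ conjMap c L) : Cfsg.kappa H = ∅ := by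
  rw [Set.eq_empty_iff_forall_notMem]
  intro p hp
  obtain ⟨K', U', E', d'⟩ := exists_of_mem_kappa hG hH hp
  obtain ⟨x, hx, hxp⟩ := d'.exists_prime hG
  obtain ⟨y, hy, hyp⟩ := d'.exists_fixed hG
  have hw : x * y ∈ hatZ H K' := by
    refine ⟨mul_mem (mem_sup_left hx) (mem_sup_right hy), ?_⟩
    rintro (h | h)
    · have h' : y ∈ K' ⊓ starOf H K' := ⟨(Subgroup.mul_mem_cancel_left K' hx).mp h, hy⟩
      rw [d'.inf_star hG, mem_bot] at h'
      exact ne_one_of_prime hyp h'
    · have h' : x ∈ K' ⊓ starOf H K' := ⟨hx, (Subgroup.mul_mem_cancel_right _ hy).mp h⟩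
      rw [d'.inf_star hG, mem_bot] at h'
      exact ne_one_of_prime hxp h'
  obtain ⟨c, hc⟩ := d.hatZ_transfer hG d' hw
  obtain ⟨q, -, hq, -, hqd, -, hqH, -⟩ := d'.hatZ_primes hG hw
  have hqσ : q ∈ Cfsg.sigma H := mem_sigma_of_dvd_sigmaCore hq (hqH.trans (card_dvd_of_le inf_le_left))
  rw [← orderOf_conj' c (x * y)] at hqd
  have hd : q ∣ Nat.card K * Nat.card (starOf M K) :=
    d.card_Z hG ▸ hqd.trans (Subgroup.orderOf_dvd_natCard _ hc.1)
  rcases hq.dvd_mul.mp hd with h | h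
  · exact (exists_conj_of_sigma_inter hG d₁.hM hH
      (mem_sigma_of_dvd_sigmaCore hq (h.trans (card_dvd_of_le (h2.ge.trans inf_le_left)))) hqσ).elim nL
  · exact (exists_conj_of_sigma_inter hG d.hM hH
      (mem_sigma_of_dvd_sigmaCore hq (h.trans (card_dvd_of_le inf_le_left))) hqσ).elim nM

namespace Outside

variable (o : Outside M K U E L U₁ E₁ H k)
include o

omit hG in
theorem fact : Fact (orderOf k).Prime := ⟨o.hkp⟩

theorem zpowers_eq : zpowers k = K := by
  haveI := Fact.mk (o.d.prime_card hG o.hU)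
  exact zpowers_eq_of_card_prime (p := Nat.card K) rfl o.hk (ne_one_of_prime o.hkp)

theorem k_star : k ∈ starOf L (starOf M K) := o.star.ge o.hk

theorem sigma_L : orderOf k ∈ Cfsg.sigma L :=
  mem_sigma_of_dvd_sigmaCore o.hkp ((Cfsg.sigmaCore L).orderOf_dvd_natCard (o.k_star hG).1)

theorem centralizer_le : centralizer ({k} : Set G) ≤ L := (o.d₁.point hG (o.k_star hG) o.hkp).1

theorem normalizer_le : normalizer (zpowers k : Set G) ≤ L :=
  normalizer_zpowers_le_of_pinned hG o.d₁.hM (o.k_star hG).1 o.hkp (o.centralizer_le hG)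

theorem eq_L {X : Subgroup G} (hX : IsCoatom X) (hkX : k ∈ X) (hσ : orderOf k ∈ Cfsg.sigma X) : X = L :=
  eq_partner hG o.d₁ (o.k_star hG) o.hkp hX
    (mem_sigmaCore_of hG hX hkX fun _ hr hd => (Nat.prime_dvd_prime_iff_eq hr o.hkp).mp hd ▸ hσ)

theorem not_sigma : orderOf k ∉ Cfsg.sigma H := fun h =>
  o.nL 1 (by rw [conjMap_eq_self_iff.mpr (one_mem _), o.eq_L hG o.hH o.hkH h])

theorem kappa_empty : Cfsg.kappa H = ∅ := o.d.kappa_eq_empty hG o.d₁ o.star o.hH o.nM o.nL

theorem no_fixer {g : G} (hg : g ∈ H) (hgp : (orderOf g).Prime) (hσ : orderOf g ∉ Cfsg.sigma H)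
    (hr : Cfsg.PRankLE (orderOf g) 1 H) : Cfsg.sigmaCore H ⊓ centralizer ({g} : Set G) = ⊥ := by
  by_contra h
  have h' := mem_kappa_of_fix hG o.hH hg hgp hσ hr h
  rw [o.kappa_empty hG] at h'
  exact absurd h' (Set.notMem_empty _)

theorem fpf : Cfsg.sigmaCore H ⊓ centralizer ({k} : Set G) = ⊥ := by
  by_cases hr : Cfsg.PRankLE (orderOf k) 1 H
  · exact o.no_fixer hG o.hkH o.hkp (o.not_sigma hG) hr
  by_contra h
  haveI := o.fact
  obtain ⟨y, hy, hy1⟩ := (Cfsg.sigmaCore H ⊓ centralizer ({k} : Set G)).bot_or_exists_ne_one.resolve_left h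
  obtain ⟨-, hu⟩ := centralizer_tau2_element hG o.hH o.hkH (ne_one_of_prime o.hkp)
    (fun r hr' hd => (Nat.prime_dvd_prime_iff_eq hr' o.hkp).mp hd ▸
      ⟨o.hkp, o.not_sigma hG, prankLE_two_of_not_sigma hG o.hH (o.not_sigma hG), hr⟩)
    hy.1 hy1 (mem_centralizer_singleton_iff.mp hy.2).symm
  exact o.nL 1 (by
    rw [conjMap_eq_self_iff.mpr (one_mem _)]
    exact (hu L o.d₁.hM (o.centralizer_le hG)).symm)

theorem nilpotent : Group.IsNilpotent (Cfsg.sigmaCore H) := by
  haveI := o.fact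
  exact isNilpotent_of_fpf_line (p := orderOf k) (card_zpowers_eq rfl)
    ((zpowers_le.mpr o.hkH).trans (le_normalizer_sigmaCore H))
    (by rw [centralizer_zpowers_eq]; exact o.fpf hG)

/-- Abelian subgroups of a complement on which `k` acts regularly centralize `H_σ`. -/
theorem centralizes_core {F W : Subgroup G} (hF : Cfsg.IsComplIn F (Cfsg.sigmaCore H) H) (hkF : k ∈ F)
    (hW : W ≤ F) (hW1 : W ≠ ⊥) (hn : zpowers k ≤ normalizer (W : Set G))
    (hfpf : W ⊓ centralizer ({k} : Set G) = ⊥) :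
    Cfsg.sigmaCore H ≤ centralizer (W : Set G) := by
  haveI := o.fact
  refine frobenius_fixed hW1 (zpowers_ne_bot.mpr (ne_one_of_prime o.hkp)) hn (fun e he he1 => ?_)
    ((sup_le hW (zpowers_le.mpr hkF)).trans (hF.1.trans (le_normalizer_sigmaCore H)))
    (isSolvable_of_le_max hG o.hH (sigmaCore_le H))
    (coprime_sigmaCore hG o.hH fun t ht hd => not_sigma_of_dvd_compl hG o.hH hF ht
      (hd.trans (card_dvd_of_le (sup_le hW (zpowers_le.mpr hkF))))).symm ?_
  · rw [← centralizer_zpowers_eq, zpowers_eq_of_card_prime (p := orderOf k) (card_zpowers_eq rfl) he he1,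
      centralizer_zpowers_eq]
    exact hfpf
  · rw [centralizer_zpowers_eq, o.fpf hG]
    exact bot_le

end Outside

end CfsgLib.BG14
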