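import Cfsg.Agent.Lib.BG14.Cyclic

/-!
Two non-conjugate maximal subgroups cannot share a prime of their `σ` sets: the local setup around a
common Sylow subgroup.
-/

set_option autoImplicit false
set_option linter.style.haveILetI false
set_option linter.unusedSectionVars false

namespace CfsgLib.BG14

open Subgroup CfsgLib.PLocal CfsgLib.OddLocal CfsgLib.BG
open scoped commutatorElement

universe u
variable {G : Type u} [Group G] [Finite G]

/-- A common Sylow subgroup of two non-conjugate maximal subgroups at a common `σ` prime. -/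
structure Common (p : ℕ) (M N T : Subgroup G) : Prop where
  hM : IsCoatom M
  hN : IsCoatom N
  hne : ∀ g : G, N ≠ conjMap g M
  hσM : p ∈ Cfsg.sigma M
  hσN : p ∈ Cfsg.sigma N
  hT : SylowIn p T M
  hTN : SylowIn p T N

theorem Common.symm {p : ℕ} {M N T : Subgroup G} (c : Common p M N T) : Common p N M T :=
  ⟨c.hN, c.hM, fun g h => c.hne g⁻¹ (by rw [h, conjMap_inv_conjMap]), c.hσN, c.hσM, c.hTN, c.hT⟩

theorem Common.ne {p : ℕ} {M N T : Subgroup G} (c : Common p M N T) : N ≠ M := fun h =>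
  c.hne 1 (by rw [conjMap_eq_self_iff.mpr (one_mem _)]; exact h)

variable (hG : Cfsg.IsMinSimpleOddOrder G) {p : ℕ} [hp : Fact p.Prime] {M N T : Subgroup G}
  (c : Common p M N T)
include hG c

theorem Common.ne_bot : T ≠ ⊥ := fun h => c.hT.2.2 (by
  rw [h, relIndex_bot_left]; exact c.hσM.2.1)

theorem Common.normalizer_le : normalizer (T : Set G) ≤ M := normalizer_sylow_le c.hσM c.hT

theorem Common.le_core : T ≤ Cfsg.sigmaCore M :=
  le_sigmaCore_of_pi hG c.hM c.hT.1 fun _ hr hd => prime_dvd_pgroup_card c.hT.2.1 hr hd ▸ c.hσM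

theorem Common.sylow_core : SylowIn p T (Cfsg.sigmaCore M) :=
  ⟨c.le_core hG, c.hT.2.1, fun hd => c.hT.2.2
    (hd.trans ⟨_, (relIndex_mul_relIndex _ _ _ (c.le_core hG) (sigmaCore_le M)).symm⟩)⟩

theorem Common.not_unique : ¬ Cfsg.InUniqueMaximal T := fun h =>
  c.ne (eq_of_inUniqueMaximal h c.hM c.hT.1 c.hN c.hTN.1)

theorem Common.comm : IsMulCommutative T := by
  by_contra h
  exact c.not_unique hG (i1422 hG p T c.hT.2.1 h)

theorem Common.not_alpha : p ∉ Cfsg.alpha M := by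
  intro h
  obtain ⟨E, hEM, hE, hlt⟩ := not_prankLE_iff.mp h.2
  obtain ⟨k, -, hk⟩ := c.hT.exists_conj_le (elemAb_isPGroup hE) hEM
  exact c.ne (eq_of_not_prankLE hG (not_prankLE_iff.mpr
    ⟨_, hk, elemAb_map (MulAut.conj k).toMonoidHom hE, by rwa [card_conjMap]⟩) c.hM c.hT.1 c.hN c.hTN.1)

theorem Common.not_beta : p ∉ Cfsg.beta M := fun h => c.not_alpha hG h.1

theorem Common.inf_derived : T ⊓ ⁅Cfsg.sigmaCore M, Cfsg.sigmaCore M⁆ = ⊥ := by
  by_contra hne
  obtain ⟨x, hx, hxp⟩ := exists_prime_element hne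
  have hdvd : orderOf x ∣ Nat.card T := T.orderOf_dvd_natCard hx.1
  have hxo : orderOf x = p := prime_dvd_pgroup_card c.hT.2.1 hxp hdvd
  obtain ⟨S, hS⟩ := exists_sylow_map (c.sylow_core hG)
  have h := (i1423 hG M c.hM p c.hσM (zpowers x) (zpowers_le.mpr (c.hT.1 hx.1))
    (card_zpowers_eq hxo) S (Or.inr (zpowers_le.mpr hx.2))).2.1
  rw [hS] at h
  exact c.not_unique hG h

theorem Common.fixed {E : Subgroup G} (hE : Cfsg.IsComplIn E (Cfsg.sigmaCore M) M) :
    T ⊓ centralizer (E : Set G) = ⊥ := by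
  obtain ⟨h, -, -⟩ := i1426 hG M c.hM E hE
  rw [eq_bot_iff, ← c.inf_derived hG]
  exact le_inf inf_le_left ((inf_le_inf_right _ (c.le_core hG)).trans h)

theorem Common.derived_centralizes {x : G} (hx : x ∈ ⁅M, M⁆) (hxn : x ∈ normalizer (T : Set G))
    (hxc : (orderOf x).Coprime p) : x ∈ centralizer (T : Set G) :=
  nonbeta_centralizes hG c.hM (c.not_beta hG) c.hT.2.1
    ((c.le_core hG).trans (sigmaCore_le_derived hG c.hM)) hx hxn hxc

theorem Common.core_centralizes {x : G} (hx : x ∈ Cfsg.sigmaCore M) (hxn : x ∈ normalizer (T : Set G)) :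
    x ∈ centralizer (T : Set G) := by
  rw [mem_centralizer_iff]
  intro t ht
  have h : x * t * x⁻¹ * t⁻¹ ∈ T ⊓ ⁅Cfsg.sigmaCore M, Cfsg.sigmaCore M⁆ :=
    ⟨mul_mem (s := T) ((mem_normalizer_iff.mp hxn t).mp ht) (inv_mem ht),
      commutator_mem_commutator hx (c.le_core hG ht)⟩
  rw [c.inf_derived hG, mem_bot, mul_inv_eq_one, mul_inv_eq_iff_eq_mul] at h
  exact h.symm

theorem Common.exists_compl {X : Subgroup G} (hX : X ≤ M)
    (hπ : ∀ r : ℕ, r.Prime → r ∣ Nat.card X → r ∉ Cfsg.sigma M) (hXT : X ≤ normalizer (T : Set G)) :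
    ∃ E, Cfsg.IsComplIn E (Cfsg.sigmaCore M) M ∧ X ≤ E ∧ E ≤ normalizer (T : Set G) :=
  exists_compl_normalizing hG c.hM (c.sylow_core hG) hX hπ hXT

theorem Common.exists_compl_bot :
    ∃ E, Cfsg.IsComplIn E (Cfsg.sigmaCore M) M ∧ E ≤ normalizer (T : Set G) := by
  obtain ⟨E, hE, -, hn⟩ := c.exists_compl hG (X := ⊥) bot_le (fun r hr h => by
    rw [card_bot] at h; exact absurd (Nat.dvd_one.mp h) hr.ne_one) bot_le
  exact ⟨E, hE, hn⟩

theorem Common.no_tau2 {s : ℕ} (hs : s ∈ Cfsg.tau2 M) : False := by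
  haveI := Fact.mk hs.1
  obtain ⟨A', hA'M, hA'⟩ := exists_sq_le_of_not_prankLE le_rfl hs.2.2.2
  obtain ⟨E, hE, hET⟩ := c.exists_compl_bot hG
  obtain ⟨k, -, hkE⟩ := exists_conj_le_compl hG c.hM hE hA'M fun r hr hd =>
    prime_dvd_pgroup_card hA'.isPGroup hr hd ▸ hs.2.1
  set A := conjMap k A'
  have hA : IsSq s A := hA'.conjMap k
  have hAn : A ≤ normalizer (T : Set G) := hkE.trans hET
  have hAN : A ≤ N := hAn.trans (c.symm.normalizer_le hG)
  have hAM : A ≤ M := hkE.trans hE.1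
  obtain ⟨-, -, -, hfix, -, -⟩ := i1417 hG M c.hM s hs A ⟨hAM, hA.1, hA.2⟩
  have hsp : ¬ s ∣ Nat.card T := fun h => hs.2.1 (prime_dvd_pgroup_card c.hT.2.1 hs.1 h ▸ c.hσM)
  have hsN : s ∉ Cfsg.sigma N := by
    intro h
    have hAc : A ≤ Cfsg.sigmaCore N :=
      le_sigmaCore_of_pi hG c.hN hAN fun r hr hd => prime_dvd_pgroup_card hA.isPGroup hr hd ▸ h
    refine c.ne_bot hG (le_bot_iff.mp (hfix ▸ le_inf (c.le_core hG) ?_))
    exact le_centralizer_iff.mp fun a ha => c.symm.core_centralizes hG (hAc ha) (hAn ha)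
  have hsN2 : s ∈ Cfsg.tau2 N := mem_tau2_of_sq hG c.hN hsN hAN hA
  obtain ⟨X, hX, hTX⟩ := hA.exists_line_ne_bot hAn hsp (c.ne_bot hG)
  have hne : ∀ {L : Subgroup G}, T ≤ Cfsg.sigmaCore L →
      Cfsg.sigmaCore L ⊓ centralizer (X : Set G) ≠ ⊥ := fun hL h =>
    hTX (le_bot_iff.mp (h ▸ inf_le_inf_right _ hL))
  obtain ⟨hXM, huM⟩ := (i1418 hG M c.hM E hE s hs A ⟨hkE, hA.1, hA.2⟩).2.2 X hX.1 hX.2
    (hne (c.le_core hG))
  obtain ⟨D, hD, hAD⟩ := exists_compl_ge hG c.hN hAN fun r hr hd =>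
    prime_dvd_pgroup_card hA.isPGroup hr hd ▸ hsN
  obtain ⟨hXN, -⟩ := (i1418 hG N c.hN D hD s hsN2 A ⟨hAD, hA.1, hA.2⟩).2.2 X hX.1 hX.2
    (hne (c.symm.le_core hG))
  exact c.ne (huM N c.hN hXN)

theorem Common.fix_le {E : Subgroup G} (hE : Cfsg.IsComplIn E (Cfsg.sigmaCore M) M)
    (hET : E ≤ normalizer (T : Set G)) {e : G} (he : e ∈ E) (het : orderOf e ∈ Cfsg.tau1 M) :
    T ⊓ centralizer ({e} : Set G) ≤ centralizer (E : Set G) := by
  intro y hy
  refine mem_centralizer_of_sylows fun r hr hd => ?_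
  haveI := Fact.mk hr
  have hσ := not_sigma_of_dvd_compl hG c.hM hE hr hd
  rcases tau_cases hG c.hM hr (hd.trans (card_dvd_of_le hE.1)) hσ with h | h | h
  · exact (c.no_tau2 hG h).elim
  · obtain ⟨S, hS, hSf⟩ := tau1_sylow_fix hG c.hM hE he het h
    exact ⟨S, hS, hSf ⟨c.le_core hG hy.1, hy.2⟩⟩
  · obtain ⟨S, hS, -⟩ := exists_sylowIn_le (IsPGroup.of_bot (p := r) (G := G)) (bot_le (a := E))
    refine ⟨S, hS, (?_ : T ≤ centralizer (S : Set G)) hy.1⟩
    refine le_centralizer_iff.mp fun x hx => c.derived_centralizes hG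
      (commutator_mono hE.1 hE.1 (sylow_tau3_le_derived hG c.hM hE hS.2.1 hS.1 h hx)) (hET (hS.1 hx)) ?_
    obtain ⟨j, hj⟩ := IsPGroup.iff_orderOf.mp hS.2.1 ⟨x, hx⟩
    rw [Subgroup.orderOf_mk] at hj
    rw [hj]
    exact ((Nat.coprime_primes hr hp.out).mpr fun e => hσ (e ▸ c.hσM)).pow_left j

theorem Common.tau1_of_moves {e : G} (heM : e ∈ M) (heT : e ∈ normalizer (T : Set G))
    (hs : (orderOf e).Prime) (hσ : orderOf e ∉ Cfsg.sigma M) (hmove : e ∉ centralizer (T : Set G)) :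
    orderOf e ∈ Cfsg.tau1 M ∧ T ⊓ centralizer ({e} : Set G) = ⊥ := by
  haveI := Fact.mk hs
  have hz : IsPGroup (orderOf e) (zpowers e) := isPGroup_of_card_prime (card_zpowers_eq rfl)
  obtain ⟨E, hE, heE, hET⟩ := c.exists_compl hG (zpowers_le.mpr heM) (fun r hr hd =>
    prime_dvd_pgroup_card hz hr hd ▸ hσ) (zpowers_le.mpr heT)
  have he := heE (mem_zpowers e)
  have hd : orderOf e ∣ Nat.card M := M.orderOf_dvd_natCard heM
  rcases tau_cases hG c.hM hs hd hσ with h | h | h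
  · exact (c.no_tau2 hG h).elim
  · exact ⟨h, le_bot_iff.mp (c.fixed hG hE ▸ le_inf inf_le_left (c.fix_le hG hE hET he h))⟩
  · refine absurd (c.derived_centralizes hG (commutator_mono hE.1 hE.1
      (sylow_tau3_le_derived hG c.hM hE hz (zpowers_le.mpr he) h (mem_zpowers e))) heT ?_) hmove
    exact (Nat.coprime_primes hs hp.out).mpr fun e' => hσ (e'.symm ▸ c.hσM)

theorem Common.exists_mover : ∃ e : G, e ∈ M ∧ e ∈ normalizer (T : Set G) ∧ (orderOf e).Prime ∧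
    orderOf e ∉ Cfsg.sigma M ∧ e ∉ centralizer (T : Set G) := by
  obtain ⟨E, hE, hET⟩ := c.exists_compl_bot hG
  by_contra hno
  push Not at hno
  refine c.ne_bot hG (le_bot_iff.mp (c.fixed hG hE ▸ le_inf le_rfl fun y hy => ?_))
  refine mem_centralizer_of_sylows fun r hr hd => ?_
  haveI := Fact.mk hr
  have hσ := not_sigma_of_dvd_compl hG c.hM hE hr hd
  rcases tau_cases hG c.hM hr (hd.trans (card_dvd_of_le hE.1)) hσ with h | h | h
  · exact (c.no_tau2 hG h).elim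
  · obtain ⟨e, he⟩ := exists_prime_orderOf_dvd_card' r hd
    have heo : orderOf (e : G) = r := by rw [Subgroup.orderOf_coe]; exact he
    have heC := hno e (hE.1 e.2) (hET e.2) (heo ▸ hr) (heo ▸ hσ)
    obtain ⟨S, hS, hSf⟩ := tau1_sylow_fix hG c.hM hE e.2 (heo ▸ h) h
    exact ⟨S, hS, hSf ⟨c.le_core hG hy, mem_centralizer_singleton_iff.mpr
      (mem_centralizer_iff.mp heC y hy)⟩⟩
  · obtain ⟨S, hS, -⟩ := exists_sylowIn_le (IsPGroup.of_bot (p := r) (G := G)) (bot_le (a := E))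
    refine ⟨S, hS, (?_ : T ≤ centralizer (S : Set G)) hy⟩
    refine le_centralizer_iff.mp fun x hx => c.derived_centralizes hG
      (commutator_mono hE.1 hE.1 (sylow_tau3_le_derived hG c.hM hE hS.2.1 hS.1 h hx)) (hET (hS.1 hx)) ?_
    obtain ⟨j, hj⟩ := IsPGroup.iff_orderOf.mp hS.2.1 ⟨x, hx⟩
    rw [Subgroup.orderOf_mk] at hj
    rw [hj]
    exact ((Nat.coprime_primes hr hp.out).mpr fun e => hσ (e ▸ c.hσM)).pow_left j

end CfsgLib.BG14
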