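import Cfsg.Agent.Lib.BG14.Partition

/-!
Centralizers of elements of `M_σ`: the maximal subgroup supporting them and the fusion they allow.
-/

set_option autoImplicit false
set_option linter.style.haveILetI false
set_option linter.unusedSectionVars false

namespace CfsgLib.BG14

open Subgroup CfsgLib.PLocal CfsgLib.OddLocal CfsgLib.BG
open scoped commutatorElement

universe u
variable {G : Type u} [Group G] [Finite G]

theorem prankLE_conjMap {p k : ℕ} (g : G) {H : Subgroup G} (h : Cfsg.PRankLE p k H) :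
    Cfsg.PRankLE p k ↥(conjMap g H) := by
  by_contra hn
  obtain ⟨E, hE, he, hlt⟩ := not_prankLE_iff.mp hn
  refine not_prankLE_iff.mpr ⟨conjMap g⁻¹ E, ?_, elemAb_map (MulAut.conj g⁻¹).toMonoidHom he,
    by rwa [card_conjMap]⟩ h
  have := conjMap_mono (g := g⁻¹) hE
  rwa [conjMap_inv_conjMap] at this

theorem tau2_conjMap (g : G) {M : Subgroup G} {p : ℕ} (h : p ∈ Cfsg.tau2 M) :
    p ∈ Cfsg.tau2 (conjMap g M) := by
  refine ⟨h.1, by rw [sigma_conjMap]; exact h.2.1, prankLE_conjMap g h.2.2.1, fun h1 => h.2.2.2 ?_⟩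
  have := prankLE_conjMap g⁻¹ h1
  rwa [conjMap_inv_conjMap] at this

/-- Both factors of a factorised element centralizing `x` centralize it. -/
theorem factors_centralize {E N : Subgroup G} (hE : E ≤ normalizer (N : Set G)) (h : E ⊓ N = ⊥)
    {e n x : G} (he : e ∈ E) (hn : n ∈ N) (hx : x ∈ E)
    (hc : e * n ∈ centralizer ({x} : Set G)) :
    e ∈ centralizer ({x} : Set G) ∧ n ∈ centralizer ({x} : Set G) := by
  rw [mem_centralizer_singleton_iff] at hc ⊢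
  have h1 : n * x * n⁻¹ * x⁻¹ ∈ E ⊓ N := by
    refine ⟨mul_mem (s := E) ?_ (inv_mem hx), ?_⟩
    · have hh : n * x * n⁻¹ = e⁻¹ * x * e := by
        calc n * x * n⁻¹ = e⁻¹ * (e * n * x) * n⁻¹ := by group
          _ = e⁻¹ * (x * (e * n)) * n⁻¹ := by rw [hc]
          _ = _ := by group
      rw [hh]; exact mul_mem (mul_mem (inv_mem he) hx) he
    · rw [show n * x * n⁻¹ * x⁻¹ = n * (x * n⁻¹ * x⁻¹) by group]
      exact mul_mem (s := N) hn ((mem_normalizer_iff.mp (hE hx) _).mp (inv_mem hn))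
  rw [h, mem_bot, mul_inv_eq_one, mul_inv_eq_iff_eq_mul] at h1
  refine ⟨?_, mem_centralizer_singleton_iff.mpr h1⟩
  calc e * x = e * (x * n) * n⁻¹ := by group
    _ = e * n * x * n⁻¹ := by rw [← h1]; group
    _ = x * (e * n) * n⁻¹ := by rw [hc]
    _ = x * e := by group

variable (hG : Cfsg.IsMinSimpleOddOrder G)
include hG

/-- A point of `M_σ` of prime order whose centralizer leaves `M`. -/
theorem exists_support_prime {M : Subgroup G} (hM : IsCoatom M) {x : G} (hx : x ∈ Cfsg.sigmaCore M)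
    (hxp : (orderOf x).Prime) (hxM : ¬ centralizer ({x} : Set G) ≤ M) :
    ∃ L, IsCoatom L ∧ centralizer ({x} : Set G) ≤ L ∧ (∀ g : G, L ≠ conjMap g M) ∧
      orderOf x ∈ Cfsg.tau2 L ∧ Cfsg.sigmaCore L ⊓ M = ⊥ ∧
      Cfsg.IsComplIn (M ⊓ L) (Cfsg.sigmaCore L) L ∧
      ∀ L' : Subgroup G, IsCoatom L' → centralizer ({x} : Set G) ≤ L' → L' = L := by
  set q := orderOf x with hq
  haveI := Fact.mk hxp
  have hxM' : x ∈ M := sigmaCore_le M hx
  have hqσ : q ∈ Cfsg.sigma M :=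
    mem_sigma_of_dvd_sigmaCore hxp ((Cfsg.sigmaCore M).orderOf_dvd_natCard hx)
  have hX : IsPGroup q (zpowers x) := isPGroup_of_card_prime (card_zpowers_eq rfl)
  have hX1 : zpowers x ≠ ⊥ := zpowers_ne_bot.mpr fun h => hxp.ne_one (by rw [hq, h, orderOf_one])
  obtain ⟨L, hL, hNL⟩ := exists_coatom_normalizer hG hX1
    (fun h => hM.1 (top_le_iff.mp (h ▸ zpowers_le.mpr hxM')))
  have hCL : centralizer ({x} : Set G) ≤ L :=
    (centralizer_zpowers_eq x).ge.trans ((centralizer_le_normalizer _).trans hNL)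
  have hLM : L ≠ M := fun h => hxM (h ▸ hCL)
  have hnc : ∀ g : G, L ≠ conjMap g M := by
    intro g hg
    obtain ⟨c, hc, hcM⟩ := exists_centralizer_conj (p := q) hG hM hqσ _ (zpowers x) hX hX1 le_rfl 1 g
      (by rw [conjMap_eq_self_iff.mpr (one_mem _)]; exact zpowers_le.mpr hxM')
      (hg ▸ zpowers_le.mpr (hCL (mem_centralizer_singleton_iff.mpr rfl)))
    rw [conjMap_eq_self_iff.mpr (one_mem _), ← hg] at hcM
    refine hLM ?_
    have hcL : c ∈ L := hNL (centralizer_le_normalizer _ hc)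
    rw [← conjMap_inv_conjMap c M, hcM]
    exact (conjMap_eq_self_iff.mpr (le_normalizer (inv_mem hcL))).symm
  have hqL : q ∉ Cfsg.sigma L := fun h =>
    (exists_conj_of_sigma_inter hG hM hL hqσ h).elim fun g hg => hnc g hg
  obtain ⟨⟨hr2, hr1⟩, -, A₀, hA₀, hA₀c, hXA₀⟩ :=
    i1409 hG L hL q hqL (zpowers x) (card_zpowers_eq rfl) hNL
  have hτ : q ∈ Cfsg.tau2 L := ⟨hxp, hqL, hr2, hr1⟩
  have hA₀L : A₀ ≤ L := fun a ha => hCL (mem_centralizer_singleton_iff.mpr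
    (congrArg (fun z : A₀ => (z : G)) (hA₀.1.is_comm.comm ⟨a, ha⟩ ⟨x, hXA₀ (mem_zpowers x)⟩)))
  obtain ⟨S, hS, hxS⟩ := exists_sylowIn_le (H := M ⊓ L) hX
    (le_inf (zpowers_le.mpr hxM') (zpowers_le.mpr (hCL (mem_centralizer_singleton_iff.mpr rfl))))
  obtain ⟨S', hS'⟩ := exists_sylow_map hS
  obtain ⟨-, -, hidx⟩ := i1424 hG M hM q hqσ (zpowers x) hX hX1 (zpowers_le.mpr hxM') L hL hLM hNL S'
    (hS' ▸ hxS)
  rw [hS'] at hidx
  have hSL : SylowIn q S L := ⟨hS.1.trans inf_le_right, hS.2.1, hidx⟩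
  obtain ⟨k, hk, hkS⟩ := hSL.exists_conj_le (elemAb_isPGroup hA₀) hA₀L
  set A := conjMap k A₀ with hA
  have hAsq : IsSq q A := IsSq.conjMap (⟨hA₀, hA₀c⟩ : IsSq q A₀) k
  obtain ⟨P, hP⟩ := exists_sylow_map hSL
  have hAL : A ≤ L := hkS.trans hSL.1
  obtain ⟨-, hSyl, -, -, hTI, -⟩ := i1417 hG L hL q hτ A ⟨hAL, hAsq.1, hAsq.2⟩
  have hxA : x ∈ A := ((hP ▸ (hSyl P).2 (hP ▸ hkS)).1 x (hxS (mem_zpowers x))).mp
    (pow_orderOf_eq_one x)
  have hAM : A ≤ M := hkS.trans (hS.1.trans inf_le_left)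
  have hdisj : Cfsg.sigmaCore L ⊓ M = ⊥ := hTI M hM (Ne.symm hLM) hAM
  obtain ⟨E, hE, hAE⟩ := exists_compl_ge hG hL hAL fun r hr hd =>
    prime_dvd_pgroup_card hAsq.isPGroup hr hd ▸ hqL
  obtain ⟨-, ⟨-, hNE, -⟩, huniq⟩ := i1418 hG L hL E hE q hτ A ⟨hAE, hAsq.1, hAsq.2⟩
  have hNA : normalizer (A : Set G) ≤ M :=
    (i1420 hG M hM _ (Classical.choose_spec (exists_compl_ge hG hM (X := ⊥) bot_le fun r hr h => by
      rw [card_bot] at h; exact absurd (Nat.dvd_one.mp h) hr.ne_one)).1).2.2.1 q A hqσ hAsq.isPGroup hAM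
      hAsq.not_isCyclic
  have hEM : E ≤ M := hNE ▸ inf_le_right.trans hNA
  have hcompl : Cfsg.IsComplIn (M ⊓ L) (Cfsg.sigmaCore L) L := by
    refine ⟨inf_le_right, sigmaCore_le L, le_bot_iff.mp (hdisj ▸ ?_), fun m hm => ?_⟩
    · exact le_inf inf_le_right (inf_le_left.trans inf_le_left)
    · obtain ⟨a, ha, b, hb, rfl⟩ := hE.2.2.2 m hm
      exact ⟨a, ⟨hEM ha, hE.1 ha⟩, b, hb, rfl⟩
  have hne : Cfsg.sigmaCore L ⊓ centralizer (zpowers x : Set G) ≠ ⊥ := by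
    intro h
    apply hxM
    intro a ha
    obtain ⟨e, he, n, hn, rfl⟩ := hE.2.2.2 a (hCL ha)
    obtain ⟨-, hn'⟩ := factors_centralize (hE.1.trans (le_normalizer_sigmaCore L)) hE.2.2.1 he hn
      (hAE hxA) ha
    have : n ∈ Cfsg.sigmaCore L ⊓ centralizer (zpowers x : Set G) :=
      ⟨hn, (centralizer_zpowers_eq x).ge hn'⟩
    rw [h, mem_bot] at this
    rw [this, mul_one]; exact hEM he
  obtain ⟨-, hu⟩ := huniq (zpowers x) (zpowers_le.mpr hxA) (card_zpowers_eq rfl) hne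
  rw [centralizer_zpowers_eq] at hu
  exact ⟨L, hL, hCL, hnc, hτ, hdisj, hcompl, hu⟩

/-- Every conjugate of `M` containing a point of `M_σ` comes from its centralizer. -/
theorem exists_centralizer_conj_of_mem {M : Subgroup G} (hM : IsCoatom M) {x : G}
    (hx : x ∈ Cfsg.sigmaCore M) (hx1 : x ≠ 1) {g : G} (hg : x ∈ conjMap g M) :
    ∃ c ∈ centralizer ({x} : Set G), conjMap c M = conjMap g M := by
  obtain ⟨p, i, hp, hd, hi⟩ := exists_prime_pow hx1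
  haveI := Fact.mk hp
  have hσ : p ∈ Cfsg.sigma M :=
    mem_sigma_of_dvd_sigmaCore hp (hd.trans ((Cfsg.sigmaCore M).orderOf_dvd_natCard hx))
  obtain ⟨c, hc, hcM⟩ := exists_centralizer_conj (p := p) hG hM hσ _ (zpowers (x ^ i))
    (isPGroup_of_card_prime (card_zpowers_eq hi))
    (zpowers_ne_bot.mpr fun h => hp.ne_one (by rw [← hi, h, orderOf_one])) le_rfl 1 g
    (by rw [conjMap_eq_self_iff.mpr (one_mem _)]; exact zpowers_le.mpr (pow_mem (sigmaCore_le M hx) i))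
    (zpowers_le.mpr (pow_mem hg i))
  rw [conjMap_eq_self_iff.mpr (one_mem _)] at hcM
  rw [centralizer_zpowers_eq] at hc
  by_cases hle : centralizer ({x ^ i} : Set G) ≤ M
  · refine ⟨1, one_mem _, ?_⟩
    rw [conjMap_eq_self_iff.mpr (one_mem _), ← hcM, conjMap_eq_self_iff.mpr (le_normalizer (hle hc))]
  obtain ⟨L, hL, hCL, -, -, hdisj, hcompl, -⟩ :=
    exists_support_prime hG hM (pow_mem hx i) (hi.symm ▸ hp) hle
  obtain ⟨a, ha, b, hb, hab⟩ := hcompl.2.2.2 c⁻¹ (inv_mem (hCL hc))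
  have hxE : x ∈ M ⊓ L := ⟨sigmaCore_le M hx, hCL (mem_centralizer_singleton_iff.mpr
    (by rw [← pow_succ, ← pow_succ']))⟩
  have hbc : c = b⁻¹ * a⁻¹ := by rw [← mul_inv_rev, ← hab, inv_inv]
  have hbM : conjMap b⁻¹ M = conjMap g M := by
    rw [← hcM, hbc, ← conjMap_conjMap, conjMap_eq_self_iff.mpr (le_normalizer (inv_mem ha.1))]
  refine ⟨b⁻¹, inv_mem ?_, hbM⟩
  have h1 : b * x * b⁻¹ ∈ M := by
    have h := hg
    rw [← hbM, mem_conjMap, inv_inv] at h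
    exact h
  have h2 : b * x * b⁻¹ * x⁻¹ ∈ Cfsg.sigmaCore L ⊓ M := by
    refine ⟨?_, mul_mem (s := M) h1 (inv_mem (sigmaCore_le M hx))⟩
    rw [show b * x * b⁻¹ * x⁻¹ = b * (x * b⁻¹ * x⁻¹) by group]
    exact mul_mem (s := Cfsg.sigmaCore L) hb
      ((mem_normalizer_iff.mp (le_normalizer_sigmaCore L hxE.2) _).mp (inv_mem hb))
  rw [hdisj, mem_bot, mul_inv_eq_one, mul_inv_eq_iff_eq_mul] at h2
  exact mem_centralizer_singleton_iff.mpr h2

/-- The maximal subgroup supporting a point of `M_σ`. -/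
structure IsSupport (M L : Subgroup G) (x : G) : Prop where
  hL : IsCoatom L
  le : centralizer ({x} : Set G) ≤ L
  unique : ∀ L' : Subgroup G, IsCoatom L' → centralizer ({x} : Set G) ≤ L' → L' = L
  nonconj : ∀ g : G, L ≠ conjMap g M
  tau2 : ∀ q : ℕ, q.Prime → q ∣ orderOf x → q ∈ Cfsg.tau2 L
  disj : Cfsg.sigmaCore L ⊓ M = ⊥
  compl : Cfsg.IsComplIn (M ⊓ L) (Cfsg.sigmaCore L) L
  nilpotent : Group.IsNilpotent (Cfsg.sigmaCore L)
  ne_bot : Cfsg.sigmaCore L ⊓ centralizer ({x} : Set G) ≠ ⊥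
  split : ∀ a ∈ centralizer ({x} : Set G), ∃ m ∈ M ⊓ centralizer ({x} : Set G),
    ∃ r ∈ Cfsg.sigmaCore L ⊓ centralizer ({x} : Set G), a = m * r

theorem exists_support {M : Subgroup G} (hM : IsCoatom M) {x : G} (hx : x ∈ Cfsg.sigmaCore M)
    (hx1 : x ≠ 1) (hxM : ¬ centralizer ({x} : Set G) ≤ M) : ∃ L, IsSupport M L x := by
  have hσx : ∀ q : ℕ, q.Prime → q ∣ orderOf x → q ∈ Cfsg.sigma M := fun q hq hd =>
    mem_sigma_of_dvd_sigmaCore hq (hd.trans ((Cfsg.sigmaCore M).orderOf_dvd_natCard hx))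
  have hxself : x ∈ centralizer ({x} : Set G) := mem_centralizer_singleton_iff.mpr rfl
  -- the supporting subgroup of each prime part
  have key : ∀ q : ℕ, q.Prime → q ∣ orderOf x → ∃ L, IsCoatom L ∧ centralizer ({x} : Set G) ≤ L ∧
      (∀ g : G, L ≠ conjMap g M) ∧ q ∈ Cfsg.tau2 L ∧ Cfsg.sigmaCore L ⊓ M = ⊥ ∧
      Cfsg.IsComplIn (M ⊓ L) (Cfsg.sigmaCore L) L := by
    intro q hq hd
    have hi := exists_pow_orderOf_eq hd
    set y := x ^ (orderOf x / q)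
    obtain ⟨L, hL, hCL, hnc, hτ, hdisj, hcompl, -⟩ := exists_support_prime hG hM (pow_mem hx _)
      (hi.symm ▸ hq) fun h => hxM ((centralizer_singleton_le_pow x _).trans h)
    exact ⟨L, hL, (centralizer_singleton_le_pow x _).trans hCL, hnc, hi ▸ hτ, hdisj, hcompl⟩
  obtain ⟨p, -, hp, hd, -⟩ := exists_prime_pow hx1
  obtain ⟨L, hL, hCL, hnc, hτp, hdisj, hcompl⟩ := key p hp hd
  have hxE : x ∈ M ⊓ L := ⟨sigmaCore_le M hx, hCL hxself⟩
  have hgen : ∀ L₁ : Subgroup G, centralizer ({x} : Set G) ≤ L₁ →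
      Cfsg.IsComplIn (M ⊓ L₁) (Cfsg.sigmaCore L₁) L₁ → ∀ a ∈ centralizer ({x} : Set G),
      ∃ m ∈ M ⊓ centralizer ({x} : Set G),
        ∃ r ∈ Cfsg.sigmaCore L₁ ⊓ centralizer ({x} : Set G), a = m * r := by
    intro L₁ hCL₁ hc₁ a ha
    obtain ⟨e, he, n, hn, rfl⟩ := hc₁.2.2.2 a (hCL₁ ha)
    obtain ⟨h1, h2⟩ := factors_centralize (inf_le_right.trans (le_normalizer_sigmaCore L₁)) hc₁.2.2.1
      he hn ⟨sigmaCore_le M hx, hCL₁ hxself⟩ ha
    exact ⟨e, ⟨he.1, h1⟩, n, ⟨hn, h2⟩, rfl⟩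
  have hsplit := hgen L hCL hcompl
  have hne : Cfsg.sigmaCore L ⊓ centralizer ({x} : Set G) ≠ ⊥ := fun h => hxM fun a ha => by
    obtain ⟨m, hm, r, hr, rfl⟩ := hsplit a ha
    rw [h, mem_bot] at hr
    rw [hr, mul_one]; exact hm.1
  have hcard : ∀ L₁ : Subgroup G, centralizer ({x} : Set G) ≤ L₁ → Cfsg.sigmaCore L₁ ⊓ M = ⊥ →
      Cfsg.IsComplIn (M ⊓ L₁) (Cfsg.sigmaCore L₁) L₁ → Nat.card ↥(centralizer ({x} : Set G)) =
        Nat.card ↥(Cfsg.sigmaCore L₁ ⊓ centralizer ({x} : Set G)) *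
          Nat.card ↥(M ⊓ centralizer ({x} : Set G)) := by
    intro L₁ hCL₁ hd₁ hc₁
    rw [← CfsgLib.Coprime.card_sup_of_inf_eq_bot ((le_inf ((inf_le_right.trans hCL₁).trans
      (le_normalizer_sigmaCore L₁)) (inf_le_right.trans le_normalizer)).trans
        inf_normalizer_le_normalizer_inf) (le_bot_iff.mp (hd₁ ▸ le_inf (inf_le_right.trans inf_le_left)
          (inf_le_left.trans inf_le_left)))]
    have h : Cfsg.sigmaCore L₁ ⊓ centralizer ({x} : Set G) ⊔ M ⊓ centralizer ({x} : Set G) =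
        centralizer ({x} : Set G) := le_antisymm (sup_le inf_le_right inf_le_right) fun a ha => by
      obtain ⟨m, hm, r, hr, rfl⟩ := hgen L₁ hCL₁ hc₁ a ha
      exact mul_mem (mem_sup_right hm) (mem_sup_left hr)
    rw [h]
  have hτ : ∀ q : ℕ, q.Prime → q ∣ orderOf x → q ∈ Cfsg.tau2 L := by
    intro q hq hd'
    obtain ⟨L₁, hL₁, hCL₁, -, hτq, hdisj₁, hcompl₁⟩ := key q hq hd'
    obtain ⟨r, hr, hrp⟩ := exists_prime_element hne
    have h2 : orderOf r ∈ Cfsg.sigma L :=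
      mem_sigma_of_dvd_sigmaCore hrp ((Cfsg.sigmaCore L).orderOf_dvd_natCard hr.1)
    have heq := Nat.eq_of_mul_eq_mul_right Nat.card_pos
      ((hcard L hCL hdisj hcompl).symm.trans (hcard L₁ hCL₁ hdisj₁ hcompl₁))
    have h1 : orderOf r ∈ Cfsg.sigma L₁ := mem_sigma_of_dvd_sigmaCore hrp
      (((Subgroup.orderOf_dvd_natCard _ hr).trans heq.dvd).trans (card_dvd_of_le inf_le_left))
    exact (exists_conj_of_sigma_inter hG hL hL₁ h2 h1).elim fun g hg => by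
      have := tau2_conjMap g⁻¹ hτq
      rwa [hg, conjMap_inv_conjMap] at this
  haveI := Fact.mk hp
  obtain ⟨A, hAL, hA⟩ := exists_sq_le_of_not_prankLE le_rfl hτp.2.2.2
  obtain ⟨hnil, -⟩ := i1417 hG L hL p hτp A ⟨hAL, hA.1, hA.2⟩
  obtain ⟨E, hE, -⟩ := exists_compl_ge hG hL (X := ⊥) bot_le fun r hr h => by
    rw [card_bot] at h; exact absurd (Nat.dvd_one.mp h) hr.ne_one
  obtain ⟨-, -, -, h20⟩ := i1420 hG L hL E hE
  obtain ⟨r, hr, hr1⟩ := (Cfsg.sigmaCore L ⊓ centralizer ({x} : Set G)).bot_or_exists_ne_one.resolve_left hne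
  obtain ⟨-, hu⟩ := h20 x hxE.2 hx1 hτ ⟨hxE.2, r, hr.1, hr1,
    (mem_centralizer_singleton_iff.mp hr.2).symm⟩
  exact ⟨L, hL, hCL, hu, hnc, hτ, hdisj, hcompl, hnil, hne, hsplit⟩

end CfsgLib.BG14
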