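import Cfsg.Agent.Lib.BG14.AllFix
import Cfsg.Agent.Lib.BG.TauThree

/-!
A `τ₃`-element with fixed points makes the complement act alike on `M_σ`.
-/

set_option autoImplicit false
set_option linter.style.haveILetI false
set_option linter.unusedSectionVars false

namespace CfsgLib.BG14

open Subgroup CfsgLib.PLocal CfsgLib.OddLocal CfsgLib.BG
open scoped commutatorElement

universe u
variable {G : Type u} [Group G] [Finite G]

theorem allFix_of_tau3 (hG : Cfsg.IsMinSimpleOddOrder G) {M : Subgroup G} (hM : IsCoatom M) {g : G}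
    (hg : g ∈ M) (hgp : (orderOf g).Prime) (hτ : orderOf g ∈ Cfsg.tau3 M)
    (hfix : Cfsg.sigmaCore M ⊓ centralizer ({g} : Set G) ≠ ⊥) : ∃ E, AllFix M E := by
  haveI := Fact.mk hgp
  obtain ⟨E, hE, hgE⟩ := exists_compl_ge hG hM (zpowers_le.mpr hg)
    (primes_zpowers hgp (π := {r | r ∉ Cfsg.sigma M}) hτ.2.1)
  rw [← centralizer_zpowers_eq] at hfix
  obtain ⟨h2, hpa, hEX, hnorm⟩ := tau3_fixed_structure hG hM hE hτ hgE (card_zpowers_eq rfl) hfix
  refine ⟨E, ⟨hM, hE, hEX ▸ hfix, fun h => zpowers_ne_bot.mpr (ne_one_of_prime hgp)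
    (le_bot_iff.mp (h ▸ hgE)), fun e he hep => ?_, fun e he hep =>
    (hpa e he (ne_one_of_prime hep)).le.trans inf_le_right,
    fun e he hep => hnorm _ (zpowers_le.mpr he) (by rwa [Nat.card_zpowers])⟩⟩
  rcases tau_cases hG hM hep (M.orderOf_dvd_natCard (hE.1 he))
    (not_sigma_of_mem_compl hG hM hE he hep dvd_rfl) with h | h | h
  · rw [h2] at h
    exact absurd h (Set.notMem_empty _)
  · exact Or.inl h
  · exact Or.inr h

end CfsgLib.BG14
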