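import Cfsg.Agent.Lib.BG14.Dual

/-!
The group `Z = K × K*` and its elements outside `K ∪ K*`.
-/

set_option autoImplicit false
set_option linter.style.haveILetI false
set_option linter.unusedSectionVars false

namespace CfsgLib.BG14

open Subgroup CfsgLib.PLocal CfsgLib.OddLocal CfsgLib.BG

universe u
variable {G : Type u} [Group G] [Finite G]

/-- `Z = K K*`. -/
def zGroup (M K : Subgroup G) : Subgroup G := K ⊔ starOf M K

/-- `Ẑ = Z \ (K ∪ K*)`. -/
def hatZ (M K : Subgroup G) : Set G := (zGroup M K : Set G) \ ((K : Set G) ∪ (starOf M K : Set G))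

/-- Counting conjugates of a normalized subset with the trivial intersection property. -/
theorem ncard_conj_eq {N : Subgroup G} {T : Set G} (hT : T ⊆ N)
    (hconj : ∀ x ∈ T, ∀ n ∈ N, n * x * n⁻¹ ∈ T)
    (hTI : ∀ x ∈ T, ∀ g : G, g * x * g⁻¹ ∈ N → g ∈ N) :
    Set.ncard {x | ∃ g : G, ∃ t ∈ T, x = g * t * g⁻¹} = N.index * T.ncard := by
  rw [Subgroup.index_eq_card, ← Nat.card_coe_set_eq T, ← Nat.card_prod, ← Nat.card_coe_set_eq]
  refine (Nat.card_eq_of_bijective (fun z : (G ⧸ N) × T =>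
    (⟨Quotient.out z.1 * z.2.1 * (Quotient.out z.1)⁻¹, _, z.2.1, z.2.2, rfl⟩ :
      {x | ∃ g : G, ∃ t ∈ T, x = g * t * g⁻¹})) ⟨?_, ?_⟩).symm
  · rintro ⟨q, ⟨s, hs⟩⟩ ⟨q', ⟨t, ht⟩⟩ he
    have he' : Quotient.out q * s * (Quotient.out q)⁻¹ = Quotient.out q' * t * (Quotient.out q')⁻¹ :=
      congrArg Subtype.val he
    have hmem : (Quotient.out q')⁻¹ * Quotient.out q ∈ N := hTI s hs _ (by
      rw [show (Quotient.out q')⁻¹ * Quotient.out q * s * ((Quotient.out q')⁻¹ * Quotient.out q)⁻¹ =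
        (Quotient.out q')⁻¹ * (Quotient.out q * s * (Quotient.out q)⁻¹) * Quotient.out q' by group, he']
      rw [show (Quotient.out q')⁻¹ * (Quotient.out q' * t * (Quotient.out q')⁻¹) * Quotient.out q' = t by
        group]
      exact hT ht)
    have hq : q' = q := by
      rw [← Quotient.out_eq q, ← Quotient.out_eq q']
      exact QuotientGroup.eq.mpr hmem
    subst hq
    obtain rfl : s = t := mul_left_cancel (mul_right_cancel he')
    rfl
  · rintro ⟨_, g, t, ht, rfl⟩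
    obtain ⟨n, hn⟩ := QuotientGroup.mk_out_eq_mul N g
    refine ⟨⟨QuotientGroup.mk g, ⟨(n : G)⁻¹ * t * n, ?_⟩⟩, ?_⟩
    · have := hconj t ht (n : G)⁻¹ (inv_mem n.2)
      rwa [inv_inv] at this
    · apply Subtype.ext
      show Quotient.out (QuotientGroup.mk g : G ⧸ N) * _ * _ = _
      rw [hn]; group

variable (hG : Cfsg.IsMinSimpleOddOrder G)
include hG

variable {M K U E L U₁ E₁ : Subgroup G}

theorem PData.commute_star (_d : PData M K U E) {x y : G} (hx : x ∈ K) (hy : y ∈ starOf M K) :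
    Commute x y :=
  mem_centralizer_iff.mp hy.2 x hx

theorem PData.mem_Z_iff (d : PData M K U E) {z : G} :
    z ∈ zGroup M K ↔ ∃ x ∈ K, ∃ y ∈ starOf M K, z = x * y :=
  ⟨fun h => by
    obtain ⟨x, hx, y, hy, rfl⟩ := (CfsgLib.Coprime.mem_sup_of_le_normalizer
      (show starOf M K ≤ normalizer (K : Set G) from
        inf_le_right.trans (centralizer_le_normalizer _))).mp h
    exact ⟨x, hx, y, hy, rfl⟩, fun ⟨_, hx, _, hy, h⟩ => h ▸ mul_mem (mem_sup_left hx) (mem_sup_right hy)⟩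

theorem PData.coprime_star (d : PData M K U E) : (Nat.card K).Coprime (Nat.card (starOf M K)) :=
  coprime_of_forall fun _ hr h1 h2 =>
    not_sigma_of_dvd_compl hG d.hM d.compl hr (h1.trans (card_dvd_of_le d.K_le))
      (mem_sigma_of_dvd_sigmaCore hr (h2.trans (card_dvd_of_le inf_le_left)))

theorem PData.inf_star (d : PData M K U E) : K ⊓ starOf M K = ⊥ :=
  CfsgLib.Coprime.inf_eq_bot_of_coprime (d.coprime_star hG)

theorem PData.card_Z (d : PData M K U E) :
    Nat.card (zGroup M K) = Nat.card K * Nat.card (starOf M K) :=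
  CfsgLib.Coprime.card_sup_of_inf_eq_bot (inf_le_right.trans (centralizer_le_normalizer _))
    (by rw [inf_comm]; exact d.inf_star hG)

theorem PData.Z_le_centralizer (d : PData M K U E) {x : G} (hx : x ∈ K) :
    zGroup M K ≤ M ⊓ centralizer ({x} : Set G) :=
  sup_le (le_inf (d.K_le_M hG) fun _ hb => mem_centralizer_singleton_iff.mpr (d.commute_K hG hb hx).eq)
    (le_inf (d.star_le hG) (inf_le_right.trans (centralizer_le_of_mem hx)))

theorem PData.centralizer_K_el (d : PData M K U E) {x : G} (hx : x ∈ K) (hx1 : x ≠ 1) :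
    M ⊓ centralizer ({x} : Set G) = zGroup M K := by
  obtain ⟨p, i, hp, -, hi⟩ := exists_prime_pow hx1
  refine le_antisymm ?_ (d.Z_le_centralizer hG hx)
  rw [zGroup, ← d.normalizer_inf hG (pow_mem hx i) (hi.symm ▸ hp)]
  exact inf_le_inf_left _ ((centralizer_singleton_le_pow x i).trans
    ((centralizer_zpowers_eq _).ge.trans (centralizer_le_normalizer _)))

/-- The `y`-part of a product in `K K*` is a power of it, so conjugation respects the parts. -/
theorem PData.parts_conj (d : PData M K U E) {x y x' y' g : G} (hx : x ∈ K) (hy : y ∈ starOf M K)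
    (hx' : x' ∈ K) (hy' : y' ∈ starOf M K) (h : g * (x * y) * g⁻¹ = x' * y') :
    g * x * g⁻¹ = x' ∧ g * y * g⁻¹ = y' := by
  have hc := d.commute_star hG hx hy
  have hc' : Commute (g * y * g⁻¹) (g * x * g⁻¹) := by
    show _ = _
    calc g * y * g⁻¹ * (g * x * g⁻¹) = g * (y * x) * g⁻¹ := by group
      _ = g * (x * y) * g⁻¹ := by rw [hc.eq]
      _ = _ := by group
  have hy2 : g * y * g⁻¹ = y' := by
    refine eq_of_mul_eq_mul (π := Cfsg.sigma M) hc' (d.commute_star hG hx' hy').symm ?_ ?_ ?_ ?_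
      (b := g * x * g⁻¹) (b' := x') ?_
    · exact fun p hp hd => mem_sigma_of_dvd_sigmaCore hp
        ((orderOf_conj' g y ▸ hd).trans ((Cfsg.sigmaCore M).orderOf_dvd_natCard hy.1))
    · exact fun p hp hd => mem_sigma_of_dvd_sigmaCore hp
        (hd.trans ((Cfsg.sigmaCore M).orderOf_dvd_natCard hy'.1))
    · exact fun p hp hd => d.not_sigma hG (d.K_le hx) hp (orderOf_conj' g x ▸ hd)
    · exact fun p hp hd => d.not_sigma hG (d.K_le hx') hp hd
    · calc g * y * g⁻¹ * (g * x * g⁻¹) = g * (y * x) * g⁻¹ := by group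
        _ = x' * y' := by rw [← hc.eq, h]
        _ = _ := (d.commute_star hG hx' hy').eq
  refine ⟨mul_right_cancel (b := y') ?_, hy2⟩
  rw [← h, ← hy2]
  group

theorem PData.exists_of_hatZ (d : PData M K U E) {z : G} (hz : z ∈ hatZ M K) :
    ∃ x ∈ K, x ≠ 1 ∧ ∃ y ∈ starOf M K, y ≠ 1 ∧ z = x * y := by
  obtain ⟨hZ, hno⟩ := hz
  obtain ⟨x, hx, y, hy, rfl⟩ := (d.mem_Z_iff hG).mp hZ
  refine ⟨x, hx, fun e => hno (Or.inr ?_), y, hy, fun e => hno (Or.inl ?_), rfl⟩
  · rw [e, one_mul]; exact hy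
  · rw [e, mul_one]; exact hx

/-- `Ẑ` lies in no other conjugate of `M`. -/
theorem PData.hatZ_not_mem_conj (d : PData M K U E) {z g : G} (hz : z ∈ hatZ M K) (hg : g ∉ M) :
    z ∉ conjMap g M := by
  obtain ⟨x, hx, -, y, hy, hy1, rfl⟩ := d.exists_of_hatZ hG hz
  intro hmem
  refine hg (d.eq_of_mem_conj hG hy hy1 ?_)
  have hcop : (orderOf x).Coprime (orderOf y) :=
    ((d.coprime_star hG).coprime_dvd_left (K.orderOf_dvd_natCard hx)).coprime_dvd_right
      ((starOf M K).orderOf_dvd_natCard hy)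
  obtain ⟨k, hk⟩ := exists_pow_eq_self_of_coprime (x := y) hcop
  have hp : (x * y) ^ orderOf x = y ^ orderOf x := by
    rw [(d.commute_star hG hx hy).mul_pow, pow_orderOf_eq_one, one_mul]
  rw [← hk, ← hp, ← pow_mul]
  exact pow_mem hmem _

theorem PData.hatZ_conj_mem (d : PData M K U E) {z g : G} (hz : z ∈ hatZ M K)
    (hg : g * z * g⁻¹ ∈ zGroup M K) : g ∈ zGroup M K := by
  obtain ⟨x, hx, hx1, y, hy, hy1, rfl⟩ := d.exists_of_hatZ hG hz
  obtain ⟨x', hx', y', hy', he⟩ := (d.mem_Z_iff hG).mp hg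
  obtain ⟨hxx, hyy⟩ := d.parts_conj hG hx hy hx' hy' he
  have hgM : g ∈ M := by
    rw [← inv_mem_iff]
    refine d.eq_of_mem_conj hG hy hy1 ?_
    rw [mem_conjMap, inv_inv, hyy]
    exact d.star_le hG hy'
  obtain ⟨p, i, hp, -, hi⟩ := exists_prime_pow hx1
  have hxi : g * x ^ i * g⁻¹ ∈ K := by rw [← conj_pow, hxx]; exact pow_mem hx' i
  have hl := d.line_unique hG (pow_mem hx i) hxi (hi.symm ▸ hp) (orderOf_conj' g _)
  rw [zGroup, ← d.normalizer_inf hG (pow_mem hx i) (hi.symm ▸ hp)]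
  refine ⟨hgM, conjMap_eq_self_iff.mp ?_⟩
  rw [← zpowers_conj_eq]
  exact hl.symm

theorem PData.hatZ_conj (d : PData M K U E) {z n : G} (hz : z ∈ hatZ M K) (hn : n ∈ zGroup M K) :
    n * z * n⁻¹ = z := by
  obtain ⟨x, hx, -, y, hy, -, rfl⟩ := d.exists_of_hatZ hG hz
  obtain ⟨a, ha, b, hb, rfl⟩ := (d.mem_Z_iff hG).mp hn
  have h1 : Commute (a * b) x := (d.commute_K hG ha hx).mul_left (d.commute_star hG hx hb).symm
  obtain ⟨L, U₁, E₁, d₁, h2, -, -⟩ := d.exists_dual hG
  have h3 : Commute (a * b) y := (d.commute_star hG ha hy).mul_left (d₁.commute_K hG hb hy)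
  rw [(h1.mul_right h3).eq, mul_inv_cancel_right]

/-- The centralizer of an element of `Ẑ`. -/
theorem PData.centralizer_hatZ (d : PData M K U E) {z : G} (hz : z ∈ hatZ M K) :
    centralizer ({z} : Set G) = zGroup M K := by
  refine le_antisymm (fun c hc => ?_) fun n hn => ?_
  · refine d.hatZ_conj_mem hG hz ?_
    rw [mem_centralizer_singleton_iff.mp hc, mul_inv_cancel_right]
    exact hz.1
  · rw [mem_centralizer_singleton_iff]
    exact mul_inv_eq_iff_eq_mul.mp (d.hatZ_conj hG hz hn)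

theorem PData.ncard_hatZ (d : PData M K U E) :
    (hatZ M K).ncard + Nat.card K + Nat.card (starOf M K) = Nat.card K * Nat.card (starOf M K) + 1 := by
  have hu : ((K : Set G) ∪ (starOf M K : Set G)) ⊆ (zGroup M K : Set G) := Set.union_subset
    (fun x hx => mem_sup_left hx) fun x hx => mem_sup_right hx
  have h1 := Set.ncard_sdiff_add_ncard_of_subset hu (Set.toFinite _)
  have h2 := Set.ncard_union_add_ncard_inter (K : Set G) (starOf M K : Set G)
  have h3 : ((K : Set G) ∩ (starOf M K : Set G)) = {1} := by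
    rw [← Subgroup.coe_inf, d.inf_star hG, Subgroup.coe_bot]
  rw [h3, Set.ncard_singleton] at h2
  have hK : (K : Set G).ncard = Nat.card K := (Nat.card_coe_set_eq _).symm
  have hS : (starOf M K : Set G).ncard = Nat.card (starOf M K) := (Nat.card_coe_set_eq _).symm
  have hZ : (zGroup M K : Set G).ncard = Nat.card K * Nat.card (starOf M K) :=
    (Nat.card_coe_set_eq _).symm.trans (d.card_Z hG)
  show ((zGroup M K : Set G) \ _).ncard + _ + _ = _
  omega

/-- The number of conjugates of elements of `Ẑ`. -/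
theorem PData.ncard_hatZ_conj (d : PData M K U E) :
    Nat.card K * Nat.card (starOf M K) *
        Set.ncard {a | ∃ g : G, ∃ z ∈ hatZ M K, a = g * z * g⁻¹} =
      (hatZ M K).ncard * Nat.card G := by
  rw [ncard_conj_eq (N := zGroup M K) (fun _ hz => hz.1)
    (fun x hx n hn => by rw [d.hatZ_conj hG hx hn]; exact hx) fun x hx g hg => d.hatZ_conj_mem hG hx hg,
    ← mul_assoc, ← d.card_Z hG, Subgroup.card_mul_index]
  ring

theorem PData.three_le_card (d : PData M K U E) : 3 ≤ Nat.card K := by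
  obtain ⟨g, hg, hgp⟩ := d.exists_prime hG
  exact (two_lt_of_dvd hG hgp (((K.orderOf_dvd_natCard hg).trans (card_subgroup_dvd_card K)))).trans_le
    (Nat.le_of_dvd Nat.card_pos (K.orderOf_dvd_natCard hg))

/-- `K*` is a Hall `σ(M)`-subgroup of the partner. -/
theorem PData.star_hall (d : PData M K U E) (d₁ : PData L (starOf M K) U₁ E₁)
    (h2 : starOf L (starOf M K) = K) :
    Cfsg.IsPiHallOf (Cfsg.sigma M) (starOf M K) L := by
  refine ⟨d₁.K_le_M hG, fun p hp hd => mem_sigma_of_dvd_sigmaCore hp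
    (hd.trans (card_dvd_of_le inf_le_left)), fun p hp hσ hd => ?_⟩
  haveI := Fact.mk hp
  obtain ⟨g, hg, hgp⟩ := d.exists_prime hG
  have hgL : g ∈ Cfsg.sigmaCore L := (h2.ge hg).1
  have hgσ : orderOf g ∈ Cfsg.sigma L :=
    mem_sigma_of_dvd_sigmaCore hgp ((Cfsg.sigmaCore L).orderOf_dvd_natCard hgL)
  have hnc : ∀ c : G, conjMap c L ≠ M := fun c hc => d.not_sigma hG (d.K_le hg) hgp dvd_rfl (by
    rw [← hc, sigma_conjMap]; exact hgσ)
  have hpL : p ∉ Cfsg.sigma L := sigma_disjoint hG d.hM d₁.hM hnc hσ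
  have hpU : p ∣ Nat.card U₁ := by
    rw [← relIndex_mul_relIndex (starOf M K) E₁ L d₁.K_le d₁.compl.1] at hd
    rcases hp.dvd_mul.mp hd with h | h
    · have hc : Nat.card E₁ = Nat.card (starOf M K) * (starOf M K).relIndex E₁ :=
        (CfsgLib.Coprime.card_mul_relIndex d₁.K_le).symm
      rw [d₁.card_E hG, mul_comm] at hc
      exact Nat.eq_of_mul_eq_mul_left Nat.card_pos hc ▸ h
    · have hc : Nat.card E₁ * E₁.relIndex L = Nat.card E₁ * Nat.card (Cfsg.sigmaCore L) := by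
        rw [CfsgLib.Coprime.card_mul_relIndex d₁.compl.1, card_compl hG d₁.hM d₁.compl, mul_comm,
          CfsgLib.Coprime.card_mul_relIndex (sigmaCore_le L)]
      rw [Nat.eq_of_mul_eq_mul_left Nat.card_pos hc] at h
      exact absurd (mem_sigma_of_dvd_sigmaCore hp h) hpL
  obtain ⟨P, hP, hKP⟩ := exists_invariant_sylowIn (A := starOf M K) (K := U₁)
    (d₁.K_le.trans d₁.normal) d₁.coprime.symm
    (Or.inl (isSolvable_of_le_max hG d₁.hM (d₁.K_le_M hG))) p
  have hP1 : P ≠ ⊥ := fun e => hP.2.2 (by rw [e, relIndex_bot_left]; exact hpU)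
  have hY : ∀ r : ℕ, r.Prime → r ∣ Nat.card ↥(P ⊔ starOf M K) → r ∈ Cfsg.sigma M := fun r hr hrd => by
    rcases hr.dvd_mul.mp (hrd.trans (CfsgLib.BG.card_sup_dvd hKP)) with h | h
    · exact (prime_dvd_pgroup_card hP.2.1 hr h).symm ▸ hσ
    · exact mem_sigma_of_dvd_sigmaCore hr (h.trans (card_dvd_of_le inf_le_left))
  have hPσ : P ≤ Cfsg.sigmaCore M := le_sup_left.trans (d.le_core_of_meets hG hY (by
    rw [inf_eq_right.mpr le_sup_right]; exact d.fix_ne))
  obtain ⟨w, hw, hw1⟩ := P.bot_or_exists_ne_one.resolve_left hP1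
  have hinf : Cfsg.sigmaCore M ⊓ Cfsg.sigmaCore L = ⊥ := CfsgLib.Coprime.inf_eq_bot_of_coprime
    (coprime_of_forall fun s hs h1 h2 => sigma_disjoint hG d.hM d₁.hM hnc
      (mem_sigma_of_dvd_sigmaCore hs h1) (mem_sigma_of_dvd_sigmaCore hs h2))
  have hcom : w * g * w⁻¹ * g⁻¹ ∈ Cfsg.sigmaCore M ⊓ Cfsg.sigmaCore L := by
    refine ⟨?_, ?_⟩
    · rw [show w * g * w⁻¹ * g⁻¹ = w * (g * w⁻¹ * g⁻¹) by group]
      exact Subgroup.mul_mem _ (hPσ hw) ((mem_normalizer_iff.mp (le_normalizer_sigmaCore M (d.K_le_M hG hg)) _).mp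
        (Subgroup.inv_mem _ (hPσ hw)))
    · exact Subgroup.mul_mem _ ((mem_normalizer_iff.mp (le_normalizer_sigmaCore L
        (d₁.U_le_M hG (hP.1 hw))) _).mp hgL) (Subgroup.inv_mem _ hgL)
  rw [hinf, mem_bot, mul_inv_eq_one, mul_inv_eq_iff_eq_mul] at hcom
  have hwK : w ∈ U₁ ⊓ starOf M K := ⟨hP.1 hw, hPσ hw,
    d.fix g hg (ne_one_of_prime hgp) ⟨hPσ hw, mem_centralizer_singleton_iff.mpr hcom⟩⟩
  rw [d₁.inf_eq_bot hG, mem_bot] at hwK
  exact hw1 hwK

end CfsgLib.BG14
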